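import Groth.Agent.Lib.RGamma.Cls
import Groth.Agent.Lib.DerCat.RFAcyclic
import Groth.Agent.Lib.LocalCoh.Acyclic
import Groth.Prelude.Def_DRing3
import Mathlib.Algebra.Homology.HomotopyCategory.MappingCone

/-!
# `Γ_I` on complexes of modules divisible modulo torsion

If the terms of a complex are, recursively along a list of generators of `I`, divisible modulo
torsion (e.g. injective modules over a Noetherian ring), and its cohomology is `I`-power torsion,
then `Γ_I C ⟶ C` is a quasi-isomorphism.  In particular `Γ_I` preserves quasi-isomorphisms between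
such complexes, bounded or not.
-/

universe u

open CategoryTheory CategoryTheory.Limits

namespace Groth.Agent.Lib.RGamma

variable {A : Type u} [CommRing A]

lemma mem_torsionSub_singleton {M : Type u} [AddCommGroup M] [Module A M] {f : A} {x : M} :
    x ∈ DRing.torsionSub (Ideal.span {f}) M ↔ ∃ n : ℕ, f ^ n • x = 0 := by
  refine ⟨fun ⟨n, hn⟩ => ⟨n, hn _ (Ideal.pow_mem_pow (Ideal.mem_span_singleton_self f) n)⟩,
    fun ⟨n, hn⟩ => ⟨n, fun a ha => ?_⟩⟩
  rw [Ideal.span_singleton_pow, Ideal.mem_span_singleton'] at ha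
  obtain ⟨c, rfl⟩ := ha
  rw [mul_smul, hn, smul_zero]

/-- Every element is divisible by `f` modulo `f`-power torsion. -/
def Div (f : A) (M : Type u) [AddCommGroup M] [Module A M] : Prop :=
  ∀ x : M, ∃ y : M, x - f • y ∈ DRing.torsionSub (Ideal.span {f}) M

lemma Div.pow {f : A} {M : Type u} [AddCommGroup M] [Module A M] (h : Div f M) (n : ℕ) (x : M) :
    ∃ y : M, x - f ^ n • y ∈ DRing.torsionSub (Ideal.span {f}) M := by
  induction n generalizing x with
  | zero => exact ⟨x, by simp⟩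
  | succ n ih =>
    obtain ⟨y, hy⟩ := ih x
    obtain ⟨z, hz⟩ := h y
    refine ⟨z, ?_⟩
    have : x - f ^ (n + 1) • z = (x - f ^ n • y) + f ^ n • (y - f • z) := by
      rw [smul_sub, smul_smul, ← pow_succ]; abel
    rw [this]
    exact add_mem hy (Submodule.smul_mem _ _ hz)

/-- Divisibility modulo torsion, recursively along a list. -/
def Good : List A → ModuleCat.{u} A → Prop
  | [], _ => True
  | f :: l, M => Div f M ∧ Good l ((DRing.gammaI (Ideal.span {f})).obj M)

/-- The ideal of a list. -/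
def ide : List A → Ideal A
  | [] => ⊥
  | f :: l => Ideal.span {f} ⊔ ide l

lemma exists_ide_eq {I : Ideal A} (hI : I.FG) : ∃ l : List A, ide l = I := by
  obtain ⟨s, rfl⟩ := hI
  refine ⟨s.toList, ?_⟩
  have : ∀ l : List A, ide l = Ideal.span {x | x ∈ l} := by
    intro l
    induction l with
    | nil => simp [ide]
    | cons f l ih =>
      rw [ide, ih, ← Ideal.span_union]
      exact congrArg Ideal.span (by ext; simp)
  rw [this]
  exact congrArg Ideal.span (by ext; simp)

lemma mem_ide {l : List A} {f : A} (hf : f ∈ l) : f ∈ ide l := by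
  induction l with
  | nil => simp at hf
  | cons g l ih =>
    rcases List.mem_cons.1 hf with rfl | hf
    · exact Ideal.mem_sup_left (Ideal.mem_span_singleton_self _)
    · exact Ideal.mem_sup_right (ih hf)

/-- A module spanned by two good ones through the identity decomposition is good. -/
lemma good_of_sum : ∀ (l : List A) {M X Y : ModuleCat.{u} A} (p : M ⟶ X) (i : X ⟶ M) (q : M ⟶ Y)
    (j : Y ⟶ M), p ≫ i + q ≫ j = 𝟙 M → Good l X → Good l Y → Good l M
  | [], _, _, _, _, _, _, _, _, _, _ => trivial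
  | f :: l, M, X, Y, p, i, q, j, h, hX, hY => by
    refine ⟨fun x => ?_, good_of_sum l ((DRing.gammaI _).map p) ((DRing.gammaI _).map i)
      ((DRing.gammaI _).map q) ((DRing.gammaI _).map j)
      (by rw [← Functor.map_comp, ← Functor.map_comp, ← Functor.map_add, h,
        CategoryTheory.Functor.map_id]) hX.2 hY.2⟩
    obtain ⟨a, ha⟩ := hX.1 (p.hom x)
    obtain ⟨b, hb⟩ := hY.1 (q.hom x)
    refine ⟨i.hom a + j.hom b, ?_⟩
    have hx : i.hom (p.hom x) + j.hom (q.hom x) = x := congr($h x)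
    have : x - f • (i.hom a + j.hom b) =
        i.hom (p.hom x - f • a) + j.hom (q.hom x - f • b) := by
      simp only [map_sub, map_smul, smul_add]
      conv_lhs => rw [← hx]
      abel
    rw [this]
    exact add_mem (DRing.map_mem_torsionSub _ i.hom ha) (DRing.map_mem_torsionSub _ j.hom hb)

lemma good_of_iso (l : List A) {M N : ModuleCat.{u} A} (e : M ≅ N) (h : Good l M) : Good l N :=
  good_of_sum l e.inv e.hom (0 : N ⟶ M) 0 (by simp) h h

/-- Injective modules over a Noetherian ring are good. -/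
theorem good_of_injective [IsNoetherianRing A] :
    ∀ (l : List A) (M : ModuleCat.{u} A), Module.Injective A M → Good l M
  | [], _, _ => trivial
  | f :: l, M, hM => by
    refine ⟨fun x => ?_, good_of_injective l _ (LocalCoh.injective_torsionSub _ M)⟩
    obtain ⟨k, y, hy⟩ := LocalCoh.exists_pow_mul_eq M f x
    refine ⟨y, mem_torsionSub_singleton.2 ⟨k, ?_⟩⟩
    rw [← neg_sub, smul_neg, hy, neg_zero]

/-- The power torsion of a sum of two ideals. -/
def gammaCompEquiv (I J : Ideal A) (M : Type u) [AddCommGroup M] [Module A M] :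
    DRing.torsionSub J (DRing.torsionSub I M) ≃ₗ[A] DRing.torsionSub (I ⊔ J) M where
  toFun x := ⟨x.1.1, by
    obtain ⟨n, hn⟩ := x.1.2
    obtain ⟨m, hm⟩ := x.2
    refine ⟨n + m, fun a ha => ?_⟩
    obtain ⟨b, hb, c, hc, rfl⟩ := Submodule.mem_sup.1 (Ideal.sup_pow_add_le_pow_sup_pow ha)
    rw [add_smul, hn b hb, show c • x.1.1 = 0 from congrArg Subtype.val (hm c hc), add_zero]⟩
  invFun x := ⟨⟨x.1, by
      obtain ⟨n, hn⟩ := x.2
      exact ⟨n, fun a ha => hn a (Ideal.pow_right_mono le_sup_left n ha)⟩⟩, by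
      obtain ⟨n, hn⟩ := x.2
      exact ⟨n, fun a ha => Subtype.ext (hn a (Ideal.pow_right_mono le_sup_right n ha))⟩⟩
  map_add' _ _ := rfl
  map_smul' _ _ := rfl
  left_inv _ := rfl
  right_inv _ := rfl

/-- `Γ_J Γ_I = Γ_{I+J}`. -/
noncomputable def gammaCompIso (I J : Ideal A) :
    DRing.gammaI I ⋙ DRing.gammaI J ≅ DRing.gammaI (I ⊔ J) :=
  NatIso.ofComponents (fun M => (gammaCompEquiv I J M).toModuleIso) (fun _ => rfl)

/-- `Γ_I` on complexes. -/
noncomputable abbrev gam (I : Ideal A) :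
    CochainComplex (ModuleCat.{u} A) ℤ ⥤ CochainComplex (ModuleCat.{u} A) ℤ :=
  (DRing.gammaI I).mapHomologicalComplex (ComplexShape.up ℤ)

/-- The inclusion `Γ_I C ⟶ C`. -/
noncomputable def gamι (I : Ideal A) (C : CochainComplex (ModuleCat.{u} A) ℤ) :
    (gam I).obj C ⟶ C where
  f i := ModuleCat.ofHom (DRing.torsionSub I (C.X i)).subtype
  comm' _ _ _ := rfl

/-- `Γ_J Γ_I C ≅ Γ_{I+J} C`. -/
noncomputable def gamCompIso (I J : Ideal A) (C : CochainComplex (ModuleCat.{u} A) ℤ) :
    (gam J).obj ((gam I).obj C) ≅ (gam (I ⊔ J)).obj C :=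
  HomologicalComplex.Hom.isoOfComponents (fun i => (gammaCompIso I J).app (C.X i))
    (fun _ _ _ => rfl)

lemma gamCompIso_hom_gamι (I J : Ideal A) (C : CochainComplex (ModuleCat.{u} A) ℤ) :
    (gamCompIso I J C).hom ≫ gamι (I ⊔ J) C = gamι J ((gam I).obj C) ≫ gamι I C := by
  ext i : 1; rfl

lemma quasiIso_gamι_bot (C : CochainComplex (ModuleCat.{u} A) ℤ) :
    QuasiIso (gamι (⊥ : Ideal A) C) := by
  have : ∀ i, IsIso ((gamι (⊥ : Ideal A) C).f i) := fun i => by
    rw [ConcreteCategory.isIso_iff_bijective]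
    refine ⟨fun a b h => Subtype.ext h, fun x => ⟨⟨x, 1, fun a ha => ?_⟩, rfl⟩⟩
    rw [pow_one, Ideal.mem_bot] at ha
    rw [ha, zero_smul]
  have : IsIso (gamι (⊥ : Ideal A) C) := HomologicalComplex.Hom.isIso_of_components _
  infer_instance

/-- The cohomology is `f`-power torsion. -/
def HTors (f : A) (C : CochainComplex (ModuleCat.{u} A) ℤ) : Prop :=
  ∀ (i : ℤ) (a : C.homology i), ∃ n : ℕ, f ^ n • a = 0

lemma HTors.of_quasiIso {f : A} {C D : CochainComplex (ModuleCat.{u} A) ℤ} (φ : C ⟶ D)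
    [QuasiIso φ] (h : HTors f D) : HTors f C := by
  intro i a
  obtain ⟨n, hn⟩ := h i ((HomologicalComplex.homologyMap φ i).hom a)
  refine ⟨n, ?_⟩
  apply ((ConcreteCategory.isIso_iff_bijective (HomologicalComplex.homologyMap φ i)).1
    inferInstance).1
  show (HomologicalComplex.homologyMap φ i).hom (f ^ n • a) =
    (HomologicalComplex.homologyMap φ i).hom 0
  rw [map_smul, hn, map_zero]

/-- The case of one element. -/
theorem quasiIso_gamι_singleton (f : A) (C : CochainComplex (ModuleCat.{u} A) ℤ)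
    (hdiv : ∀ i, Div f (C.X i)) (hH : HTors f C) :
    QuasiIso (gamι (Ideal.span {f}) C) := by
  refine ⟨fun i => quasiIsoAt_of_cycles i _ (fun x hx => ?_) (fun z hz hw => ?_)⟩
  · obtain ⟨n, hn⟩ := hH i (cls C i ⟨x, hx⟩)
    rw [← map_smul, cls_eq_zero_iff] at hn
    obtain ⟨w, hw⟩ := hn
    obtain ⟨v, hv⟩ := (hdiv (i - 1)).pow n w
    obtain ⟨m, hm⟩ := mem_torsionSub_singleton.1
      (DRing.map_mem_torsionSub _ (C.d (i - 1) i).hom hv)
    rw [map_sub, hw, map_smul] at hm
    have ht : x - (C.d (i - 1) i).hom v ∈ DRing.torsionSub (Ideal.span {f}) (C.X i) := by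
      refine mem_torsionSub_singleton.2 ⟨m + n, ?_⟩
      rw [pow_add, mul_smul, smul_sub (f ^ n)]
      exact hm
    refine ⟨⟨_, ht⟩, v, Subtype.ext ?_, (sub_add_cancel _ _).symm⟩
    show (C.d i (i + 1)).hom (x - (C.d (i - 1) i).hom v) = 0
    rw [map_sub, hx, show (C.d i (i + 1)).hom ((C.d (i - 1) i).hom v) = 0 from
      congr($(C.d_comp_d (i - 1) i (i + 1)) v), sub_zero]
  · obtain ⟨w, hw⟩ := hw
    obtain ⟨z, hz'⟩ := z
    obtain ⟨n, hn⟩ := mem_torsionSub_singleton.1 hz'
    have hw : (C.d (i - 1) i).hom w = z := hw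
    have hi : i - 1 + 1 = i := by omega
    have hcyc : f ^ n • w ∈ Cyc C (i - 1) := by
      rw [LinearMap.mem_ker, hi, map_smul, hw, hn]
    obtain ⟨m, hm⟩ := hH (i - 1) (cls C (i - 1) ⟨_, hcyc⟩)
    rw [← map_smul, cls_eq_zero_iff] at hm
    obtain ⟨u, hu⟩ := hm
    obtain ⟨v, hv⟩ := (hdiv (i - 1 - 1)).pow (m + n) u
    obtain ⟨k, hk⟩ := mem_torsionSub_singleton.1
      (DRing.map_mem_torsionSub _ (C.d (i - 1 - 1) (i - 1)).hom hv)
    rw [map_sub, hu, map_smul] at hk
    have ht : w - (C.d (i - 1 - 1) (i - 1)).hom v ∈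
        DRing.torsionSub (Ideal.span {f}) (C.X (i - 1)) := by
      refine mem_torsionSub_singleton.2 ⟨k + (m + n), ?_⟩
      rw [pow_add, mul_smul, smul_sub (f ^ (m + n))]
      rw [show f ^ (m + n) • w = f ^ m • f ^ n • w by rw [smul_smul, ← pow_add]]
      exact hk
    refine ⟨⟨_, ht⟩, Subtype.ext ?_⟩
    show (C.d (i - 1) i).hom (w - (C.d (i - 1 - 1) (i - 1)).hom v) = z
    rw [map_sub, hw, show (C.d (i - 1) i).hom ((C.d (i - 1 - 1) (i - 1)).hom v) = 0 from
      congr($(C.d_comp_d (i - 1 - 1) (i - 1) i) v), sub_zero]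

/-- A good complex with torsion cohomology agrees with its torsion part. -/
theorem quasiIso_gamι : ∀ (l : List A) (C : CochainComplex (ModuleCat.{u} A) ℤ),
    (∀ i, Good l (C.X i)) → (∀ f ∈ l, HTors f C) → QuasiIso (gamι (ide l) C)
  | [], C, _, _ => quasiIso_gamι_bot C
  | f :: l, C, hC, hH => by
    have h1 := quasiIso_gamι_singleton f C (fun i => (hC i).1) (hH f List.mem_cons_self)
    have h2 := quasiIso_gamι l ((gam (Ideal.span {f})).obj C) (fun i => (hC i).2)
      (fun g hg => (hH g (List.mem_cons_of_mem _ hg)).of_quasiIso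
        (gamι (Ideal.span {f}) C))
    show QuasiIso (gamι (Ideal.span {f} ⊔ ide l) C)
    have e : gamι (Ideal.span {f} ⊔ ide l) C = (gamCompIso (Ideal.span {f}) (ide l) C).inv ≫
        gamι (ide l) ((gam (Ideal.span {f})).obj C) ≫ gamι (Ideal.span {f}) C := by
      rw [Iso.eq_inv_comp]
      exact gamCompIso_hom_gamι _ _ C
    rw [e]
    infer_instance

lemma hTors_of_acyclic {C : CochainComplex (ModuleCat.{u} A) ℤ} (h : C.Acyclic) (f : A) :
    HTors f C := fun i a => ⟨0, by
  have := ModuleCat.subsingleton_of_isZero (h i).isZero_homology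
  exact Subsingleton.elim _ _⟩

/-- `Γ_I` preserves quasi-isomorphisms of good complexes. -/
theorem quasiIso_gam_map {I : Ideal A} (l : List A) (hl : ide l = I)
    {C D : CochainComplex (ModuleCat.{u} A) ℤ} (φ : C ⟶ D) [QuasiIso φ]
    (hC : ∀ i, Good l (C.X i)) (hD : ∀ i, Good l (D.X i)) :
    QuasiIso ((gam I).map φ) := by
  subst hl
  have hM : (CochainComplex.mappingCone φ).Acyclic :=
    (DerCat.RFAcyclic.quasiIso_iff_acyclic_mappingCone φ).1 inferInstance
  have hg : ∀ i, Good l ((CochainComplex.mappingCone φ).X i) := fun i =>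
    good_of_sum l _ _ _ _ (CochainComplex.mappingCone.id_X φ i (i + 1) rfl) (hC _) (hD _)
  have := quasiIso_gamι l _ hg fun f _ => hTors_of_acyclic hM f
  rw [DerCat.RFAcyclic.quasiIso_iff_acyclic_mappingCone]
  intro i
  have h0 : (((gam (ide l)).obj (CochainComplex.mappingCone φ))).ExactAt i := by
    rw [HomologicalComplex.exactAt_iff_isZero_homology]
    exact ((hM i).isZero_homology).of_iso
      (asIso (HomologicalComplex.homologyMap (gamι (ide l) (CochainComplex.mappingCone φ)) i))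
  exact HomologicalComplex.ExactAt.of_iso h0
    (CochainComplex.mappingCone.mapHomologicalComplexIso φ (DRing.gammaI (ide l)))

end Groth.Agent.Lib.RGamma
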