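import Groth.Agent.Lib.RGamma.Derived
import Groth.Agent.Lib.LocalCoh.Change
import Groth.Agent.Lib.DR.FlatBC

/-!
# Change of rings for `colim_n Hom_D(A/I^n, -)`
-/

universe w u

open CategoryTheory CategoryTheory.Limits Opposite
open scoped TensorProduct

attribute [local instance] HasDerivedCategory.standard

namespace Groth.Agent.Lib.RGamma

variable {A : Type u} [CommRing A] (B : Type u) [CommRing B] [Algebra A B]

lemma ide_map (l : List A) : ide (l.map (algebraMap A B)) = (ide l).map (algebraMap A B) := by
  induction l with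
  | nil => simp [ide]
  | cons f l ih => simp [ide, ih, Ideal.map_sup, Ideal.map_span]

lemma span_singleton_map (f : A) :
    (Ideal.span {f}).map (algebraMap A B) = Ideal.span {algebraMap A B f} := by
  simp [Ideal.map_span]

/-- Restrictions of good modules are good. -/
lemma good_res : ∀ (l : List A) (E : ModuleCat.{u} B), Good (l.map (algebraMap A B)) E →
    Good l ((ModuleCat.restrictScalars (algebraMap A B)).obj E)
  | [], _, _ => trivial
  | f :: l, E, h => by
    refine ⟨fun x => ?_, good_of_iso l
      ((ModuleCat.restrictScalars (algebraMap A B)).mapIso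
        (eqToIso (congrArg (fun I => (DRing.gammaI I).obj E) (span_singleton_map B f))).symm ≪≫
          (LocalCoh.gammaRestrictIso B (Ideal.span {f})).app E) (good_res l _ h.2)⟩
    obtain ⟨y, hy⟩ := h.1 x
    obtain ⟨n, hn⟩ := mem_torsionSub_singleton.1 hy
    exact ⟨y, mem_torsionSub_singleton.2 ⟨n, (congrArg (· • (_ : E)) (map_pow _ _ _)).trans hn⟩⟩

/-- Flat base changes of good modules are good. -/
lemma good_bc [IsNoetherianRing A] [Module.Flat A B] : ∀ (l : List A) (E : ModuleCat.{u} A),
    Good l E → Good (l.map (algebraMap A B)) ((LocalCoh.bcFunctor B).obj E)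
  | [], _, _ => trivial
  | f :: l, E, h => by
    refine ⟨fun (x : B ⊗[A] E) => ?_, good_of_iso _
      ((LocalCoh.gammaBaseChangeIso B (Ideal.span {f})).app E ≪≫
        eqToIso (congrArg (fun I => (DRing.gammaI I).obj ((LocalCoh.bcFunctor B).obj E))
          (span_singleton_map B f))) (good_bc l _ h.2)⟩
    show ∃ y : B ⊗[A] E, x - algebraMap A B f • y ∈ DRing.torsionSub _ (B ⊗[A] E)
    induction x with
    | zero => exact ⟨0, by simp⟩
    | add a b ha hb =>
      obtain ⟨a', ha⟩ := ha
      obtain ⟨b', hb⟩ := hb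
      refine ⟨a' + b', ?_⟩
      rw [show a + b - algebraMap A B f • (a' + b') =
        (a - algebraMap A B f • a') + (b - algebraMap A B f • b') by rw [smul_add]; abel]
      exact add_mem ha hb
    | tmul b e =>
      obtain ⟨y, hy⟩ := h.1 e
      obtain ⟨n, hn⟩ := mem_torsionSub_singleton.1 hy
      refine ⟨b ⊗ₜ y, mem_torsionSub_singleton.2 ⟨n, ?_⟩⟩
      rw [← map_pow, algebraMap_smul, algebraMap_smul, ← TensorProduct.tmul_smul,
        ← TensorProduct.tmul_sub, ← TensorProduct.tmul_smul, hn, TensorProduct.tmul_zero]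

/-- `HDI` is computed by any resolution by good modules. -/
theorem nonempty_HDI_equiv_homology_of_good {A : Type u} [CommRing A] [IsNoetherianRing A]
    {I : Ideal A} {l : List A} (hl : ide l = I) (C : CochainComplex (ModuleCat.{u} A) ℤ)
    (hC : ∀ i, Good l (C.X i)) {K : Dual.D A} (e : K ≅ DerivedCategory.Q.obj C) (q : ℤ) :
    Nonempty (Dual2.HDI A I K q ≃ₗ[A] ((gam I).obj C).homology q) := by
  obtain ⟨J, r, hJ, hr, hinj⟩ := exists_res C
  obtain ⟨e₁⟩ := nonempty_HDI_equiv_homology I J (e ≪≫ asIso (DerivedCategory.Q.map r)) q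
  have := quasiIso_gam_map l hl r hC fun i =>
    good_of_injective l _ (Module.injective_module_of_injective_object A _ (inj := hinj i))
  exact ⟨e₁ ≪≫ₗ (asIso (HomologicalComplex.homologyMap ((gam I).map r) q)).symm.toLinearEquiv⟩

variable [IsNoetherianRing A]

/-- Local cohomology of a restriction. -/
theorem nonempty_HDI_restrict [IsNoetherianRing B] (I : Ideal A) (K : Dual.D B) (q : ℤ) :
    Nonempty (Dual2.HDI A I ((DRing.restrictD (algebraMap A B)).obj K) q ≅
      (ModuleCat.restrictScalars (algebraMap A B)).obj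
        (Dual2.HDI B (I.map (algebraMap A B)) K q)) := by
  obtain ⟨J, hJ, hinj, ⟨e⟩⟩ := exists_rep K
  obtain ⟨eB⟩ := nonempty_HDI_equiv_homology (I.map (algebraMap A B)) J e q
  obtain ⟨l, hl⟩ := exists_ide_eq (IsNoetherian.noetherian I)
  let R := ModuleCat.restrictScalars.{u} (algebraMap A B)
  let C := (R.mapHomologicalComplex (ComplexShape.up ℤ)).obj J
  obtain ⟨eA⟩ := nonempty_HDI_equiv_homology_of_good hl C (fun i => good_res B l _
      (good_of_injective _ _ (Module.injective_module_of_injective_object B _ (inj := hinj i))))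
    ((DRing.restrictD (algebraMap A B)).mapIso e ≪≫ R.mapDerivedCategoryFactors.app J) q
  let ec : (gam I).obj C ≅
      (R.mapHomologicalComplex (ComplexShape.up ℤ)).obj ((gam (I.map (algebraMap A B))).obj J) :=
    HomologicalComplex.Hom.isoOfComponents
      (fun i => ((LocalCoh.gammaRestrictIso B I).app (J.X i)).symm) (fun _ _ _ => rfl)
  let eh : ((gam I).obj C).homology q ≅ R.obj (((gam (I.map (algebraMap A B))).obj J).homology q) :=
    (HomologicalComplex.homologyFunctor _ _ q).mapIso ec ≪≫
      (((gam (I.map (algebraMap A B))).obj J).sc q).mapHomologyIso R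
  refine ⟨LinearEquiv.toModuleIso (m₂ := ((ModuleCat.restrictScalars (algebraMap A B)).obj
    (Dual2.HDI B (I.map (algebraMap A B)) K q)).isModule) ?_⟩
  exact eA ≪≫ₗ eh.toLinearEquiv ≪≫ₗ
    { toFun := fun x => eB.symm x
      invFun := fun y => eB y
      map_add' := fun x y => eB.symm.map_add x y
      map_smul' := fun a x => eB.symm.map_smul (algebraMap A B a) x
      left_inv := fun x => eB.apply_symm_apply x
      right_inv := fun y => eB.symm_apply_apply y }

omit [IsNoetherianRing A] in
/-- Extension of scalars is `B ⊗ -`, in any universe above `u`. -/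
noncomputable def extEquiv' (M : ModuleCat.{max u w} A) :
    (ModuleCat.extendScalars.{u, u, max u w} (algebraMap A B)).obj M ≃ₗ[B] B ⊗[A] M :=
  let g : (ModuleCat.extendScalars.{u, u, max u w} (algebraMap A B)).obj M ≃+ B ⊗[A] M :=
    (TensorProduct.congr (DR.FlatBC.resEquiv A B) (LinearEquiv.refl A M)).toAddEquiv
  AddEquiv.toLinearEquiv g fun b x => by
    refine TensorProduct.induction_on x ?_ (fun y m => rfl) ?_
    · exact (congrArg g (smul_zero (A := (ModuleCat.extendScalars.{u, u, max u w}
        (algebraMap A B)).obj M) b)).trans ((map_zero g).trans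
          ((smul_zero (A := B ⊗[A] M) b).symm.trans (congrArg (b • ·) (map_zero g).symm)))
    · intro x y hx hy
      exact (congrArg g (smul_add (A := (ModuleCat.extendScalars.{u, u, max u w}
        (algebraMap A B)).obj M) b x y)).trans ((map_add g _ _).trans
          ((congrArg₂ (· + ·) hx hy).trans ((smul_add (A := B ⊗[A] M) b (g x) (g y)).symm.trans
            (congrArg (b • ·) (map_add g _ _).symm))))

omit [IsNoetherianRing A] in
/-- Extension of scalars, as `bcFunctor`. -/
noncomputable def extIso :
    ModuleCat.extendScalars.{u, u, u} (algebraMap A B) ≅ LocalCoh.bcFunctor (R := A) B :=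
  NatIso.ofComponents
    (fun M => LinearEquiv.toModuleIso (m₂ := ((LocalCoh.bcFunctor B).obj M).isModule)
      (extEquiv'.{u, u} B M)) (fun {M N} f => by
    refine ModuleCat.hom_ext (LinearMap.ext fun x => ?_)
    refine TensorProduct.induction_on x ((map_zero _).trans (map_zero _).symm) (fun y m => rfl)
      fun a b ha hb => ?_
    exact (map_add _ a b).trans ((congrArg₂ (· + ·) ha hb).trans (map_add _ a b).symm))

/-- Local cohomology of a flat base change. -/
theorem nonempty_HDI_baseChange [IsNoetherianRing B] [Module.Flat A B]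
    [DRing.HasLBaseChange (algebraMap A B)] (I : Ideal A) (K : Dual.D A) (q : ℤ) :
    Nonempty (Dual2.HDI B (I.map (algebraMap A B))
        ((DRing.LBaseChange (algebraMap A B)).obj K) q ≅
      (ModuleCat.extendScalars (algebraMap A B)).obj (Dual2.HDI A I K q)) := by
  obtain ⟨E, hE, hinj, ⟨e⟩⟩ := exists_rep K
  obtain ⟨eA⟩ := nonempty_HDI_equiv_homology I E e q
  obtain ⟨l, hl⟩ := exists_ide_eq (IsNoetherian.noetherian I)
  let F := LocalCoh.bcFunctor (R := A) B
  have := (LocalCoh.bcFunctor_exact (R := A) B).1
  have := (LocalCoh.bcFunctor_exact (R := A) B).2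
  let P := (DR.KProjRes.res A).obj E
  let s : P ⟶ E := (DR.KProjRes.aug A).app E
  have hs : QuasiIso s := DR.KProjRes.quasiIso_aug (A := A) E
  have hFs : QuasiIso ((F.mapHomologicalComplex (ComplexShape.up ℤ)).map s) := inferInstance
  let eφ := (NatIso.mapHomologicalComplex (extIso (A := A) B) (ComplexShape.up ℤ))
  have hes : IsIso (DerivedCategory.Q.map
      (((ModuleCat.extendScalars.{u, u, u} (algebraMap A B)).mapHomologicalComplex
        (ComplexShape.up ℤ)).map s)) :=
    (NatIso.isIso_map_iff (Functor.isoWhiskerRight eφ DerivedCategory.Q) s).2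
      (inferInstanceAs (IsIso (DerivedCategory.Q.map
        ((F.mapHomologicalComplex (ComplexShape.up ℤ)).map s))))
  let C := (F.mapHomologicalComplex (ComplexShape.up ℤ)).obj E
  let eC : (DRing.LBaseChange (algebraMap A B)).obj K ≅ DerivedCategory.Q.obj C :=
    (DRing.LBaseChange (algebraMap A B)).mapIso (e ≪≫ (asIso (DerivedCategory.Q.map s)).symm) ≪≫
      DR.BaseChange.bc (algebraMap A B) P ≪≫
      asIso (DerivedCategory.Q.map (((ModuleCat.extendScalars.{u, u, u}
        (algebraMap A B)).mapHomologicalComplex (ComplexShape.up ℤ)).map s)) ≪≫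
      DerivedCategory.Q.mapIso (eφ.app E)
  obtain ⟨eB⟩ := nonempty_HDI_equiv_homology_of_good ((ide_map B l).trans (congrArg (Ideal.map (algebraMap A B)) hl)) C
    (fun i => good_bc B l _
      (good_of_injective _ _ (Module.injective_module_of_injective_object A _ (inj := hinj i))))
    eC q
  let ec : (gam (I.map (algebraMap A B))).obj C ≅
      (F.mapHomologicalComplex (ComplexShape.up ℤ)).obj ((gam I).obj E) :=
    HomologicalComplex.Hom.isoOfComponents
      (fun i => ((LocalCoh.gammaBaseChangeIso B I).app (E.X i)).symm)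
      (fun i j _ => ((LocalCoh.gammaBaseChangeIso B I).inv.naturality (E.d i j)).symm)
  let eh : ((gam (I.map (algebraMap A B))).obj C).homology q ≅ F.obj (((gam I).obj E).homology q) :=
    (HomologicalComplex.homologyFunctor _ _ q).mapIso ec ≪≫
      (((gam I).obj E).sc q).mapHomologyIso F
  exact ⟨LinearEquiv.toModuleIso (m₂ := ((ModuleCat.extendScalars (algebraMap A B)).obj
      (Dual2.HDI A I K q)).isModule)
    ((eB ≪≫ₗ eh.toLinearEquiv) ≪≫ₗ
      ((LinearEquiv.baseChange A B _ _ eA.symm).trans (extEquiv'.{u + 1, u} B _).symm :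
        B ⊗[A] (((gam I).obj E).homology q) ≃ₗ[B]
          (ModuleCat.extendScalars (algebraMap A B)).obj (Dual2.HDI A I K q)))⟩

end Groth.Agent.Lib.RGamma
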