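import Groth.Prelude.Def_DualLC
import Mathlib.Algebra.Homology.LocalCohomology

/-!
Local cohomology with supports in `V(I)` is local cohomology with respect to the powers of `I`.
-/

universe u

open CategoryTheory CategoryTheory.Limits

namespace Groth.Agent.Lib.RGamma.HTPowers

variable {A : Type u} [CommRing A] (I : Ideal A)

/-- The two categories of ideals agree. -/
def castFun : Dual2.IdealsIn (PrimeSpectrum.zeroLocus (I : Set A)) ⥤ localCohomology.SelfLERadical I :=
  ObjectProperty.ιOfLE fun _ hJ => (PrimeSpectrum.zeroLocus_subset_zeroLocus_iff _ _).1 hJ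

/-- The inverse. -/
def castInv : localCohomology.SelfLERadical I ⥤ Dual2.IdealsIn (PrimeSpectrum.zeroLocus (I : Set A)) :=
  ObjectProperty.ιOfLE fun _ hJ => (PrimeSpectrum.zeroLocus_subset_zeroLocus_iff _ _).2 hJ

instance : (castFun I).IsEquivalence :=
  Equivalence.isEquivalence_functor
    { functor := castFun I
      inverse := castInv I
      unitIso := Iso.refl _
      counitIso := Iso.refl _ }

variable [IsNoetherianRing A]

/-- The comparison. -/
noncomputable def iso (i : ℕ) :
    localCohomology.ofDiagram.{u, u} (Dual2.idealsInDiagram (PrimeSpectrum.zeroLocus (I : Set A))) i ≅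
      localCohomology I i :=
  localCohomology.isoOfFinal.{u, u, u} (castFun I) (localCohomology.selfLERadicalDiagram I) i ≪≫
    localCohomology.isoSelfLERadical I i

/-- The comparison at a module. -/
theorem nonempty_equiv (i : ℕ) (M : Type u) [AddCommGroup M] [Module A M] :
    Nonempty (Dual2.HT (PrimeSpectrum.zeroLocus (I : Set A)) i M ≃ₗ[A] LocCoh.H I i M) :=
  ⟨((iso I i).app (ModuleCat.of A M)).toLinearEquiv⟩

end Groth.Agent.Lib.RGamma.HTPowers
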