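import Groth.Agent.Lib.RGamma.KillHom
import Groth.Agent.Lib.DMod.LocalDuality
import Groth.Agent.Lib.DMod.LBC
import Groth.Agent.Lib.DMod.Gorenstein
import Groth.Agent.Lib.DMod.Pointwise
import Groth.Agent.Lib.InjHull.Basic
import Mathlib.RingTheory.Localization.BaseChange

/-!
# Annihilation of local cohomology at a prime, before and after localization
-/

universe u

open CategoryTheory CategoryTheory.Limits Opposite Pretriangulated TensorProduct

attribute [local instance] HasDerivedCategory.standard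

namespace Groth.Agent.Lib.RGamma.LocalKill

open Groth.Agent.Lib.RGamma.HDT Groth.Agent.Lib.DMod Groth.Agent.Lib.DMod.FlatHom

section Trunc

variable {A : Type u} [CommRing A]

/-- Postcomposition with a map with highly coconnected cone. -/
theorem bijective_postcomp (S : Triangle (Dual.D A)) (hS : S ∈ distTriang (Dual.D A)) (c i : ℤ)
    [S.obj₃.IsGE c] (hic : i < c) (M : ModuleCat.{u} A) :
    Function.Bijective fun g : (DerivedCategory.singleFunctor (ModuleCat.{u} A) 0).obj M ⟶ S.obj₁⟦i⟧ =>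
      g ≫ S.mor₁⟦i⟧' := by
  let Z : Dual.D A := (DerivedCategory.singleFunctor (ModuleCat.{u} A) 0).obj M
  let e : (Z⟦(-i)⟧)⟦i⟧ ≅ Z := (shiftFunctorCompIsoId (Dual.D A) (-i) i (by omega)).app Z
  have hZ : (Z⟦(-i)⟧).IsLE i :=
    DerivedCategory.TStructure.t.isLE_shift Z 0 (-i) i (by omega)
  have key : Function.Bijective fun g : Z⟦(-i)⟧ ⟶ S.obj₁ => g ≫ S.mor₁ := by
    constructor
    · intro g g' h
      rw [← sub_eq_zero]
      have h0 : (g - g') ≫ S.mor₁ = 0 := by rw [Preadditive.sub_comp, sub_eq_zero]; exact h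
      have : (S.obj₃⟦(-1 : ℤ)⟧).IsGE (c + 1) :=
        DerivedCategory.TStructure.t.isGE_shift S.obj₃ c (-1) (c + 1) (by omega)
      obtain ⟨l, hl⟩ := Triangle.coyoneda_exact₂ _ (inv_rot_of_distTriang _ hS) (g - g') h0
      rw [hl, DR.Basic.hom_eq_zero_of_isLE_of_isGE l (a := i) (b := c + 1) (by omega) hZ this]
      exact zero_comp
    · intro g
      obtain ⟨l, hl⟩ := Triangle.coyoneda_exact₂ _ hS g
        (DR.Basic.hom_eq_zero_of_isLE_of_isGE (g ≫ S.mor₂) (a := i) (b := c) hic hZ inferInstance)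
      exact ⟨l, hl.symm⟩
  let σ := fun X : Dual.D A => fun g : Z⟦(-i)⟧ ⟶ X => e.inv ≫ g⟦i⟧'
  have hσ : ∀ X, Function.Bijective (σ X) := fun X =>
    ((Iso.homFromEquiv e).bijective).comp
      ((Functor.FullyFaithful.ofFullyFaithful (shiftFunctor (Dual.D A) i)).map_bijective _ _)
  have hcomm : (fun g : Z ⟶ S.obj₁⟦i⟧ => g ≫ S.mor₁⟦i⟧') ∘ σ S.obj₁ =
      σ S.obj₂ ∘ fun g => g ≫ S.mor₁ := funext fun g => by
    show (e.inv ≫ g⟦i⟧') ≫ S.mor₁⟦i⟧' = e.inv ≫ (g ≫ S.mor₁)⟦i⟧'
    rw [Category.assoc, Functor.map_comp]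
  exact (Function.Bijective.of_comp_iff _ (hσ _)).1 (hcomm ▸ (hσ _).comp key)

theorem isIso_whisker {J : Type*} [Category J] (F : J ⥤ ModuleCat.{u} A)
    (S : Triangle (Dual.D A)) (hS : S ∈ distTriang (Dual.D A)) (c i : ℤ)
    [S.obj₃.IsGE c] (hic : i < c) :
    IsIso (Functor.whiskerLeft (F ⋙ DerivedCategory.singleFunctor (ModuleCat.{u} A) 0).op
      ((linearYoneda A (Dual.D A)).map (S.mor₁⟦i⟧'))) := by
  rw [NatTrans.isIso_iff_isIso_app]
  exact fun j => (ConcreteCategory.isIso_iff_bijective _).2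
    (bijective_postcomp S hS c i hic (F.obj j.unop))

theorem nonempty_hdt_equiv (T : Set (PrimeSpectrum A)) (S : Triangle (Dual.D A))
    (hS : S ∈ distTriang (Dual.D A)) (c i : ℤ) [S.obj₃.IsGE c] (hic : i < c) :
    Nonempty (Dual2.HDT A T S.obj₁ i ≃ₗ[A] Dual2.HDT A T S.obj₂ i) :=
  have := isIso_whisker (localCohomology.ringModIdeals (Dual2.idealsInDiagram T)) S hS c i hic
  ⟨(HasColimit.isoOfNatIso (asIso (Functor.whiskerLeft
    (localCohomology.ringModIdeals (Dual2.idealsInDiagram T) ⋙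
      DerivedCategory.singleFunctor (ModuleCat.{u} A) 0).op
    ((linearYoneda A (Dual.D A)).map (S.mor₁⟦i⟧'))))).toLinearEquiv⟩

theorem nonempty_hdi_equiv' (I : Ideal A) (S : Triangle (Dual.D A))
    (hS : S ∈ distTriang (Dual.D A)) (c i : ℤ) [S.obj₃.IsGE c] (hic : i < c) :
    Nonempty (Dual2.HDI A I S.obj₁ i ≃ₗ[A] Dual2.HDI A I S.obj₂ i) :=
  have := isIso_whisker (localCohomology.ringModIdeals (localCohomology.idealPowersDiagram I)) S hS c i hic
  ⟨(HasColimit.isoOfNatIso (asIso (Functor.whiskerLeft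
    (localCohomology.ringModIdeals (localCohomology.idealPowersDiagram I) ⋙
      DerivedCategory.singleFunctor (ModuleCat.{u} A) 0).op
    ((linearYoneda A (Dual.D A)).map (S.mor₁⟦i⟧'))))).toLinearEquiv⟩

/-- `HDI` of isomorphic objects. -/
theorem nonempty_hdi_iso (I : Ideal A) {X Y : Dual.D A} (e : X ≅ Y) (i : ℤ) :
    Nonempty (Dual2.HDI A I X i ≃ₗ[A] Dual2.HDI A I Y i) :=
  ⟨(HasColimit.isoOfNatIso (Functor.isoWhiskerLeft _
    ((linearYoneda A (Dual.D A)).mapIso ((shiftFunctor (Dual.D A) i).mapIso e)))).toLinearEquiv⟩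

end Trunc

section Dual

variable {R : Type u} [CommRing R] [IsLocalRing R] {E : Type u} [AddCommGroup E] [Module R E]

/-- Duality into the injective hull of the residue field is faithful in every universe. -/
theorem exists_dual_ne_zero {f : IsLocalRing.ResidueField R →ₗ[R] E}
    (hf : InjHull.IsInjectiveHull f) {G : Type*} [AddCommGroup G] [Module R G] {z : G} (hz : z ≠ 0) :
    ∃ φ : G →ₗ[R] E, φ z ≠ 0 := by
  let ρ := LinearMap.toSpanSingleton R G z
  let ι := (LinearMap.ker ρ).liftQ ρ le_rfl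
  have hι : Function.Injective ι :=
    LinearMap.ker_eq_bot.1 (Submodule.ker_liftQ_eq_bot _ _ _ le_rfl)
  have hle : ∀ r ∈ LinearMap.ker ρ, r ∈ IsLocalRing.maximalIdeal R := fun r hr hu =>
    hz (hu.smul_eq_zero.1 (LinearMap.mem_ker.1 hr))
  let π : (R ⧸ LinearMap.ker ρ) →ₗ[R] E :=
    f ∘ₗ (LinearMap.ker ρ).liftQ (Algebra.linearMap R (IsLocalRing.ResidueField R)) fun r hr =>
      LinearMap.mem_ker.2 (Ideal.Quotient.eq_zero_iff_mem.2 (hle r hr))
  obtain ⟨φ, hφ⟩ := (Module.Baer.of_injective hf.isInjective).extension_property ι hι π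
  refine ⟨φ, fun h => ?_⟩
  have h1 : ι (Submodule.Quotient.mk 1) = z := one_smul R z
  have h2 : π (Submodule.Quotient.mk 1) = 0 := by
    rw [← hφ]
    exact (congrArg φ h1).trans h
  have h3 : algebraMap R (IsLocalRing.ResidueField R) 1 = 0 :=
    hf.injective (h2.trans (map_zero f).symm)
  rw [map_one] at h3
  exact one_ne_zero h3

/-- An element of an index of `HDI` which vanishes in the limit vanishes at a later index. -/
theorem exists_of_ι_eq_zero (K : Dual.D R) (i : ℤ) (k : ℕᵒᵖᵒᵖ)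
    (g : (LocalDuality.sys K i).obj k) (h : (colimit.ι (LocalDuality.sys K i) k).hom g = 0) :
    ∃ (k' : ℕᵒᵖᵒᵖ) (f : k ⟶ k'), ((LocalDuality.sys K i).map f).hom g = 0 := by
  obtain ⟨k', f₁, f₂, hk⟩ := Concrete.colimit_exists_of_rep_eq (LocalDuality.sys K i) g 0
    (h.trans (map_zero (colimit.ι (LocalDuality.sys K i) k).hom).symm)
  exact ⟨k', f₁, hk.trans (map_zero ((LocalDuality.sys K i).map f₂).hom)⟩

variable [IsNoetherianRing R]

/-- Annihilation of `HDI` kills the classes in the limit. -/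
theorem kill_of_hdi {K : Dual.D R} {i : ℤ} {x : R}
    (h : ∀ y : Dual2.HDI R (IsLocalRing.maximalIdeal R) K i, x • y = 0) :
    KillHom.Kill {IsLocalRing.closedPoint R} K i x := fun J hJ g => by
  obtain ⟨n, hn⟩ := Ideal.exists_pow_le_of_le_radical_of_fg_radical
    (I := IsLocalRing.maximalIdeal R) (J := J) (by
      rw [Ideal.radical_eq_sInf]
      refine le_sInf fun P ⟨hP, hPp⟩ => ?_
      exact (congrArg PrimeSpectrum.asIdeal
        (Set.mem_singleton_iff.1 (hJ (show (⟨P, hPp⟩ : PrimeSpectrum R) ∈ _ from hP)))).ge)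
    (IsNoetherian.noetherian _)
  let g₀ : qD (IsLocalRing.maximalIdeal R ^ n) ⟶ K⟦i⟧ :=
    (DerivedCategory.singleFunctor (ModuleCat.{u} R) 0).map (qq hn) ≫ g
  let g' : (LocalDuality.sys K i).obj (op (op n)) := g₀
  obtain ⟨k', f, hf⟩ := exists_of_ι_eq_zero K i (op (op n)) (x • g')
    ((map_smul _ x g').trans (h _))
  have hnn : n ≤ k'.unop.unop := leOfHom f.unop.unop
  refine ⟨IsLocalRing.maximalIdeal R ^ k'.unop.unop, ?_, (Ideal.pow_le_pow_right hnn).trans hn, ?_⟩
  · intro P hP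
    rcases Nat.eq_zero_or_pos k'.unop.unop with h0 | h0
    · rw [h0, pow_zero, Ideal.one_eq_top, Submodule.top_coe, PrimeSpectrum.zeroLocus_univ] at hP
      exact hP.elim
    · exact PrimeSpectrum.ext (le_antisymm (IsLocalRing.le_maximalIdeal P.isPrime.ne_top)
        ((P.isPrime.pow_le_iff h0.ne').1 hP))
  · refine Eq.trans ?_ hf
    rw [map_smul]
    refine congrArg (x • ·) ?_
    show _ = (DerivedCategory.singleFunctor (ModuleCat.{u} R) 0).map
      (qq (Ideal.pow_le_pow_right hnn)) ≫ g₀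
    simp only [g₀]
    rw [← Category.assoc, ← Functor.map_comp]
    refine congrArg (fun q => (DerivedCategory.singleFunctor (ModuleCat.{u} R) 0).map q ≫ g) ?_
    refine ModuleCat.hom_ext (LinearMap.ext fun v => ?_)
    obtain ⟨v, rfl⟩ := Submodule.Quotient.mk_surjective _ v
    rfl

end Dual

section Prime

variable {A : Type u} [CommRing A] [IsNoetherianRing A] (q : PrimeSpectrum A)

local notation "R" => Localization.AtPrime q.asIdeal

/-- Vanishing of a base change. -/
theorem tmul_eq_zero_iff {M : Type*} [AddCommGroup M] [Module A M] (m : M) :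
    ((1 : R) ⊗ₜ[A] m : R ⊗[A] M) = 0 ↔ ∃ t ∉ q.asIdeal, t • m = 0 := by
  have : IsLocalizedModule q.asIdeal.primeCompl (TensorProduct.mk A R M 1) :=
    (isLocalizedModule_iff_isBaseChange q.asIdeal.primeCompl R _).2 (TensorProduct.isBaseChange A M R)
  refine (IsLocalizedModule.eq_zero_iff q.asIdeal.primeCompl (TensorProduct.mk A R M 1)).trans ?_
  exact ⟨fun ⟨t, ht⟩ => ⟨t, t.2, ht⟩, fun ⟨t, ht, h⟩ => ⟨⟨t, ht⟩, h⟩⟩

theorem tensor_killed_iff {M : Type*} [AddCommGroup M] [Module A M] (a : A) :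
    (∀ z : R ⊗[A] M, algebraMap A R a • z = 0) ↔ ∀ m : M, ∃ t ∉ q.asIdeal, t • (a • m) = 0 := by
  constructor
  · intro h m
    refine (tmul_eq_zero_iff q (a • m)).1 ?_
    rw [TensorProduct.tmul_smul, ← algebraMap_smul R a ((1 : R) ⊗ₜ[A] m)]
    exact h _
  · intro h z
    induction z using TensorProduct.induction_on with
    | zero => exact smul_zero _
    | tmul b m =>
      rw [algebraMap_smul, ← TensorProduct.tmul_smul, ← mul_one b, ← smul_eq_mul,
        ← TensorProduct.smul_tmul', (tmul_eq_zero_iff q (a • m)).2 (h m), smul_zero]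
    | add x y hx hy => rw [smul_add, hx, hy, add_zero]

variable {ω : Dual.D A} (hω : Dual.IsDualizing A ω)
include hω

theorem isDualizing_local : Dual.IsDualizing R ((L A R).obj ω) := by
  have : DRing.HasLBaseChange (algebraMap A R) := DR.BaseChangeU.hasLBaseChange _
  exact LBC.isDualizing_of_iso ((isoLBaseChange A R).app ω)
    (LBC.isDualizing_of_extended hω (LBC.extended_localization q.asIdeal.primeCompl))

theorem isNormalized_local :
    Dual.IsNormalized R (((L A R).obj ω)⟦Degree.deg hω q⟧) := fun i hi => by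
  obtain ⟨c, hc⟩ := FlatDualizing.exists_isGE (FlatDualizing.bddFin_of_dualizing hω)
  have h0 := Degree.notMem_support_of_ne_deg hω q (i := Degree.deg hω q + i) (by omega)
  rw [Module.notMem_support_iff] at h0
  have h1 : Subsingleton (R ⊗[A] (Dual.inD A (A ⧸ q.asIdeal) ⟶ ω⟦Degree.deg hω q + i⟧)) :=
    (LocalizedModule.equivTensorProduct q.asIdeal.primeCompl _).symm.toEquiv.subsingleton
  have h2 := (Pointwise.quotEquivGE R q.asIdeal hc (Degree.deg hω q + i)).symm.toEquiv.subsingleton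
  rw [IsLocalization.AtPrime.map_eq_maximalIdeal q.asIdeal R] at h2
  exact @Equiv.subsingleton _ _ (Linear.homCongr R (Iso.refl (Dual.inD R (IsLocalRing.ResidueField R)))
    ((shiftFunctorAdd (Dual.D R) (Degree.deg hω q) i).app ((L A R).obj ω)).symm).toEquiv h2

/-- Local duality at `q`: annihilation of `H^i_q(K_q)`. -/
theorem killed_iff {K : Dual.D A} (hK : ∀ j, Module.Finite A (Dual.HD A K j)) (a b : ℤ)
    (hab : ∀ j, j < a ∨ b < j → Subsingleton (Dual.HD A K j)) (i : ℤ) (x : A) :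
    (∀ y : Dual2.HDI R (IsLocalRing.maximalIdeal R) ((L A R).obj K) i, algebraMap A R x • y = 0) ↔
      ∀ g : K ⟶ ω⟦Degree.deg hω q - i⟧, ∃ t ∉ q.asIdeal, t • (x • g) = 0 := by
  obtain ⟨E, _, _, f, hf⟩ : ∃ (E : Type u) (_ : AddCommGroup E) (_ : Module R E)
      (f : IsLocalRing.ResidueField R →ₗ[R] E), InjHull.IsInjectiveHull f :=
    InjHull.Basic.exists_hull _
  obtain ⟨hLf, a', b', hLab⟩ := FlatDualizing.bddFin_L (B := R) (K := K) ⟨hK, a, b, hab⟩
  obtain ⟨e₀⟩ := LocalDuality.nonempty_hdi_equiv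
    (Gorenstein.isDualizing_shift (isDualizing_local q hω) (Degree.deg hω q))
    (isNormalized_local q hω) hf ((L A R).obj K) hLf a' b' hLab i
  obtain ⟨c, hc⟩ := FlatDualizing.exists_isGE (FlatDualizing.bddFin_of_dualizing hω)
  let Φe := LinearEquiv.ofBijective (Φ R K (ω⟦Degree.deg hω q - i⟧))
    (bij_of_bounded hab hK (FlatHom.isGE_shift_neg hc _))
  let e₁ : (R ⊗[A] (K ⟶ ω⟦Degree.deg hω q - i⟧)) ≃ₗ[R]
      ((L A R).obj K ⟶ (((L A R).obj ω)⟦Degree.deg hω q⟧)⟦-i⟧) :=
    Φe.trans (Linear.homCongr R (Iso.refl _)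
      (((L A R).commShiftIso (Degree.deg hω q - i)).app ω ≪≫
        (shiftFunctorAdd' (Dual.D R) (Degree.deg hω q) (-i) (Degree.deg hω q - i) (by omega)).app _))
  rw [← tensor_killed_iff q]
  constructor
  · intro h z
    by_contra hz
    obtain ⟨φ, hφ⟩ := exists_dual_ne_zero hf hz
    obtain ⟨y, hy⟩ := e₀.surjective (φ ∘ₗ e₁.symm.toLinearMap)
    refine hφ ?_
    have h2 := congrArg e₀ (h y)
    rw [map_smul, map_zero, hy] at h2
    have h3 := LinearMap.congr_fun h2 (e₁ z)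
    simp only [LinearMap.smul_apply, LinearMap.comp_apply, LinearEquiv.coe_coe,
      LinearEquiv.symm_apply_apply, LinearMap.zero_apply] at h3
    rw [map_smul]
    exact h3
  · intro h y
    apply e₀.injective
    rw [map_smul, map_zero]
    refine LinearMap.ext fun v => ?_
    obtain ⟨z, rfl⟩ := e₁.surjective v
    rw [LinearMap.smul_apply, LinearMap.zero_apply, ← map_smul, ← map_smul, h z, map_zero, map_zero]

theorem subsingleton_hdi_iff {K : Dual.D A} (hK : ∀ j, Module.Finite A (Dual.HD A K j)) (a b : ℤ)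
    (hab : ∀ j, j < a ∨ b < j → Subsingleton (Dual.HD A K j)) (i : ℤ) :
    Subsingleton (Dual2.HDI R (IsLocalRing.maximalIdeal R) ((L A R).obj K) i) ↔
      ∀ g : K ⟶ ω⟦Degree.deg hω q - i⟧, ∃ t ∉ q.asIdeal, t • g = 0 := by
  have h := killed_iff q hω hK a b hab i 1
  simp only [map_one, one_smul] at h
  rw [← h]
  exact ⟨fun _ y => Subsingleton.elim _ _, fun h => ⟨fun y z => (h y).trans (h z).symm⟩⟩

omit hω

/-- Annihilation of the maps out of `R ⊗ P` localizes. -/
theorem exists_smul_eq_zero {K : Dual.D A} {c : ℤ} (hK : K.IsGE c) (P : Type u) [AddCommGroup P]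
    [Module A P] [Module.Finite A P] (i : ℤ) (x : A)
    (h : ∀ z : Dual.inD R (R ⊗[A] P) ⟶ ((L A R).obj K)⟦i⟧, algebraMap A R x • z = 0)
    (g : Dual.inD A P ⟶ K⟦i⟧) : ∃ t ∉ q.asIdeal, t • (x • g) = 0 := by
  let e : R ⊗[A] (Dual.inD A P ⟶ K⟦i⟧) ≃ₗ[R]
      (Dual.inD R (R ⊗[A] P) ⟶ ((L A R).obj K)⟦i⟧) :=
    (LinearEquiv.ofBijective (Φ R (Dual.inD A P) (K⟦i⟧))
      (bij_inD P (FlatHom.isGE_shift_neg hK i))).trans
      (Linear.homCongr R DR.FlatBC.mapInD (((L A R).commShiftIso i).app K))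
  refine (tensor_killed_iff q x).1 (fun z => e.injective ?_) g
  rw [map_smul, map_zero]
  exact h _

/-- Annihilation of the maps out of the `A/q^n` kills `H^i_q(K_q)`. -/
theorem hdi_killed {K : Dual.D A} {c : ℤ} (hK : K.IsGE c) (i : ℤ) (x : A)
    (h : ∀ (n : ℕ) (g : Dual.inD A (A ⧸ q.asIdeal ^ n) ⟶ K⟦i⟧), x • g = 0)
    (y : Dual2.HDI R (IsLocalRing.maximalIdeal R) ((L A R).obj K) i) : algebraMap A R x • y = 0 := by
  obtain ⟨k, g, rfl⟩ := Concrete.colimit_exists_rep (LocalDuality.sys ((L A R).obj K) i) y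
  have hmap : (q.asIdeal ^ k.unop.unop).map (algebraMap A R) =
      IsLocalRing.maximalIdeal R ^ k.unop.unop := by
    rw [Ideal.map_pow, IsLocalization.AtPrime.map_eq_maximalIdeal q.asIdeal R]
  have h2 : ∀ z : Dual.inD R (R ⧸ (q.asIdeal ^ k.unop.unop).map (algebraMap A R)) ⟶
      ((L A R).obj K)⟦i⟧, algebraMap A R x • z = 0 := by
    intro z
    obtain ⟨v, rfl⟩ := (Pointwise.quotEquivGE R (q.asIdeal ^ k.unop.unop) hK i).surjective z
    rw [← map_smul, (tensor_killed_iff q x).2 (fun g => ⟨1, q.isPrime.one_notMem, by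
      rw [h, smul_zero]⟩) v, map_zero]
  rw [hmap] at h2
  rw [← map_smul]
  exact (congrArg _ (h2 g)).trans (map_zero _)

end Prime

end Groth.Agent.Lib.RGamma.LocalKill
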