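import Groth.Agent.Lib.RGamma.HDTFinite
import Groth.Agent.Lib.LocalCoh.Basic

/-!
# `HT` of a module is `HDT` of the module in degree zero
-/

universe u

open CategoryTheory CategoryTheory.Limits Opposite

attribute [local instance] HasDerivedCategory.standard

namespace Groth.Agent.Lib.RGamma.HDT

variable {A : Type u} [CommRing A] (T : Set (PrimeSpectrum A))

/-- The diagram of quotients. -/
noncomputable abbrev sys : (Dual2.IdealsIn T)ᵒᵖ ⥤ (ModuleCat.{u} A)ᵒᵖ :=
  (localCohomology.ringModIdeals (Dual2.idealsInDiagram T)).op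

/-- The identification of `Ext` with morphisms in `D(A)`. -/
noncomputable abbrev toD (X M : ModuleCat.{u} A) (i : ℕ) :
    Abelian.Ext.{u} X M i ≃ₗ[A] ((DerivedCategory.singleFunctor (ModuleCat.{u} A) 0).obj X ⟶
      ((DerivedCategory.singleFunctor (ModuleCat.{u} A) 0).obj M)⟦(i : ℤ)⟧) :=
  Abelian.Ext.homLinearEquiv

lemma toD_comp {X X' M : ModuleCat.{u} A} (q : X' ⟶ X) (i : ℕ) (α : Abelian.Ext.{u} X M i) :
    toD X' M i ((Abelian.Ext.mk₀ q).comp α (zero_add i)) =
      (DerivedCategory.singleFunctor (ModuleCat.{u} A) 0).map q ≫ toD X M i α := by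
  show ((Abelian.Ext.mk₀ q).comp α (zero_add i)).hom = _
  rw [Abelian.Ext.comp_hom, Abelian.Ext.mk₀_hom, ShiftedHom.mk₀_comp]
  rfl

/-- Comparison between `HT` and `HDT`. -/
theorem nonempty_HT_equiv (i : ℕ) (M : Type u) [AddCommGroup M] [Module A M] :
    Nonempty (Dual2.HDT A T (Dual.inD A M) i ≃ₗ[A] Dual2.HT T i M) := by
  let Mc := ModuleCat.of A M
  let X := ((DerivedCategory.singleFunctor (ModuleCat.{u} A) 0).obj Mc)⟦(i : ℤ)⟧
  let E := (LocalCoh.colimExt (sys T) i).obj Mc
  let e₀ : localCohomology.ofDiagram.{u, u} (Dual2.idealsInDiagram T) i ≅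
      LocalCoh.colimExt (sys T) i :=
    HasColimit.isoOfNatIso (Functor.isoWhiskerLeft (sys T) (LocalCoh.extIso A i))
  let φ : ∀ j, (diag T X).obj j →ₗ[A] E := fun j =>
    (LocalCoh.colimExt.ι (sys T) i j Mc).hom ∘ₗ (toD ((sys T).obj j).unop Mc i).symm.toLinearMap
  let c : Cocone (diag T X) :=
    { pt := ModuleCat.of A (ULift.{u + 1} E)
      ι :=
        { app := fun j => ModuleCat.ofHom
            ((ULift.moduleEquiv.symm : E ≃ₗ[A] _).toLinearMap ∘ₗ φ j)
          naturality := fun j k g => by
            ext x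
            obtain ⟨α, rfl⟩ := (toD ((sys T).obj j).unop Mc i).surjective x
            refine congrArg ULift.up ?_
            show φ k ((DerivedCategory.singleFunctor (ModuleCat.{u} A) 0).map
              ((sys T).map g).unop ≫ toD ((sys T).obj j).unop Mc i α) = φ j _
            rw [← toD_comp]
            refine (congrArg (LocalCoh.colimExt.ι (sys T) i k Mc).hom
              ((toD ((sys T).obj k).unop Mc i).symm_apply_apply _)).trans
              ((LocalCoh.colimExt.w_apply (sys T) i g Mc α).trans ?_)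
            exact (congrArg (LocalCoh.colimExt.ι (sys T) i j Mc).hom
              ((toD ((sys T).obj j).unop Mc i).symm_apply_apply α)).symm } }
  have hc : ∀ (J : Ideal A) (h : mem T J) (g : qD J ⟶ X),
      (colimit.desc (diag T X) c).hom (cl J h g) = ULift.up (φ (idx J h) g) :=
    fun J h g => congr($(colimit.ι_desc c (idx J h)) g)
  have hb : Function.Bijective (colimit.desc (diag T X) c).hom := by
    constructor
    · refine (injective_iff_map_eq_zero _).2 fun a ha => ?_
      obtain ⟨J, h, g, rfl⟩ := exists_rep a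
      obtain ⟨α, rfl⟩ := (toD ((sys T).obj (idx J h)).unop Mc i).surjective g
      have h0 : (LocalCoh.colimExt.ι (sys T) i (idx J h) Mc).hom α = 0 := by
        have h1 : φ (idx J h) (toD ((sys T).obj (idx J h)).unop Mc i α) = 0 :=
          congrArg ULift.down ((hc J h _).symm.trans ha)
        exact (congrArg (LocalCoh.colimExt.ι (sys T) i (idx J h) Mc).hom
          ((toD ((sys T).obj (idx J h)).unop Mc i).symm_apply_apply α)).symm.trans h1
      obtain ⟨k', g', hk⟩ := (LocalCoh.colimExt.ι_eq_zero_iff (sys T) i Mc _ α).1 h0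
      refine (cl_eq_zero_iff h _).2 ⟨k'.unop.obj, k'.unop.property, le_of_arr g'.unop, ?_⟩
      refine ((toD_comp ((sys T).map g').unop i α).symm.trans ?_)
      rw [hk]
      exact map_zero _
    · rintro ⟨e⟩
      obtain ⟨k, α, rfl⟩ := LocalCoh.colimExt.exists_rep (sys T) i Mc e
      refine ⟨cl k.unop.obj k.unop.property (toD ((sys T).obj k).unop Mc i α), (hc _ _ _).trans ?_⟩
      exact congrArg ULift.up (congrArg (LocalCoh.colimExt.ι (sys T) i k Mc).hom
        ((toD ((sys T).obj k).unop Mc i).symm_apply_apply α))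
  exact ⟨(LinearEquiv.ofBijective _ hb).trans
    (ULift.moduleEquiv.trans (e₀.app Mc).toLinearEquiv.symm)⟩

end Groth.Agent.Lib.RGamma.HDT
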