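import Groth.Agent.Lib.RGamma.AnnihilatorThm
import Groth.Agent.Lib.RGamma.HTExt
import Groth.Agent.Lib.DMod.DepthDegree

/-!
# The annihilator theorem for local cohomology of modules, in terms of depth
-/

universe u

open CategoryTheory

attribute [local instance] HasDerivedCategory.standard

namespace Groth.Agent.Lib.RGamma.AnnihilatorModule

open Groth.Agent.Lib.RGamma.HDT Groth.Agent.Lib.DMod

variable {A : Type u} [CommRing A] [IsNoetherianRing A] (hA : ∃ ω : Dual.D A, Dual.IsDualizing A ω)
  {T T' : Set (PrimeSpectrum A)} (hT : StableUnderSpecialization T)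
  (hT' : StableUnderSpecialization T') (s : ℕ) (M : Type u) [AddCommGroup M] [Module A M]
  [Module.Finite A M]

include hA hT hT'

/-- Annihilation of `H^i_T(M)` for `i ≤ s` in terms of depths. -/
theorem annihilated_iff :
    (∃ J : Ideal A, mem T' J ∧ ∀ i : ℤ, i ≤ s → ∀ x ∈ J,
        ∀ y : Dual2.HDT A T (Dual.inD A M) i, x • y = 0) ↔
      ∀ p q : PrimeSpectrum A, p ∉ T' → q ∈ T → p ≤ q → (s : WithBot ℕ∞) <
        ((LocCoh.depth (Localization.AtPrime p.asIdeal) (LocalizedModule p.asIdeal.primeCompl M) :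
          ℕ∞) : WithBot ℕ∞) + Order.krullDim (Set.Icc p q) := by
  obtain ⟨ω, hω⟩ := hA
  have hM : ∀ i, Module.Finite A (Dual.HD A (Dual.inD A M) i) := fun i => Basic.finite_HD_inD M i
  have hb : ∀ i : ℤ, i < 0 ∨ 0 < i → Subsingleton (Dual.HD A (Dual.inD A M) i) := fun i hi =>
    Basic.subsingleton_HD_inD M (by omega)
  rw [AnnihilatorThm.annihilated_iff hT hω hM 0 hT' (fun i hi => hb i (Or.inl hi)) (s : ℤ)]
  have key : ∀ (p : PrimeSpectrum A) (h : ℕ),
      ((s : WithBot ℕ∞) < ((LocCoh.depth (Localization.AtPrime p.asIdeal)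
          (LocalizedModule p.asIdeal.primeCompl M) : ℕ∞) : WithBot ℕ∞) + (h : WithBot ℕ∞)) ↔
        ∀ i : ℤ, i ≤ (s : ℤ) - h → Subsingleton (Dual2.HDI (Localization.AtPrime p.asIdeal)
          (IsLocalRing.maximalIdeal (Localization.AtPrime p.asIdeal))
          ((FlatHom.L A (Localization.AtPrime p.asIdeal)).obj (Dual.inD A M)) i) := by
    intro p h
    have hiff := fun i : ℤ => LocalKill.subsingleton_hdi_iff p hω hM 0 0 hb i
    simp only [hiff, ← Module.notMem_support_iff']
    by_cases hp : p ∈ Module.support A M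
    · obtain ⟨n, hn, hmem, hmax⟩ := DepthDegree.depth_eq hω p M hp
      rw [hn]
      constructor
      · intro hlt i hi
        refine hmax _ ?_
        have : s < n + h := by exact_mod_cast hlt
        omega
      · intro hall
        by_contra hlt
        refine hall n ?_ hmem
        have : ¬ s < n + h := fun h' => hlt (by exact_mod_cast h')
        omega
    · have hsub : Subsingleton (LocalizedModule p.asIdeal.primeCompl M) :=
        Module.notMem_support_iff.1 hp
      rw [LocCoh.depth, LocCoh.idealDepth, if_pos (Subsingleton.elim _ _)]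
      refine iff_of_true ?_ fun i _ => HomSupp.notMem_support_equiv
        (Linear.homCongr A ((shiftFunctorZero (Dual.D A) ℤ).app _) (Iso.refl _))
        (HomSupp.notMem_support_hom_inD_left M hp 0 _)
      exact_mod_cast (show (s : ℕ∞) < ⊤ + (h : ℕ∞) by simp)
  refine forall₂_congr fun p q => ?_
  constructor
  · intro h hp hq hpq
    rw [AnnihilatorThm.krullDim_Icc hω hpq, key]
    have := Degree.deg_le hω hpq
    exact fun i hi => h hpq hp hq i (by omega)
  · intro h hpq hp hq i hi
    have h' := h hp hq hpq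
    rw [AnnihilatorThm.krullDim_Icc hω hpq, key] at h'
    have := Degree.deg_le hω hpq
    exact h' i (by omega)

omit hA hT hT' in
/-- The nonnegative degrees suffice. -/
theorem HT_iff :
    (∃ J : Ideal A, mem T' J ∧ ∀ i : ℕ, i ≤ s → ∀ x ∈ J, ∀ y : Dual2.HT T i M, x • y = 0) ↔
      ∃ J : Ideal A, mem T' J ∧ ∀ i : ℤ, i ≤ s → ∀ x ∈ J,
        ∀ y : Dual2.HDT A T (Dual.inD A M) i, x • y = 0 := by
  have e := fun i : ℕ => Classical.choice (HDT.nonempty_HT_equiv T i M)
  refine exists_congr fun J => and_congr_right fun _ => ⟨fun h i hi x hx y => ?_, fun h i hi x hx y => ?_⟩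
  · rcases lt_or_ge i 0 with hi' | hi'
    · exact HDT.eq_zero_below (fun j hj => Basic.subsingleton_HD_inD M (by omega)) hi' _
    · obtain ⟨k, rfl⟩ := Int.eq_ofNat_of_zero_le hi'
      refine (e k).injective ?_
      rw [map_smul, map_zero]
      exact h k (by omega) x hx _
  · refine (e i).symm.injective ?_
    rw [map_smul, map_zero]
    exact h i (by omega) x hx _

end Groth.Agent.Lib.RGamma.AnnihilatorModule
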