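import Groth.Agent.Lib.RGamma.Colim
import Groth.Agent.Lib.RGamma.Good
import Groth.Prelude.Def_DualLC
import Mathlib.Algebra.Homology.DerivedCategory.KInjective
import Mathlib.Algebra.Homology.DerivedCategory.Linear
import Mathlib.Algebra.Homology.HomotopyCategory.HomComplexSingle

/-!
# `colim_n Hom_D(A/I^n, L[q])` is the cohomology of `Γ_I L` for K-injective `L`
-/

universe u

open CategoryTheory CategoryTheory.Limits Opposite

attribute [local instance] HasDerivedCategory.standard

namespace Groth.Agent.Lib.RGamma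

variable {A : Type u} [CommRing A]

section KInj

variable {C : Type*} [Category C] [Abelian C] [HasDerivedCategory C]
variable {S L : CochainComplex C ℤ} [L.IsKInjective]

lemma Q_map_surjective_of_isKInjective :
    Function.Surjective (DerivedCategory.Q.map : (S ⟶ L) → _) := by
  intro g
  obtain ⟨φ', hφ'⟩ := (CochainComplex.IsKInjective.Qh_map_bijective _ L).2
    ((DerivedCategory.quotientCompQhIso C).hom.app S ≫ g ≫
      (DerivedCategory.quotientCompQhIso C).inv.app L)
  obtain ⟨φ, rfl⟩ := (HomotopyCategory.quotient _ _).map_surjective φ'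
  refine ⟨φ, ?_⟩
  have h := (DerivedCategory.quotientCompQhIso C).hom.naturality φ
  simp only [Functor.comp_map] at h
  rw [hφ', Category.assoc, Category.assoc, Iso.inv_hom_id_app, Category.comp_id] at h
  exact ((cancel_epi _).1 h).symm

lemma Q_map_eq_zero_iff {φ : S ⟶ L} :
    DerivedCategory.Q.map φ = 0 ↔ Nonempty (Homotopy φ 0) := by
  refine ⟨fun h => ⟨HomotopyCategory.homotopyOfEq _ _
    ((CochainComplex.IsKInjective.Qh_map_bijective _ L).1 ?_)⟩, fun ⟨h⟩ => ?_⟩
  · have e := (DerivedCategory.quotientCompQhIso C).hom.naturality φ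
    rw [h, comp_zero] at e
    simp only [Functor.comp_map] at e
    rw [Functor.map_zero, Functor.map_zero]
    exact zero_of_comp_mono _ e
  · have e := (DerivedCategory.quotientCompQhIso C).hom.naturality φ
    simp only [Functor.comp_map, HomotopyCategory.eq_of_homotopy _ _ h, Functor.map_zero,
      zero_comp] at e
    exact zero_of_epi_comp _ e.symm

end KInj

section Pairing

open CochainComplex.HomComplex

variable (M : ModuleCat.{u} A) (L : CochainComplex (ModuleCat.{u} A) ℤ)

/-- Maps from `M` to the cycles in degree `0`. -/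
abbrev PreHom : Submodule A (M ⟶ L.X 0) :=
  LinearMap.ker (Linear.rightComp A M (L.d 0 1))

variable {M L}

/-- The map of complexes of a map to the cycles. -/
noncomputable def toCx (f : PreHom M L) : (HomologicalComplex.single _ (ComplexShape.up ℤ) 0).obj M ⟶ L :=
  HomologicalComplex.mkHomFromSingle f.1 fun k (hk : (0 : ℤ) + 1 = k) => by
    subst hk; exact f.2

lemma toCx_f (f : PreHom M L) :
    (toCx f).f 0 = (HomologicalComplex.singleObjXSelf (ComplexShape.up ℤ) 0 M).hom ≫ f.1 :=
  HomologicalComplex.mkHomFromSingle_f _ _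

variable (M L)

/-- The morphism of `D(A)` of a map to the cycles. -/
noncomputable def psi :
    PreHom M L →ₗ[A] ((DerivedCategory.singleFunctor (ModuleCat.{u} A) 0).obj M ⟶
      DerivedCategory.Q.obj L) where
  toFun f := DerivedCategory.Q.map (toCx f)
  map_add' f g :=
    (congrArg DerivedCategory.Q.map (show toCx (f + g) = toCx f + toCx g from
      HomologicalComplex.from_single_hom_ext (by simp [toCx_f]))).trans
        (Functor.map_add _)
  map_smul' a f :=
    (congrArg DerivedCategory.Q.map (show toCx (a • f) = a • toCx f from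
      HomologicalComplex.from_single_hom_ext (by simp [toCx_f]))).trans
        (Functor.map_smul _ _ _)

variable {M L} [L.IsKInjective]

lemma psi_surjective : Function.Surjective (psi M L) := by
  intro g
  obtain ⟨φ, hφ⟩ := Q_map_surjective_of_isKInjective
    (S := (HomologicalComplex.single _ (ComplexShape.up ℤ) 0).obj M) g
  let f : M ⟶ L.X 0 := (HomologicalComplex.singleObjXSelf (ComplexShape.up ℤ) 0 M).inv ≫ φ.f 0
  have hf : f ∈ PreHom M L := by
    show f ≫ L.d 0 1 = 0
    simp only [f, Category.assoc, φ.comm]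
    simp
  refine ⟨⟨f, hf⟩, ?_⟩
  exact (congrArg DerivedCategory.Q.map (show toCx ⟨f, hf⟩ = φ from
    HomologicalComplex.from_single_hom_ext (by simp [toCx_f, f]))).trans hφ

lemma psi_eq_zero_iff (f : PreHom M L) :
    psi M L f = 0 ↔ ∃ g : M ⟶ L.X (-1), g ≫ L.d (-1) 0 = f.1 := by
  let φ : (CochainComplex.singleFunctor (ModuleCat.{u} A) 0).obj M ⟶ L := toCx f
  have e : Cochain.ofHom φ = Cochain.fromSingleMk f.1 (zero_add 0) := by
    apply (Cochain.fromSingleEquiv (zero_add 0)).injective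
    rw [Cochain.fromSingleEquiv_fromSingleMk]
    show (HomologicalComplex.singleObjXSelf (ComplexShape.up ℤ) 0 M).inv ≫
      (Cochain.ofHom φ).v 0 0 (add_zero 0) = _
    rw [Cochain.ofHom_v]
    exact (congrArg _ (toCx_f f)).trans (Iso.inv_hom_id_assoc _ _)
  refine (Q_map_eq_zero_iff (φ := φ)).trans ⟨fun ⟨h⟩ => ?_, fun ⟨g, hg⟩ => ⟨?_⟩⟩
  · obtain ⟨z, hz⟩ := Cochain.equivHomotopy _ _ h
    obtain ⟨g, rfl⟩ := Cochain.fromSingleMk_surjective z (-1) (zero_add _)
    have hd := Cochain.δ_fromSingleMk g (zero_add (-1)) 0 0 (zero_add 0)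
    rw [Cochain.ofHom_zero, add_zero] at hz
    exact ⟨g, ((Cochain.fromSingleEquiv (zero_add 0)).symm.injective
      (e.symm.trans (hz.trans hd))).symm⟩
  · refine (Cochain.equivHomotopy _ _).symm ⟨Cochain.fromSingleMk g (zero_add (-1)), ?_⟩
    have hd := Cochain.δ_fromSingleMk g (zero_add (-1)) 0 0 (zero_add 0)
    rw [Cochain.ofHom_zero, add_zero]
    refine e.trans (Eq.trans ?_ hd.symm)
    rw [hg]

omit [L.IsKInjective] in
lemma map_comp_psi {M' : ModuleCat.{u} A} (q : M' ⟶ M) (f : PreHom M L)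
    (hq : q ≫ f.1 ∈ PreHom M' L) :
    (DerivedCategory.singleFunctor (ModuleCat.{u} A) 0).map q ≫ psi M L f =
      psi M' L ⟨q ≫ f.1, hq⟩ := by
  show DerivedCategory.Q.map _ ≫ DerivedCategory.Q.map _ = DerivedCategory.Q.map _
  rw [← Functor.map_comp]
  congr 1
  refine HomologicalComplex.from_single_hom_ext ?_
  simp [toCx_f, CochainComplex.singleFunctors,
    HomologicalComplex.single_map_f_self]
  erw [Category.assoc, Category.assoc, Iso.inv_hom_id_assoc]
  rfl

end Pairing

section Main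

variable (I : Ideal A) (L : CochainComplex (ModuleCat.{u} A) ℤ)

/-- `A/I^n`. -/
noncomputable abbrev quo (n : ℕ) : ModuleCat.{u} A := ModuleCat.of A (A ⧸ I ^ n)

/-- The image of `1`, in the torsion. -/
noncomputable def evalTors (n : ℕ) (T : ModuleCat.{u} A) :
    (quo I n ⟶ T) →ₗ[A] DRing.torsionSub I T where
  toFun f := ⟨f.hom (Ideal.Quotient.mk (I ^ n) 1), n, fun a ha => by
    rw [← map_smul]
    have : a • (Ideal.Quotient.mk (I ^ n) 1 : A ⧸ I ^ n) = 0 := by
      rw [Algebra.smul_def, Ideal.Quotient.algebraMap_eq,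
        Ideal.Quotient.eq_zero_iff_mem.2 ha, zero_mul]
    rw [this, map_zero]⟩
  map_add' _ _ := rfl
  map_smul' _ _ := rfl

lemma exists_evalTors {T : ModuleCat.{u} A} (x : T) {n : ℕ} (hn : ∀ a ∈ I ^ n, a • x = 0) :
    ∃ f : quo I n ⟶ T, f.hom (Ideal.Quotient.mk (I ^ n) 1) = x :=
  ⟨ModuleCat.ofHom (Submodule.liftQ (I ^ n) (LinearMap.toSpanSingleton A T x)
    fun a ha => hn a ha), one_smul A x⟩

lemma quo_hom_ext {T : ModuleCat.{u} A} {n : ℕ} {f g : quo I n ⟶ T}
    (h : f.hom (Ideal.Quotient.mk (I ^ n) 1) = g.hom (Ideal.Quotient.mk (I ^ n) 1)) : f = g := by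
  refine ModuleCat.hom_ext (Submodule.linearMap_qext _ (LinearMap.ext_ring ?_))
  exact h

/-- The class of a map to the cycles. -/
noncomputable def chi (n : ℕ) : PreHom (quo I n) L →ₗ[A] ((gam I).obj L).homology 0 :=
  cls ((gam I).obj L) 0 ∘ₗ LinearMap.codRestrict (Cyc ((gam I).obj L) 0)
    (evalTors I n (L.X 0) ∘ₗ Submodule.subtype _) fun f => Subtype.ext
      (congr($(f.2) (Ideal.Quotient.mk (I ^ n) 1)))

/-- The transition map. -/
noncomputable abbrev qmap {n m : ℕ} (h : n ≤ m) : quo I m ⟶ quo I n :=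
  ModuleCat.ofHom (Submodule.mapQ (I ^ m) (I ^ n) LinearMap.id (Ideal.pow_le_pow_right h))

lemma qmap_one {n m : ℕ} (h : n ≤ m) :
    (qmap I h).hom (Ideal.Quotient.mk (I ^ m) 1) = Ideal.Quotient.mk (I ^ n) 1 := rfl

variable [L.IsKInjective]

/-- `colim_n Hom_D(A/I^n, L) ≃ H^0(Γ_I L)`. -/
theorem nonempty_colim_hom_equiv :
    Nonempty ((colimit ((localCohomology.ringModIdeals (localCohomology.idealPowersDiagram I) ⋙
        DerivedCategory.singleFunctor (ModuleCat.{u} A) 0).op ⋙
          (linearYoneda A (Dual.D A)).obj (DerivedCategory.Q.obj L)) : ModuleCat.{u + 1} A) ≃ₗ[A]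
      ((gam I).obj L).homology 0) := by
  have hker : ∀ n, LinearMap.ker (psi (quo I n) L) ≤ LinearMap.ker (chi I L n) := fun n f hf => by
    obtain ⟨g, hg⟩ := (psi_eq_zero_iff f).1 hf
    rw [LinearMap.mem_ker, chi, LinearMap.comp_apply, cls_eq_zero_iff]
    refine ⟨evalTors I n _ g, Subtype.ext ?_⟩
    show (L.d (-1) 0).hom (g.hom _) = f.1.hom _
    rw [← hg]
    rfl
  let e := fun n => (psi (quo I n) L).quotKerEquivOfSurjective psi_surjective
  let φ := fun n => (LinearMap.ker (psi (quo I n) L)).liftQ (chi I L n) (hker n) ∘ₗ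
    (e n).symm.toLinearMap
  have hφ : ∀ n f, φ n (psi (quo I n) L f) = chi I L n f := fun n f => by
    simp only [φ, LinearMap.comp_apply, LinearEquiv.coe_coe]
    rw [show (e n).symm (psi (quo I n) L f) = Submodule.Quotient.mk f from
      (LinearEquiv.symm_apply_eq _).2 rfl]
    rfl
  refine nonempty_colimit_equiv _ _ (fun j => φ j.unop.unop) (fun {j k} g x => ?_) (fun h => ?_)
    (fun j x hx => ?_)
  · obtain ⟨f, rfl⟩ := psi_surjective (M := quo I j.unop.unop) x
    have hle : j.unop.unop ≤ k.unop.unop := leOfHom g.unop.unop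
    have hq : qmap I hle ≫ f.1 ∈ PreHom (quo I k.unop.unop) L := by
      show (qmap I hle ≫ f.1) ≫ _ = 0
      rw [Category.assoc, show f.1 ≫ L.d 0 1 = 0 from f.2, comp_zero]
    refine (congrArg (φ k.unop.unop) (map_comp_psi (qmap I hle) f hq)).trans ?_
    refine (hφ k.unop.unop _).trans (Eq.trans ?_ (hφ j.unop.unop f).symm)
    rfl
  · obtain ⟨⟨⟨z, n, hn⟩, hz⟩, rfl⟩ := cls_surjective _ _ h
    obtain ⟨f, hf⟩ := exists_evalTors I z hn
    have hfm : f ∈ PreHom (quo I n) L := by
      show f ≫ L.d 0 1 = 0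
      refine quo_hom_ext I ?_
      show (L.d 0 1).hom (f.hom _) = 0
      rw [hf]
      exact congrArg Subtype.val hz
    refine ⟨op (op n), psi (quo I n) L ⟨f, hfm⟩, (hφ n _).trans ?_⟩
    exact congrArg (cls _ _) (Subtype.ext (Subtype.ext hf))
  · obtain ⟨f, rfl⟩ := psi_surjective (M := quo I j.unop.unop) x
    replace hx : chi I L j.unop.unop f = 0 := (hφ j.unop.unop f).symm.trans hx
    rw [chi, LinearMap.comp_apply, cls_eq_zero_iff] at hx
    obtain ⟨⟨y, m, hm⟩, hy⟩ := hx
    have hle : j.unop.unop ≤ max j.unop.unop m := le_max_left _ _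
    obtain ⟨g, hg⟩ := exists_evalTors I (n := max j.unop.unop m) y fun a ha =>
      hm a (Ideal.pow_le_pow_right (le_max_right _ _) ha)
    have hq : qmap I hle ≫ f.1 ∈ PreHom (quo I (max j.unop.unop m)) L := by
      show (qmap I hle ≫ f.1) ≫ _ = 0
      rw [Category.assoc, show f.1 ≫ L.d 0 1 = 0 from f.2, comp_zero]
    refine ⟨op (op (max j.unop.unop m)), (homOfLE hle).op.op, ?_⟩
    refine (map_comp_psi (qmap I hle) f hq).trans ((psi_eq_zero_iff _).2 ⟨g, ?_⟩)
    refine quo_hom_ext I ?_
    show (L.d (-1) 0).hom (g.hom _) = f.1.hom _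
    rw [hg]
    exact congrArg Subtype.val hy

end Main

end Groth.Agent.Lib.RGamma
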