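import Groth.Agent.Lib.RGamma.Derived

/-!
Local cohomology along finitely many elements has finite cohomological amplitude.
-/

universe u

open CategoryTheory CategoryTheory.Limits

attribute [local instance] HasDerivedCategory.standard

namespace Groth.Agent.Lib.RGamma

variable {A : Type u} [CommRing A]

theorem exactAt_gam_singleton (f : A) (C : CochainComplex (ModuleCat.{u} A) ℤ)
    (hdiv : ∀ j, Div f (C.X j)) (i j : ℤ) (hij : i + 1 = j) (hi : C.ExactAt i) (hj : C.ExactAt j) :
    ((gam (Ideal.span {f})).obj C).ExactAt j := by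
  rw [C.exactAt_iff' (i - 1) i j (by simp) (by simp; lia), ShortComplex.moduleCat_exact_iff] at hi
  rw [C.exactAt_iff' i j (j + 1) (by simp; lia) (by simp), ShortComplex.moduleCat_exact_iff] at hj
  rw [HomologicalComplex.exactAt_iff' _ i j (j + 1) (by simp; lia) (by simp), ShortComplex.moduleCat_exact_iff]
  rintro ⟨z, hz'⟩ hz
  obtain ⟨w₀, hw⟩ := hj z (congrArg Subtype.val hz)
  let w : C.X i := w₀
  obtain ⟨n, hn⟩ := mem_torsionSub_singleton.1 hz'
  have hw' : (C.d i j).hom w = z := hw
  obtain ⟨u₀, hu⟩ := hi (f ^ n • w) (show (C.d i j).hom (f ^ n • w) = 0 by rw [map_smul, hw', hn])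
  let u : C.X (i - 1) := u₀
  obtain ⟨v, hv⟩ := (hdiv (i - 1)).pow n u
  obtain ⟨k, hk⟩ := mem_torsionSub_singleton.1
    (DRing.map_mem_torsionSub _ (C.d (i - 1) i).hom hv)
  have hu' : (C.d (i - 1) i).hom u = f ^ n • w := hu
  rw [map_sub, hu', map_smul] at hk
  have ht : w - (C.d (i - 1) i).hom v ∈ DRing.torsionSub (Ideal.span {f}) (C.X i) := by
    refine mem_torsionSub_singleton.2 ⟨k + n, ?_⟩
    rw [pow_add, mul_smul, smul_sub (f ^ n)]
    exact hk
  refine ⟨⟨_, ht⟩, Subtype.ext ?_⟩
  show (C.d i j).hom (w - (C.d (i - 1) i).hom v) = z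
  rw [map_sub, hw', show (C.d i j).hom ((C.d (i - 1) i).hom v) = 0 from
    congr($(C.d_comp_d (i - 1) i j) v), sub_zero]

theorem exactAt_gam : ∀ (l : List A) (C : CochainComplex (ModuleCat.{u} A) ℤ) (b : ℤ),
    (∀ i, Good l (C.X i)) → (∀ i, b < i → C.ExactAt i) →
      ∀ i, b + l.length < i → ((gam (ide l)).obj C).ExactAt i
  | [], C, b, _, hH, i, hi => by
    have := quasiIso_gamι_bot C
    exact (exactAt_iff_of_quasiIsoAt (gamι (⊥ : Ideal A) C) i).2 (hH i (by simpa using hi))
  | f :: l, C, b, hC, hH, i, hi => by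
    have h := exactAt_gam l ((gam (Ideal.span {f})).obj C) (b + 1) (fun j => (hC j).2)
      (fun j hj => exactAt_gam_singleton f C (fun k => (hC k).1) (j - 1) j (by lia) (hH _ (by lia))
        (hH _ (by lia))) i (by simp at hi; lia)
    exact h.of_iso (gamCompIso (Ideal.span {f}) (ide l) C)

/-- Local cohomology vanishes far above the cohomology. -/
theorem subsingleton_HDI [IsNoetherianRing A] (I : Ideal A) :
    ∃ c : ℕ, ∀ (K : Dual.D A) (b : ℤ), K.IsLE b → ∀ q, b + c < q → Subsingleton (Dual2.HDI A I K q) := by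
  obtain ⟨l, hl⟩ := exists_ide_eq (IsNoetherian.noetherian I)
  subst hl
  refine ⟨l.length, fun K b hK q hq => ?_⟩
  obtain ⟨J, hJ, hinj, ⟨e⟩⟩ := exists_rep K
  obtain ⟨e₁⟩ := nonempty_HDI_equiv_homology (ide l) J e q
  have hJb : ∀ i, b < i → J.ExactAt i := fun i hi => by
    rw [HomologicalComplex.exactAt_iff_isZero_homology]
    exact (DerivedCategory.isZero_of_isLE K b i hi).of_iso
      ((hdIso J i).symm ≪≫ (DerivedCategory.homologyFunctor _ i).mapIso e.symm)
  have := ModuleCat.subsingleton_of_isZero ((exactAt_gam l J b (fun i => good_of_injective l _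
    (Module.injective_module_of_injective_object A _ (inj := hinj i))) hJb q hq).isZero_homology)
  exact e₁.toEquiv.subsingleton

end Groth.Agent.Lib.RGamma
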