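import Groth.Agent.Lib.RGamma.HDI
import Groth.Agent.Lib.DerCat.KInjExists
import Groth.Agent.Lib.DerivedOX.RightDerived
import Mathlib.Algebra.Category.ModuleCat.AB

/-!
# `RΓ_I` on complexes of good modules, and its comparison with `HDI`
-/

universe u

open CategoryTheory CategoryTheory.Limits Opposite

attribute [local instance] HasDerivedCategory.standard

namespace Groth.Agent.Lib.RGamma

variable {A : Type u} [CommRing A] (I : Ideal A)

/-- Every complex has a K-injective resolution by injectives. -/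
theorem exists_res (C : CochainComplex (ModuleCat.{u} A) ℤ) :
    ∃ (J : CochainComplex (ModuleCat.{u} A) ℤ) (r : C ⟶ J),
      J.IsKInjective ∧ QuasiIso r ∧ ∀ n, Injective (J.X n) := by
  obtain ⟨J, r, h1, h2, -, h3⟩ := DerCat.KInjExists.exists_kInjective_resolution C
  exact ⟨J, r, h1, h2, h3⟩

instance isLeftAdjoint_Qh : (DerivedCategory.Qh (C := ModuleCat.{u} A)).IsLeftAdjoint :=
  DerivedOX.RightDerived.isLeftAdjoint_Qh DerCat.KInjExists.hasKInjRes

theorem exists_rep (K : Dual.D A) :
    ∃ J : CochainComplex (ModuleCat.{u} A) ℤ, J.IsKInjective ∧ (∀ n, Injective (J.X n)) ∧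
      Nonempty (K ≅ DerivedCategory.Q.obj J) := by
  obtain ⟨J, r, h1, h2, h3⟩ := exists_res (DerivedCategory.Q.objPreimage K)
  exact ⟨J, h1, h3, ⟨(DerivedCategory.Q.objObjPreimageIso K).symm ≪≫
    asIso (DerivedCategory.Q.map r)⟩⟩

/-- `H^q` of a complex, as `H^q` in `D(A)`. -/
noncomputable def hdIso (C : CochainComplex (ModuleCat.{u} A) ℤ) (q : ℤ) :
    (DerivedCategory.homologyFunctor (ModuleCat.{u} A) q).obj (DerivedCategory.Q.obj C) ≅
      C.homology q :=
  (DerivedCategory.homologyFunctorFactors (ModuleCat.{u} A) q).app C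

theorem nonempty_HDI_equiv_homology (J : CochainComplex (ModuleCat.{u} A) ℤ) [J.IsKInjective]
    {K : Dual.D A} (e : K ≅ DerivedCategory.Q.obj J) (q : ℤ) :
    Nonempty (Dual2.HDI A I K q ≃ₗ[A] ((gam I).obj J).homology q) := by
  obtain ⟨e₁⟩ := nonempty_colim_hom_equiv I (J⟦q⟧)
  let e₀ : Dual2.HDI A I K q ≅ _ := HasColimit.isoOfNatIso (Functor.isoWhiskerLeft
    (localCohomology.ringModIdeals (localCohomology.idealPowersDiagram I) ⋙
      DerivedCategory.singleFunctor (ModuleCat.{u} A) 0).op
    ((linearYoneda A (Dual.D A)).mapIso ((shiftFunctor (Dual.D A) q).mapIso e ≪≫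
      ((DerivedCategory.Q.commShiftIso q).app J).symm)))
  let e₂ := (HomologicalComplex.homologyFunctor (ModuleCat.{u} A) (ComplexShape.up ℤ) 0).mapIso
      (((gam I).commShiftIso q).app J) ≪≫
    ((HomologicalComplex.homologyFunctor (ModuleCat.{u} A) (ComplexShape.up ℤ) 0).shiftIso
      q 0 q (add_zero q)).app ((gam I).obj J)
  exact ⟨e₀.toLinearEquiv ≪≫ₗ e₁ ≪≫ₗ e₂.toLinearEquiv⟩

/-- `Γ_I` followed by localization. -/
noncomputable def khIso :
    HomotopyCategory.quotient (ModuleCat.{u} A) (ComplexShape.up ℤ) ⋙ DRing.gammaIKh I ≅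
      gam I ⋙ DerivedCategory.Q :=
  (Functor.associator _ _ _).symm ≪≫
    Functor.isoWhiskerRight ((DRing.gammaI I).mapHomotopyCategoryFactors (ComplexShape.up ℤ))
      DerivedCategory.Qh ≪≫
    Functor.associator _ _ _ ≪≫
    Functor.isoWhiskerLeft _ (DerivedCategory.quotientCompQhIso _)

open ZeroObject in
/-- An object of `D(A)` with no cohomology is zero. -/
theorem isZero_of_subsingleton_HD {X : Dual.D A} (h : ∀ q, Subsingleton (Dual.HD A X q)) :
    IsZero X := by
  obtain ⟨C, -, -, ⟨e⟩⟩ := exists_rep X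
  refine IsZero.of_iso ?_ e
  have hC : C.Acyclic := fun q => by
    rw [HomologicalComplex.exactAt_iff_isZero_homology]
    have := h q
    exact (ModuleCat.isZero_of_subsingleton _).of_iso
      (((DerivedCategory.homologyFunctor (ModuleCat.{u} A) q).mapIso e ≪≫ hdIso C q).symm)
  have : QuasiIso (0 : C ⟶ (0 : CochainComplex (ModuleCat.{u} A) ℤ)) := by
    refine ⟨fun q => ?_⟩
    rw [quasiIsoAt_iff_isIso_homologyMap]
    exact isIso_of_source_target_iso_zero _ (hC q).isZero_homology.isoZero
      (IsZero.isoZero (HomologicalComplex.ExactAt.isZero_homology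
        (HomologicalComplex.ExactAt.of_isZero
          (Functor.map_isZero (HomologicalComplex.eval _ _ q) (isZero_zero _)))))
  exact IsZero.of_iso (Functor.map_isZero _ (isZero_zero _))
    (asIso (DerivedCategory.Q.map (0 : C ⟶ (0 : CochainComplex (ModuleCat.{u} A) ℤ))))

variable [DRing.HasRgammaI I]

/-- The unit of `RΓ_I`. -/
noncomputable abbrev unit : DRing.gammaIKh I ⟶ DerivedCategory.Qh ⋙ DRing.RgammaI I :=
  (DRing.gammaIKh I).totalRightDerivedUnit DerivedCategory.Qh
    (HomotopyCategory.quasiIso (ModuleCat.{u} A) (ComplexShape.up ℤ))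

/-- The quotient functor. -/
noncomputable abbrev quot := HomotopyCategory.quotient (ModuleCat.{u} A) (ComplexShape.up ℤ)

/-- `RΓ_I` of a complex where the unit is an isomorphism. -/
noncomputable def objIso (C : CochainComplex (ModuleCat.{u} A) ℤ)
    [IsIso ((unit I).app (quot.obj C))] :
    (DRing.RgammaI I).obj (DerivedCategory.Q.obj C) ≅ DerivedCategory.Q.obj ((gam I).obj C) :=
  (DRing.RgammaI I).mapIso ((DerivedCategory.quotientCompQhIso _).app C).symm ≪≫
    (asIso ((unit I).app (quot.obj C))).symm ≪≫ (khIso I).app C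

/-- The unit is invertible on K-injective complexes. -/
theorem isIso_unit_of_isKInjective (J : CochainComplex (ModuleCat.{u} A) ℤ) [J.IsKInjective] :
    IsIso ((unit I).app (quot.obj J)) :=
  DerivedOX.RightDerived.isIso_totalRightDerivedUnit_app_of_isKInjective (DRing.gammaIKh I) J

/-- The unit is invertible on complexes of good modules. -/
theorem isIso_unit_of_good [IsNoetherianRing A] {l : List A} (hl : ide l = I)
    (C : CochainComplex (ModuleCat.{u} A) ℤ) (hC : ∀ i, Good l (C.X i)) :
    IsIso ((unit I).app (quot.obj C)) := by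
  obtain ⟨J, r, hJ, hr, hinj⟩ := exists_res C
  have hJg : ∀ i, Good l (J.X i) := fun i =>
    good_of_injective l _ (Module.injective_module_of_injective_object A _ (inj := hinj i))
  have := quasiIso_gam_map l hl r hC hJg
  have : IsIso ((DRing.gammaIKh I).map (quot.map r)) :=
    (NatIso.isIso_map_iff (khIso I) r).2 (inferInstanceAs (IsIso (DerivedCategory.Q.map _)))
  have : IsIso (DerivedCategory.Qh.map (quot.map r)) :=
    (NatIso.isIso_map_iff (DerivedCategory.quotientCompQhIso _) r).2
      (inferInstanceAs (IsIso (DerivedCategory.Q.map r)))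
  have : IsIso ((DRing.RgammaI I).map (DerivedCategory.Qh.map (quot.map r))) := inferInstance
  have := isIso_unit_of_isKInjective I J
  have : IsIso ((unit I).app (quot.obj C) ≫
      (DRing.RgammaI I).map (DerivedCategory.Qh.map (quot.map r))) := by
    rw [show (unit I).app (quot.obj C) ≫ (DRing.RgammaI I).map
      (DerivedCategory.Qh.map (quot.map r)) = (DRing.gammaIKh I).map (quot.map r) ≫
        (unit I).app (quot.obj J) from ((unit I).naturality (quot.map r)).symm]
    infer_instance
  exact IsIso.of_isIso_comp_right _ ((DRing.RgammaI I).map (DerivedCategory.Qh.map (quot.map r)))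

theorem nonempty_HD_RgammaI_equiv (K : Dual.D A) (q : ℤ) :
    Nonempty (Dual.HD A ((DRing.RgammaI I).obj K) q ≃ₗ[A] Dual2.HDI A I K q) := by
  obtain ⟨J, hJ, -, ⟨e⟩⟩ := exists_rep K
  obtain ⟨e₁⟩ := nonempty_HDI_equiv_homology I J e q
  have := isIso_unit_of_isKInjective I J
  exact ⟨((DerivedCategory.homologyFunctor (ModuleCat.{u} A) q).mapIso
    ((DRing.RgammaI I).mapIso e ≪≫ objIso I J) ≪≫ hdIso _ q).toLinearEquiv ≪≫ₗ e₁.symm⟩

lemma gammaIτ_app (C : CochainComplex (ModuleCat.{u} A) ℤ) :
    (DRing.gammaIτ I).app (quot.obj C) =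
      (khIso I).hom.app C ≫ DerivedCategory.Q.map (gamι I C) ≫
        (DerivedCategory.quotientCompQhIso _).inv.app C := by
  have hnat : DerivedCategory.Q.map (gamι I C) ≫
      (DerivedCategory.quotientCompQhIso _).inv.app C =
      (DerivedCategory.quotientCompQhIso _).inv.app _ ≫
        DerivedCategory.Qh.map (quot.map (gamι I C)) :=
    (DerivedCategory.quotientCompQhIso (ModuleCat.{u} A)).inv.naturality (gamι I C)
  rw [hnat]
  show (DRing.gammaIτ0 I).app C = _
  have hι : (NatTrans.mapHomologicalComplex (DRing.gammaIι I) (ComplexShape.up ℤ)).app C ≫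
      (Functor.mapHomologicalComplexIdIso (ModuleCat.{u} A) (ComplexShape.up ℤ)).hom.app C =
      gamι I C := by
    ext i x; rfl
  rw [← hι]
  simp [DRing.gammaIτ0, khIso]

lemma RgammaIε_fac (X : HomotopyCategory (ModuleCat.{u} A) (ComplexShape.up ℤ)) :
    (unit I).app X ≫ (DRing.RgammaIε I).app (DerivedCategory.Qh.obj X) =
      (DRing.gammaIτ I).app X := by
  refine (Functor.rightDerived_fac_app (DRing.RgammaI I) (unit I) _ (𝟭 (Dual.D A)) _ X).trans ?_
  simp

/-- The canonical map `RΓ_I Q(C) ⟶ Q(C)` is `Q` of the inclusion. -/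
lemma isIso_ε_app_iff (C : CochainComplex (ModuleCat.{u} A) ℤ)
    [IsIso ((unit I).app (quot.obj C))] :
    IsIso ((DRing.RgammaIε I).app (DerivedCategory.Q.obj C)) ↔ QuasiIso (gamι I C) := by
  rw [← DerivedCategory.isIso_Q_map_iff_quasiIso, ← isIso_comp_right_iff
    (DerivedCategory.Q.map (gamι I C)) ((DerivedCategory.quotientCompQhIso _).inv.app C),
    ← isIso_comp_left_iff ((khIso I).hom.app C), ← gammaIτ_app, ← RgammaIε_fac,
    isIso_comp_left_iff]
  exact (NatTrans.isIso_app_iff_of_iso _ ((DerivedCategory.quotientCompQhIso _).app C)).symm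

end Groth.Agent.Lib.RGamma
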