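import Groth.Agent.Lib.RGamma.Adj
import Groth.Agent.Lib.RGamma.Change
import Mathlib.Algebra.Homology.DerivedCategory.ShortExact
import Mathlib.RingTheory.Localization.BaseChange

/-!
# Morphisms into derived complete objects

A complex on whose terms some `f ∈ I` is bijective has no morphisms to derived complete objects;
consequently `RΓ_I K ⟶ K` induces bijections on morphisms into derived complete objects.
-/

universe u

open CategoryTheory CategoryTheory.Limits Opposite Pretriangulated

attribute [local instance] HasDerivedCategory.standard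

namespace Groth.Agent.Lib.RGamma

variable {A : Type u} [CommRing A]

lemma isDerivedComplete_shift {I : Ideal A} {Y : Dual.D A} (hY : DRing.IsDerivedComplete I Y)
    (m : ℤ) : DRing.IsDerivedComplete I (Y⟦m⟧) := fun f hf n =>
  have := hY f hf (m + n)
  ((((shiftFunctorAdd (Dual.D A) m n).app Y).symm).homToEquiv).subsingleton

/-- No nonzero maps to derived complete objects. -/
def Perp (I : Ideal A) (X : Dual.D A) : Prop :=
  ∀ Y : Dual.D A, DRing.IsDerivedComplete I Y → ∀ φ : X ⟶ Y, φ = 0

lemma Perp.of_iso {I : Ideal A} {X X' : Dual.D A} (h : Perp I X) (e : X ≅ X') : Perp I X' :=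
  fun Y hY φ => (cancel_epi e.hom).1 ((h Y hY _).trans comp_zero.symm)

lemma Perp.shift {I : Ideal A} {X : Dual.D A} (h : Perp I X) (m : ℤ) : Perp I (X⟦m⟧) := by
  intro Y hY φ
  obtain ⟨ψ, hψ⟩ := (shiftFunctor (Dual.D A) m).map_surjective
    (φ ≫ ((shiftEquiv (Dual.D A) m).counitIso.app Y).inv)
  apply (cancel_mono ((shiftEquiv (Dual.D A) m).counitIso.app Y).inv).1
  refine hψ.symm.trans ?_
  rw [h _ (isDerivedComplete_shift hY _) ψ]
  exact ((shiftFunctor (Dual.D A) m).map_zero _ _).trans zero_comp.symm

section Away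

variable (f : A)

lemma bijective_unit (M : ModuleCat.{u} A) (hM : Function.Bijective fun x : M => f • x) :
    Function.Bijective ((ModuleCat.extendRestrictScalarsAdj.{u}
      (algebraMap A (Localization.Away f))).unit.app M).hom := by
  let S := Submonoid.powers f
  have hp : ∀ (n : ℕ), Function.Bijective fun x : M => f ^ n • x := fun n => by
    induction n with
    | zero => simp only [pow_zero, one_smul]; exact Function.bijective_id
    | succ n ih =>
      have : (fun x : M => f ^ (n + 1) • x) = (fun x : M => f ^ n • x) ∘ fun x => f • x := by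
        funext x; simp [pow_succ, mul_smul]
      rw [this]
      exact ih.comp hM
  have hb : Function.Bijective (LocalizedModule.mkLinearMap S M) := by
    constructor
    · intro x y hxy
      obtain ⟨⟨c, n, rfl⟩, hc⟩ := LocalizedModule.mk_eq.1 hxy
      exact (hp n).1 (by simpa [Submonoid.smul_def] using hc)
    · intro z
      induction z using LocalizedModule.induction_on with
      | h x s =>
        obtain ⟨c, n, rfl⟩ := s
        obtain ⟨y, rfl⟩ := (hp n).2 x
        refine ⟨y, LocalizedModule.mk_eq.2 ⟨1, ?_⟩⟩
        simp [Submonoid.smul_def]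
  let e : (ModuleCat.extendScalars.{u, u, u} (algebraMap A (Localization.Away f))).obj M ≃
      LocalizedModule S M :=
    (extEquiv'.{u, u} (Localization.Away f) M).toEquiv.trans
      (LocalizedModule.equivTensorProduct S M).symm.toEquiv
  refine (e.comp_bijective _).1 ?_
  have : e ∘ ((ModuleCat.extendRestrictScalarsAdj.{u}
      (algebraMap A (Localization.Away f))).unit.app M).hom = LocalizedModule.mkLinearMap S M :=
    funext fun m => LocalizedModule.equivTensorProduct_symm_apply_tmul_one (S := S) (M := M) m
  exact this ▸ hb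

/-- `Hom_A(A_f, -)` on complexes. -/
noncomputable abbrev coextCx :
    CochainComplex (ModuleCat.{u} A) ℤ ⥤ CochainComplex (ModuleCat.{u} (Localization.Away f)) ℤ :=
  (ModuleCat.coextendScalars.{u, u, u} (algebraMap A (Localization.Away f))).mapHomologicalComplex
    (ComplexShape.up ℤ)

/-- `A_f` as a module over itself, restricted to `A`. -/
noncomputable abbrev away : ModuleCat.{u} A :=
  (ModuleCat.restrictScalars.{u} (algebraMap A (Localization.Away f))).obj
    (ModuleCat.of (Localization.Away f) (Localization.Away f))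

instance : (ModuleCat.coextendScalars.{u, u, u} (algebraMap A (Localization.Away f))).Additive :=
  have := (ModuleCat.restrictCoextendScalarsAdj.{u}
    (algebraMap A (Localization.Away f))).right_adjoint_additive
  this

lemma exactAt_zero_coextCx (L : CochainComplex (ModuleCat.{u} A) ℤ) [L.IsKInjective]
    (h : Subsingleton (Dual.inD A (Localization.Away f) ⟶ DerivedCategory.Q.obj L)) :
    ((coextCx f).obj L).ExactAt 0 := by
  rw [HomologicalComplex.exactAt_iff_isZero_homology]
  have : Subsingleton (((coextCx f).obj L).homology 0) := by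
    refine subsingleton_of_forall_eq 0 fun a => ?_
    obtain ⟨⟨g, hg⟩, rfl⟩ := cls_surjective _ _ a
    rw [cls_eq_zero_iff]
    let e : away f ≅ ModuleCat.of A (Localization.Away f) :=
      LinearEquiv.toModuleIso (m₁ := (away f).isModule)
        (DR.FlatBC.resEquiv A (Localization.Away f))
    let gl : (away f) →ₗ[A] (L.X 0) := g
    let g' : away f ⟶ L.X 0 := @ModuleCat.ofHom A _ (away f) (L.X 0) _ (away f).isModule _ _ gl
    let P : PreHom (ModuleCat.of A (Localization.Away f)) L :=
      ⟨e.inv ≫ g', by
        show (e.inv ≫ g') ≫ L.d 0 1 = 0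
        rw [Category.assoc, show g' ≫ L.d 0 1 = 0 from ModuleCat.hom_ext hg, comp_zero]⟩
    obtain ⟨y, hy⟩ := (psi_eq_zero_iff P).1 (h.elim _ _)
    refine ⟨(e.hom ≫ y).hom, ?_⟩
    have h2 : (e.hom ≫ y) ≫ L.d (-1) 0 = g' := by
      rw [Category.assoc, hy]
      exact e.hom_inv_id_assoc g'
    exact congrArg ModuleCat.Hom.hom h2
  exact ModuleCat.isZero_of_subsingleton _

lemma isKInjective_coextCx (J : CochainComplex (ModuleCat.{u} A) ℤ) [J.IsKInjective] :
    ((coextCx f).obj J).IsKInjective := by
  refine ⟨fun {S} g hS => ?_⟩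
  let adj := ModuleCat.restrictCoextendScalarsAdj.{u} (algebraMap A (Localization.Away f))
  let R := ModuleCat.restrictScalars.{u} (algebraMap A (Localization.Away f))
  let g' : (R.mapHomologicalComplex (ComplexShape.up ℤ)).obj S ⟶ J :=
    { f := fun i => (adj.homEquiv _ _).symm (g.f i)
      comm' := fun i j _ => by
        exact ((adj.homEquiv_naturality_right_symm (g.f i) (J.d i j)).symm.trans
          ((congrArg _ (g.comm i j)).trans
            (adj.homEquiv_naturality_left_symm (S.d i j) (g.f j)))) }
  have hS' : ((R.mapHomologicalComplex (ComplexShape.up ℤ)).obj S).Acyclic := fun i => by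
    rw [HomologicalComplex.exactAt_iff]
    exact (hS i).map R
  have h := CochainComplex.IsKInjective.homotopyZero g' hS'
  let η : S ⟶ (coextCx f).obj ((R.mapHomologicalComplex (ComplexShape.up ℤ)).obj S) :=
    { f := fun i => adj.unit.app (S.X i)
      comm' := fun i j _ => (adj.unit.naturality (S.d i j)).symm }
  have hg : g = η ≫ (coextCx f).map g' := by
    refine HomologicalComplex.hom_ext _ _ fun i => ?_
    show g.f i = adj.unit.app (S.X i) ≫ _
    exact ((adj.homEquiv _ _).apply_symm_apply (g.f i)).symm.trans (adj.homEquiv_unit _ _ _)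
  refine ⟨(Homotopy.ofEq hg).trans ((Homotopy.compLeft
    ((ModuleCat.coextendScalars.{u, u, u}
      (algebraMap A (Localization.Away f))).mapHomotopy h) η).trans (Homotopy.ofEq ?_))⟩
  rw [Functor.map_zero, comp_zero]

/-- A complex on whose terms `f ∈ I` is bijective maps to zero in every complete object. -/
theorem perp_of_bijective {I : Ideal A} (hf : f ∈ I) (C : CochainComplex (ModuleCat.{u} A) ℤ)
    (hC : ∀ i, Function.Bijective fun x : C.X i => f • x) :
    Perp I (DerivedCategory.Q.obj C) := by
  intro Y hY φ₀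
  obtain ⟨J, hJ, -, ⟨e⟩⟩ := exists_rep Y
  obtain ⟨φ, hφ⟩ := Q_map_surjective_of_isKInjective (S := C) (φ₀ ≫ e.hom)
  suffices h : Nonempty (Homotopy φ 0) by
    rw [← cancel_mono e.hom, zero_comp, ← hφ]
    exact Q_map_eq_zero_iff.2 h
  have hacy : ((coextCx f).obj J).Acyclic := fun n => by
    have := hY f hf n
    have hL : Subsingleton (Dual.inD A (Localization.Away f) ⟶ DerivedCategory.Q.obj (J⟦n⟧)) :=
      ((((shiftFunctor (Dual.D A) n).mapIso e) ≪≫
        ((DerivedCategory.Q.commShiftIso n).app J).symm).homToEquiv).symm.subsingleton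
    have h0 := (exactAt_zero_coextCx f (J⟦n⟧) hL).of_iso (((coextCx f).commShiftIso n).app J)
    rw [HomologicalComplex.exactAt_iff_isZero_homology] at h0 ⊢
    exact h0.of_iso (((HomologicalComplex.homologyFunctor _ (ComplexShape.up ℤ) 0).shiftIso
      n 0 n (add_zero n)).app ((coextCx f).obj J)).symm
  have := isKInjective_coextCx f J
  have hid := CochainComplex.IsKInjective.homotopyZero (𝟙 ((coextCx f).obj J)) hacy
  let R := ModuleCat.restrictScalars.{u} (algebraMap A (Localization.Away f))
  let E := ModuleCat.extendScalars.{u, u, u} (algebraMap A (Localization.Away f))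
  let adj := ModuleCat.restrictCoextendScalarsAdj.{u} (algebraMap A (Localization.Away f))
  let adj' := ModuleCat.extendRestrictScalarsAdj.{u} (algebraMap A (Localization.Away f))
  let C' := (E.mapHomologicalComplex (ComplexShape.up ℤ)).obj C
  let ι : C ⟶ (R.mapHomologicalComplex (ComplexShape.up ℤ)).obj C' :=
    { f := fun i => adj'.unit.app (C.X i)
      comm' := fun i j _ => (adj'.unit.naturality (C.d i j)).symm }
  have : ∀ i, IsIso (ι.f i) := fun i =>
    (ConcreteCategory.isIso_iff_bijective _).2 (bijective_unit f (C.X i) (hC i))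
  have : IsIso ι := HomologicalComplex.Hom.isIso_of_components _
  let φ' := inv ι ≫ φ
  let ψ : C' ⟶ (coextCx f).obj J :=
    { f := fun i => adj.homEquiv _ _ (φ'.f i)
      comm' := fun i j _ => by
        exact ((adj.homEquiv_naturality_right (φ'.f i) (J.d i j)).symm.trans
          ((congrArg _ (φ'.comm i j)).trans
            (adj.homEquiv_naturality_left (C'.d i j) (φ'.f j)))) }
  let εJ : (R.mapHomologicalComplex (ComplexShape.up ℤ)).obj ((coextCx f).obj J) ⟶ J :=
    { f := fun i => adj.counit.app (J.X i)
      comm' := fun i j _ => (adj.counit.naturality (J.d i j)).symm }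
  have hψ : φ' = (R.mapHomologicalComplex (ComplexShape.up ℤ)).map ψ ≫ εJ := by
    refine HomologicalComplex.hom_ext _ _ fun i => ?_
    show φ'.f i = R.map (adj.homEquiv _ _ (φ'.f i)) ≫ adj.counit.app (J.X i)
    exact ((adj.homEquiv _ _).symm_apply_apply (φ'.f i)).symm.trans (adj.homEquiv_counit _ _ _)
  have hψ0 : Homotopy ψ 0 :=
    ((Homotopy.ofEq (Category.comp_id ψ).symm).trans (hid.compLeft ψ)).trans
      (Homotopy.ofEq comp_zero)
  refine ⟨(Homotopy.ofEq (IsIso.hom_inv_id_assoc ι φ).symm).trans
    ((Homotopy.compLeft ((Homotopy.ofEq hψ).trans ((R.mapHomotopy hψ0).compRight εJ)) ι).trans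
      (Homotopy.ofEq ?_))⟩
  rw [Functor.map_zero, zero_comp, comp_zero]

end Away

variable {I : Ideal A}

/-- Precomposition is bijective on maps into complete objects. -/
def PBij (I : Ideal A) {X X' : Dual.D A} (g : X ⟶ X') : Prop :=
  ∀ Y : Dual.D A, DRing.IsDerivedComplete I Y → Function.Bijective fun φ : X' ⟶ Y => g ≫ φ

lemma PBij.comp {X X' X'' : Dual.D A} {g : X ⟶ X'} {g' : X' ⟶ X''} (h : PBij I g)
    (h' : PBij I g') : PBij I (g ≫ g') := fun Y hY => by
  have := (h Y hY).comp (h' Y hY)
  simpa [Function.comp_def] using this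

lemma pBij_of_isIso {X X' : Dual.D A} (g : X ⟶ X') [IsIso g] : PBij I g := fun Y _ =>
  ⟨fun _ _ h => (cancel_epi g).1 h, fun φ => ⟨inv g ≫ φ, IsIso.hom_inv_id_assoc _ _⟩⟩

lemma pBij_of_triangle (T : Triangle (Dual.D A)) (hT : T ∈ distTriang (Dual.D A))
    (h : Perp I T.obj₃) : PBij I T.mor₁ := by
  intro Y hY
  refine ⟨fun a b hab => sub_eq_zero.1 ?_, fun φ => ?_⟩
  · obtain ⟨c, hc⟩ := T.yoneda_exact₂ hT (a - b) (by
      rw [Preadditive.comp_sub]; exact sub_eq_zero.2 hab)
    rw [hc, h Y hY c, comp_zero]
  · obtain ⟨c, hc⟩ := T.invRotate.yoneda_exact₂ (inv_rot_of_distTriang _ hT) φ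
      ((h.shift (-1)) Y hY _)
    exact ⟨c, hc.symm⟩

/-- `Γ_I C ⟶ C` induces bijections on maps into complete objects. -/
theorem pBij_gamι : ∀ (l : List A) (C : CochainComplex (ModuleCat.{u} A) ℤ),
    (∀ i, Good l (C.X i)) → (∀ f ∈ l, f ∈ I) →
      PBij I (DerivedCategory.Q.map (gamι (ide l) C))
  | [], C, _, _ => by
    have : QuasiIso (gamι (ide ([] : List A)) C) := quasiIso_gamι_bot C
    exact pBij_of_isIso _
  | f :: l, C, hC, hI => by
    have h2 := pBij_gamι l ((gam (Ideal.span {f})).obj C) (fun i => (hC i).2)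
      fun g hg => hI g (List.mem_cons_of_mem _ hg)
    have h1 : PBij I (DerivedCategory.Q.map (gamι (Ideal.span {f}) C)) := by
      let T := DRing.torsionSub (A := A) (Ideal.span {f})
      let C'' : CochainComplex (ModuleCat.{u} A) ℤ :=
        { X := fun i => ModuleCat.of A (C.X i ⧸ T (C.X i))
          d := fun i j => ModuleCat.ofHom (Submodule.mapQ _ _ (C.d i j).hom
            fun x hx => DRing.map_mem_torsionSub _ _ hx)
          shape := fun i j hij => ModuleCat.hom_ext (Submodule.linearMap_qext _
            (LinearMap.ext fun x => (congrArg (Submodule.Quotient.mk (p := T (C.X j)))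
              (congr($(C.shape i j hij) x))).trans (Submodule.Quotient.mk_zero _)))
          d_comp_d' := fun i j k _ _ => ModuleCat.hom_ext (Submodule.linearMap_qext _
            (LinearMap.ext fun x => (congrArg (Submodule.Quotient.mk (p := T (C.X k)))
              (congr($(C.d_comp_d i j k) x))).trans (Submodule.Quotient.mk_zero _))) }
      let π : C ⟶ C'' :=
        { f := fun i => ModuleCat.ofHom (T (C.X i)).mkQ
          comm' := fun _ _ _ => rfl }
      let S : ShortComplex (CochainComplex (ModuleCat.{u} A) ℤ) :=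
        ShortComplex.mk (gamι (Ideal.span {f}) C) π (HomologicalComplex.hom_ext _ _ fun i =>
          ModuleCat.hom_ext (LinearMap.ext fun x => (Submodule.Quotient.mk_eq_zero _).2 x.2))
      have hS : S.ShortExact := (HomologicalComplex.shortExact_iff_degreewise_shortExact S).2
        fun i =>
          { exact := (ShortComplex.ShortExact.moduleCat_exact_iff_function_exact _).2
              (LinearMap.exact_subtype_mkQ (T (C.X i)))
            mono_f := (ModuleCat.mono_iff_injective _).2 Subtype.val_injective
            epi_g := (ModuleCat.epi_iff_surjective _).2 (Submodule.mkQ_surjective _) }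
      refine pBij_of_triangle _ (DerivedCategory.triangleOfSES_distinguished hS)
        (perp_of_bijective f (hI f List.mem_cons_self) C'' fun i => ⟨fun a b hab => ?_, fun b => ?_⟩)
      · obtain ⟨a, rfl⟩ := Submodule.Quotient.mk_surjective _ a
        obtain ⟨b, rfl⟩ := Submodule.Quotient.mk_surjective _ b
        obtain ⟨n, hn⟩ := mem_torsionSub_singleton.1 ((Submodule.Quotient.eq _).1 hab)
        refine (Submodule.Quotient.eq _).2 (mem_torsionSub_singleton.2 ⟨n + 1, ?_⟩)
        rw [pow_succ, mul_smul, smul_sub]
        exact hn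
      · obtain ⟨b, rfl⟩ := Submodule.Quotient.mk_surjective _ b
        obtain ⟨y, hy⟩ := (hC i).1 b
        exact ⟨Submodule.Quotient.mk y, ((Submodule.Quotient.eq _).2 hy).symm⟩
    show PBij I (DerivedCategory.Q.map (gamι (Ideal.span {f} ⊔ ide l) C))
    have e : gamι (Ideal.span {f} ⊔ ide l) C = (gamCompIso (Ideal.span {f}) (ide l) C).inv ≫
        gamι (ide l) ((gam (Ideal.span {f})).obj C) ≫ gamι (Ideal.span {f}) C := by
      rw [Iso.eq_inv_comp]
      exact gamCompIso_hom_gamι _ _ C
    rw [e, Functor.map_comp, Functor.map_comp]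
    exact (pBij_of_isIso _).comp (h2.comp h1)

variable (I) [IsNoetherianRing A] [DRing.HasRgammaI I]

/-- The canonical map `RΓ_I K ⟶ K` induces bijections on maps into complete objects. -/
theorem pBij_ε (K : Dual.D A) : PBij I ((DRing.RgammaIε I).app K) := by
  obtain ⟨J, hJ, hinj, ⟨e⟩⟩ := exists_rep K
  obtain ⟨l, hl⟩ := exists_ide_eq (IsNoetherian.noetherian I)
  have := isIso_unit_of_isKInjective I J
  have h := pBij_gamι (I := I) l J (fun i => good_of_injective l _
    (Module.injective_module_of_injective_object A _ (inj := hinj i))) fun f hf => hl ▸ mem_ide hf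
  rw [hl] at h
  have hτ := (RgammaIε_fac I (quot.obj J)).trans (gammaIτ_app I J)
  let α : K ≅ DerivedCategory.Qh.obj (quot.obj J) :=
    e ≪≫ ((DerivedCategory.quotientCompQhIso _).app J).symm
  have : (DRing.RgammaIε I).app K = ((DRing.RgammaI I).map α.hom ≫
      inv ((unit I).app (quot.obj J)) ≫ (khIso I).hom.app J) ≫
        DerivedCategory.Q.map (gamι I J) ≫
          ((DerivedCategory.quotientCompQhIso _).inv.app J ≫ α.inv) := by
    simp only [Category.assoc]
    rw [← reassoc_of% hτ, IsIso.inv_hom_id_assoc, ← Category.assoc,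
      (DRing.RgammaIε I).naturality α.hom]
    simp
  rw [this]
  exact (pBij_of_isIso _).comp (h.comp (pBij_of_isIso _))

end Groth.Agent.Lib.RGamma
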