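import Groth.Agent.Lib.RGamma.GM
import Groth.Agent.Lib.DR.BaseChangeU

/-!
# Base change of `RΓ_I(A)` along an arbitrary ring map
-/

universe u

open CategoryTheory CategoryTheory.Limits Opposite Pretriangulated
open Groth.Agent.Lib.DR.BaseChange (ext bcFlat)

attribute [local instance] HasDerivedCategory.standard

namespace Groth.Agent.Lib.RGamma

variable {B : Type u} [CommRing B]

/-- The cone of a morphism bijective on maps to complete objects is orthogonal to them. -/
lemma perp_of_pBij {J : Ideal B} (T : Triangle (Dual.D B)) (hT : T ∈ distTriang (Dual.D B))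
    (hη : PBij J T.mor₁) : Perp J T.obj₃ := fun Y hY φ => by
  obtain ⟨ψ, hψ⟩ := T.yoneda_exact₃ hT φ
    ((hη Y hY).1 (show T.mor₁ ≫ T.mor₂ ≫ φ = T.mor₁ ≫ (0 : _ ⟶ Y) by
      rw [← Category.assoc, comp_distTriang_mor_zero₁₂ _ hT, zero_comp, comp_zero]))
  obtain ⟨ψ', hψ'⟩ := (shiftFunctor (Dual.D B) (1 : ℤ)).map_surjective
    (ψ ≫ ((shiftEquiv (Dual.D B) (1 : ℤ)).counitIso.app Y).inv)
  obtain ⟨χ, hχ⟩ := (hη _ (isDerivedComplete_shift hY (-1))).2 ψ'
  have h : ψ ≫ ((shiftEquiv (Dual.D B) (1 : ℤ)).counitIso.app Y).inv =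
      T.mor₁⟦(1 : ℤ)⟧' ≫ χ⟦(1 : ℤ)⟧' :=
    hψ'.symm.trans ((congrArg ((shiftFunctor (Dual.D B) (1 : ℤ)).map) hχ.symm).trans
      (Functor.map_comp _ _ _))
  rw [hψ]
  apply (cancel_mono ((shiftEquiv (Dual.D B) (1 : ℤ)).counitIso.app Y).inv).1
  have hδ0 : T.mor₃ ≫ T.mor₁⟦(1 : ℤ)⟧' = 0 := comp_distTriang_mor_zero₃₁ _ hT
  exact ((Category.assoc _ _ _).trans ((congrArg (T.mor₃ ≫ ·) h).trans
    ((Category.assoc _ _ _).symm.trans
      ((congrArg (· ≫ _) hδ0).trans zero_comp)))).trans zero_comp.symm

/-- A torsion object with a completion-invertible map to `K` computes `RΓ_J K`. -/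
theorem nonempty_iso_RgammaI_of_pBij [IsNoetherianRing B] (J : Ideal B) [DRing.HasRgammaI J]
    {T K : Dual.D B} (g : T ⟶ K) (hg : PBij J g)
    (hT : ∀ i, LocCoh.IsPowerTorsion J (Dual.HD B T i)) :
    Nonempty (T ≅ (DRing.RgammaI J).obj K) := by
  obtain ⟨C, p, δ, hT'⟩ := distinguished_cocone_triangle g
  have hC : Perp J C := perp_of_pBij _ hT' hg
  have hb : ∀ S : Dual.D B, (∀ i, LocCoh.IsPowerTorsion J (Dual.HD B S i)) →
      Function.Bijective fun φ : S ⟶ T => φ ≫ g := by
    intro S hS
    refine ⟨fun a b hab => sub_eq_zero.1 ?_, fun φ => ?_⟩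
    · obtain ⟨x, hx⟩ := Triangle.coyoneda_exact₂ _ (inv_rot_of_distTriang _ hT') (a - b) (by
        show (a - b) ≫ g = 0
        rw [Preadditive.sub_comp]; exact sub_eq_zero.2 hab)
      have hx0 : x = 0 := eq_zero_of_torsion_of_perp J hS (hC.shift (-1)) x
      exact hx.trans ((congrArg (· ≫ _) hx0).trans zero_comp)
    · obtain ⟨x, hx⟩ := Triangle.coyoneda_exact₂ _ hT' φ
        (eq_zero_of_torsion_of_perp J hS hC (φ ≫ p))
      exact ⟨x, hx.symm⟩
  obtain ⟨α, hα⟩ := (bijective_comp_ε J K hT).2 g
  obtain ⟨β, hβ⟩ := (hb _ (isPowerTorsion_HD_RgammaI J K)).2 ((DRing.RgammaIε J).app K)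
  have hα : α ≫ (DRing.RgammaIε J).app K = g := hα
  have hβ : β ≫ g = (DRing.RgammaIε J).app K := hβ
  refine ⟨⟨α, β, ?_, ?_⟩⟩
  · apply (hb _ hT).1
    show (α ≫ β) ≫ g = 𝟙 _ ≫ g
    rw [Category.assoc, hβ, hα, Category.id_comp]
  · apply (bijective_comp_ε J K (isPowerTorsion_HD_RgammaI J K)).1
    show (β ≫ α) ≫ _ = 𝟙 _ ≫ _
    rw [Category.assoc, hα, hβ, Category.id_comp]

section Loc

variable (f : B)

/-- Localizing a complex at `f`, as a complex over the base. -/
noncomputable def locι (C : CochainComplex (ModuleCat.{u} B) ℤ) :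
    C ⟶ ((ModuleCat.restrictScalars.{u} (algebraMap B (Localization.Away f))).mapHomologicalComplex
      (ComplexShape.up ℤ)).obj (((ModuleCat.extendScalars.{u, u, u}
        (algebraMap B (Localization.Away f))).mapHomologicalComplex (ComplexShape.up ℤ)).obj C) where
  f i := (ModuleCat.extendRestrictScalarsAdj.{u}
    (algebraMap B (Localization.Away f))).unit.app (C.X i)
  comm' i j _ := ((ModuleCat.extendRestrictScalarsAdj.{u}
    (algebraMap B (Localization.Away f))).unit.naturality (C.d i j)).symm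

lemma extendScalars_smul_bijective (M : ModuleCat.{u} B) :
    Function.Bijective fun x : (ModuleCat.restrictScalars.{u}
      (algebraMap B (Localization.Away f))).obj ((ModuleCat.extendScalars.{u, u, u}
        (algebraMap B (Localization.Away f))).obj M) => f • x := by
  obtain ⟨u, hu⟩ := IsLocalization.Away.algebraMap_isUnit (S := Localization.Away f) f
  show Function.Bijective fun x : (ModuleCat.extendScalars.{u, u, u}
    (algebraMap B (Localization.Away f))).obj M => algebraMap B (Localization.Away f) f • x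
  rw [← hu]
  exact ⟨fun a b h => by simpa [smul_smul] using congrArg (fun z => (↑u⁻¹ : Localization.Away f) • z) h,
    fun b => ⟨(↑u⁻¹ : Localization.Away f) • b, by simp [smul_smul]⟩⟩

lemma locι_spec (C : CochainComplex (ModuleCat.{u} B) ℤ) (i : ℤ) :
    (∀ w, ∃ (k : ℕ) (v : C.X i), f ^ k • w = ((locι f C).f i).hom v) ∧
      ∀ v : C.X i, ((locι f C).f i).hom v = 0 → ∃ k : ℕ, f ^ k • v = 0 := by
  let S := Submonoid.powers f
  let e := (extEquiv'.{u, u} (Localization.Away f) (C.X i)).toEquiv.trans
    (LocalizedModule.equivTensorProduct S (C.X i)).symm.toEquiv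
  have he : ∀ v, e (((locι f C).f i).hom v) = LocalizedModule.mk v 1 := fun v =>
    LocalizedModule.equivTensorProduct_symm_apply_tmul_one (S := S) (M := C.X i) v
  have hs : ∀ (k : ℕ) (w : (ModuleCat.restrictScalars.{u}
      (algebraMap B (Localization.Away f))).obj ((ModuleCat.extendScalars.{u, u, u}
        (algebraMap B (Localization.Away f))).obj (C.X i))), e (f ^ k • w) = f ^ k • e w := by
    intro k w
    let w' : (ModuleCat.extendScalars.{u, u, u}
        (algebraMap B (Localization.Away f))).obj (C.X i) := w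
    show (LocalizedModule.equivTensorProduct S (C.X i)).symm
      (extEquiv'.{u, u} (Localization.Away f) (C.X i)
        (algebraMap B (Localization.Away f) (f ^ k) • w')) = _
    rw [map_smul, map_smul, algebraMap_smul]
    rfl
  refine ⟨fun w => ?_, fun v hv => ?_⟩
  · obtain ⟨x, s, hx⟩ : ∃ x s, e w = LocalizedModule.mk x s := by
      induction e w using LocalizedModule.induction_on with
      | h x s => exact ⟨x, s, rfl⟩
    obtain ⟨c, k, rfl⟩ := s
    refine ⟨k, x, e.injective ?_⟩
    refine (hs k w).trans (Eq.trans ?_ (he x).symm)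
    rw [hx, LocalizedModule.smul'_mk]
    exact LocalizedModule.mk_eq.2 ⟨1, by simp [Submonoid.smul_def]⟩
  · have h : LocalizedModule.mk v 1 = LocalizedModule.mk (0 : C.X i) (1 : S) := by
      rw [← he, ← he, hv, map_zero]
    obtain ⟨⟨c, k, rfl⟩, hc⟩ := LocalizedModule.mk_eq.1 h
    exact ⟨k, by simpa [Submonoid.smul_def] using hc⟩

/-- Without maps to `f`-local objects, the cohomology is `f`-power torsion. -/
theorem hTors_of_hom_loc (C : CochainComplex (ModuleCat.{u} B) ℤ)
    (h : DerivedCategory.Q.map (locι f C) = 0) : HTors f C := by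
  intro i a
  obtain ⟨z, rfl⟩ := cls_surjective C i a
  have h0 : HomologicalComplex.homologyMap (locι f C) i = 0 := by
    have e := (DerivedCategory.homologyFunctorFactors (ModuleCat.{u} B) i).hom.naturality (locι f C)
    simp only [Functor.comp_map, h, Functor.map_zero, zero_comp] at e
    exact (cancel_epi (((DerivedCategory.homologyFunctorFactors (ModuleCat.{u} B) i).app C).hom)).1
      (e.symm.trans comp_zero.symm)
  have h1 := homologyMap_cls i (locι f C) z
  rw [h0] at h1
  obtain ⟨w, hw⟩ := (cls_eq_zero_iff _ i _).1 h1.symm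
  obtain ⟨k, v, hv⟩ := (locι_spec f C (i - 1)).1 w
  have hd : ((locι f C).f i).hom (f ^ k • z.1 - (C.d (i - 1) i).hom v) = 0 := by
    rw [map_sub, map_smul, sub_eq_zero]
    have h2 := congr($((locι f C).comm (i - 1) i) v)
    refine Eq.trans ?_ h2
    refine (congrArg (f ^ k • ·) hw.symm).trans ?_
    refine ((map_smul _ _ _).symm.trans ?_)
    exact congrArg _ hv
  obtain ⟨m, hm⟩ := (locι_spec f C i).2 _ hd
  refine ⟨m + k, ?_⟩
  rw [← map_smul, cls_eq_zero_iff]
  refine ⟨f ^ m • v, ?_⟩
  rw [map_smul]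
  show _ = f ^ (m + k) • z.1
  rw [pow_add, mul_smul]
  exact (sub_eq_zero.1 ((smul_sub _ _ _).symm.trans hm)).symm

end Loc

lemma isPowerTorsion_of_hTors {J : Ideal B} (hJ : J.FG) (l : List B) (hl : J ≤ (ide l).radical)
    (C : CochainComplex (ModuleCat.{u} B) ℤ) (h : ∀ f ∈ l, HTors f C) {T : Dual.D B}
    (e : T ≅ DerivedCategory.Q.obj C) (i : ℤ) : LocCoh.IsPowerTorsion J (Dual.HD B T i) := by
  let ε := ((DerivedCategory.homologyFunctor (ModuleCat.{u} B) i).mapIso e ≪≫ hdIso C i).toLinearEquiv
  intro x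
  have : ∀ l' : List B, (∀ f ∈ l', f ∈ l) → ∃ n : ℕ, ∀ a ∈ (ide l') ^ n, a • ε x = 0 := by
    intro l'
    induction l' with
    | nil =>
      refine fun _ => ⟨1, fun a ha => ?_⟩
      rw [pow_one] at ha
      rw [(Ideal.mem_bot.1 ha), zero_smul]
    | cons f l' ih =>
      intro hl'
      obtain ⟨n, hn⟩ := ih fun g hg => hl' g (List.mem_cons_of_mem _ hg)
      obtain ⟨m, hm⟩ := h f (hl' f List.mem_cons_self) i (ε x)
      refine ⟨m + n, fun a ha => ?_⟩
      obtain ⟨b, hb, c, hc, rfl⟩ := Submodule.mem_sup.1 (Ideal.sup_pow_add_le_pow_sup_pow ha)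
      rw [Ideal.span_singleton_pow] at hb
      obtain ⟨d, rfl⟩ := Ideal.mem_span_singleton'.1 hb
      rw [add_smul, mul_smul, hm, smul_zero, hn c hc, add_zero]
  obtain ⟨n, hn⟩ := this l fun f hf => hf
  obtain ⟨k, hk⟩ := Ideal.exists_pow_le_of_le_radical_of_fg hl hJ
  refine ⟨k * n, fun a ha => ε.injective ?_⟩
  rw [map_smul, map_zero]
  rw [pow_mul] at ha
  exact hn a (Ideal.pow_right_mono hk n ha)

variable {A : Type u} [CommRing A] (φ : A →+* B)

/-- The derived extension-restriction adjunction. -/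
noncomputable def bcAdj [DRing.HasLBaseChange φ] : DRing.LBaseChange φ ⊣ DRing.restrictD φ :=
  DR.Derived.derivedAdj (ModuleCat.extendRestrictScalarsAdj.{u} φ)

lemma bij_single (g : B) (M : ModuleCat.{u} B) (hM : Function.Bijective fun x : M => g • x) (i : ℤ) :
    Function.Bijective fun x : ((HomologicalComplex.single _ (ComplexShape.up ℤ) 0).obj M).X i =>
      g • x := by
  by_cases hi : i = 0
  · subst hi
    let e := (HomologicalComplex.singleObjXSelf (ComplexShape.up ℤ) 0 M).toLinearEquiv
    have : (fun x : ((HomologicalComplex.single _ (ComplexShape.up ℤ) 0).obj M).X 0 => g • x) =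
        e.symm ∘ (fun x : M => g • x) ∘ e := by
      funext x
      simp
    rw [this]
    exact e.symm.bijective.comp (hM.comp e.bijective)
  · have := ModuleCat.subsingleton_of_isZero
      (HomologicalComplex.isZero_single_obj_X (ComplexShape.up ℤ) 0 M i hi)
    exact ⟨fun _ _ _ => Subsingleton.elim _ _, fun b => ⟨b, Subsingleton.elim _ _⟩⟩

variable [DRing.HasLBaseChange φ]

/-- Base change of `M[0]` for flat `M`. -/
theorem nonempty_bc_single (M : ModuleCat.{u} A) [Module.Flat A M] :
    Nonempty ((DRing.LBaseChange φ).obj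
        ((DerivedCategory.singleFunctor (ModuleCat.{u} A) 0).obj M) ≅
      DerivedCategory.Q.obj ((HomologicalComplex.single (ModuleCat.{u} B) (ComplexShape.up ℤ) 0).obj
        ((ModuleCat.extendScalars.{u, u, u} φ).obj M))) := by
  refine ⟨bcFlat φ ((HomologicalComplex.single _ (ComplexShape.up ℤ) 0).obj M) 0
    (fun i hi => HomologicalComplex.isZero_single_obj_X _ _ _ _ (by omega)) (fun i => ?_) ≪≫
      DerivedCategory.Q.mapIso ((HomologicalComplex.singleMapHomologicalComplex
        (ModuleCat.extendScalars.{u, u, u} φ) (ComplexShape.up ℤ) 0).app M)⟩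
  by_cases hi : i = 0
  · subst hi
    exact DR.BaseChange.good_flat.iso
      (HomologicalComplex.singleObjXSelf (ComplexShape.up ℤ) 0 M).symm ‹Module.Flat A M›
  · exact DR.BaseChange.good_flat.zero (HomologicalComplex.isZero_single_obj_X _ _ _ _ hi)

/-- Base change of `A[0]`. -/
theorem nonempty_bc_unit :
    Nonempty ((DRing.LBaseChange φ).obj (Dual.inD A A) ≅ Dual.inD B B) := by
  let _ := φ.toAlgebra
  have : Module.Flat A (ModuleCat.of A A) := inferInstanceAs (Module.Flat A A)
  obtain ⟨e⟩ := nonempty_bc_single φ (ModuleCat.of A A)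
  exact ⟨e ≪≫ DerivedCategory.Q.mapIso ((HomologicalComplex.single (ModuleCat.{u} B)
    (ComplexShape.up ℤ) 0).mapIso (LinearEquiv.toModuleIso
      (m₁ := ((ModuleCat.extendScalars.{u, u, u} φ).obj (ModuleCat.of A A)).isModule)
      ((extEquiv'.{u, u} B (ModuleCat.of A A)).trans (TensorProduct.AlgebraTensorModule.rid A B B))))⟩

variable [IsNoetherianRing A] [IsNoetherianRing B] (I : Ideal A) (J : Ideal B)
  [DRing.HasRgammaI I] [DRing.HasRgammaI J] (hIJ : I.map φ ≤ J) (hJI : J ≤ (I.map φ).radical)

include hIJ in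
lemma isDerivedComplete_restrictD {Y : Dual.D B} (hY : DRing.IsDerivedComplete J Y) :
    DRing.IsDerivedComplete I ((DRing.restrictD φ).obj Y) := by
  intro f hf n
  refine subsingleton_of_forall_eq 0 fun x => ?_
  have : Module.Flat A (ModuleCat.of A (Localization.Away f)) :=
    inferInstanceAs (Module.Flat A (Localization.Away f))
  obtain ⟨e⟩ := nonempty_bc_single φ (ModuleCat.of A (Localization.Away f))
  let adj := bcAdj φ
  let x' := x ≫ (((DRing.restrictD φ).commShiftIso n).app Y).inv
  have hp : Perp J ((DRing.LBaseChange φ).obj (Dual.inD A (Localization.Away f))) := by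
    refine (perp_of_bijective (φ f) (hIJ (Ideal.mem_map_of_mem φ hf)) _
      (bij_single (φ f) _ ?_)).of_iso e.symm
    have : IsIso (f • 𝟙 (ModuleCat.of A (Localization.Away f))) := by
      rw [ConcreteCategory.isIso_iff_bijective]
      obtain ⟨u, hu⟩ := IsLocalization.Away.algebraMap_isUnit (S := Localization.Away f) f
      show Function.Bijective fun z : Localization.Away f => f • z
      rw [show (fun z : Localization.Away f => f • z) = fun z => (u : Localization.Away f) * z by
        funext z; rw [hu, Algebra.smul_def]]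
      exact u.mulLeft.bijective
    have h2 := (ConcreteCategory.isIso_iff_bijective
      ((ModuleCat.extendScalars.{u, u, u} φ).map (f • 𝟙 (ModuleCat.of A (Localization.Away f))))).1
      inferInstance
    have he : (ModuleCat.extendScalars.{u, u, u} φ).map
        (f • 𝟙 (ModuleCat.of A (Localization.Away f))) =
          φ f • 𝟙 ((ModuleCat.extendScalars.{u, u, u} φ).obj
            (ModuleCat.of A (Localization.Away f))) := by
      refine ModuleCat.ExtendScalars.hom_ext fun m => ?_
      refine (ModuleCat.ExtendScalars.map_tmul φ _ _ m).trans ?_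
      refine Eq.trans ?_ (ModuleCat.ExtendScalars.smul_tmul φ (φ f) 1 m).symm
      exact (TensorProduct.smul_tmul (R := A) (M := (ModuleCat.restrictScalars φ).obj (ModuleCat.of B B))
        f (1 : B) m).symm
    rw [he] at h2
    exact h2
  have h0 : (adj.homEquiv _ _).symm x' = 0 := hp _ (isDerivedComplete_shift hY n) _
  have : x' = 0 := by
    rw [← (adj.homEquiv _ _).apply_symm_apply x', h0, adj.homEquiv_unit, Functor.map_zero, comp_zero]
  exact (cancel_mono (((DRing.restrictD φ).commShiftIso n).app Y).inv).1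
    (this.trans zero_comp.symm)

include hIJ hJI in
/-- Base change of `RΓ_I K` is `RΓ_J` of the base change of `K`. -/
theorem nonempty_bc_RgammaI (K : Dual.D A) :
    Nonempty ((DRing.LBaseChange φ).obj ((DRing.RgammaI I).obj K) ≅
      (DRing.RgammaI J).obj ((DRing.LBaseChange φ).obj K)) := by
  let adj := bcAdj φ
  refine nonempty_iso_RgammaI_of_pBij J ((DRing.LBaseChange φ).map ((DRing.RgammaIε I).app K))
    (fun Y hY => ?_) ?_
  · have h := pBij_ε I K _ (isDerivedComplete_restrictD φ I J hIJ hY)
    have h1 := (adj.homEquiv ((DRing.RgammaI I).obj K) Y).symm.bijective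
    have h2 := (adj.homEquiv K Y).bijective
    convert h1.comp (h.comp h2) using 1
    funext x
    apply (adj.homEquiv _ Y).injective
    refine (Adjunction.homEquiv_naturality_left _ _ _).trans ?_
    exact ((adj.homEquiv _ Y).apply_symm_apply _).symm
  · obtain ⟨C, -, -, ⟨e⟩⟩ := exists_rep ((DRing.LBaseChange φ).obj ((DRing.RgammaI I).obj K))
    obtain ⟨l, hl⟩ := exists_ide_eq (IsNoetherian.noetherian I)
    have hmap : ∀ l' : List A, ide (l'.map φ) = (ide l').map φ := fun l' => by
      induction l' with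
      | nil => simp [ide]
      | cons a l' ih => simp [ide, ih, Ideal.map_sup, Ideal.map_span]
    refine isPowerTorsion_of_hTors (IsNoetherian.noetherian J) (l.map φ)
      (by rw [hmap, hl]; exact hJI) C (fun g hg => hTors_of_hom_loc g C ?_) e
    obtain ⟨f, hf, rfl⟩ := List.mem_map.1 hg
    let L := ((ModuleCat.restrictScalars.{u}
      (algebraMap B (Localization.Away (φ f)))).mapHomologicalComplex
        (ComplexShape.up ℤ)).obj (((ModuleCat.extendScalars.{u, u, u}
          (algebraMap B (Localization.Away (φ f)))).mapHomologicalComplex (ComplexShape.up ℤ)).obj C)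
    let x := (adj.homEquiv _ _) (e.hom ≫ DerivedCategory.Q.map (locι (φ f) C))
    let R := ModuleCat.restrictScalars.{u} φ
    have hperp : Perp I ((DRing.restrictD φ).obj (DerivedCategory.Q.obj L)) :=
      (perp_of_bijective f (hl ▸ mem_ide hf) ((R.mapHomologicalComplex (ComplexShape.up ℤ)).obj L)
        (fun i => extendScalars_smul_bijective (φ f) (C.X i))).of_iso
          (R.mapDerivedCategoryFactors.app L).symm
    have hx : x = 0 := eq_zero_of_torsion_of_perp I (isPowerTorsion_HD_RgammaI I K) hperp x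
    apply (cancel_epi e.hom).1
    rw [comp_zero]
    apply (adj.homEquiv _ _).injective
    refine hx.trans ?_
    rw [adj.homEquiv_unit, Functor.map_zero, comp_zero]

end Groth.Agent.Lib.RGamma
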