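import Groth.Agent.Lib.RGamma.Complete

/-!
# Greenlees–May duality

An object without maps to derived complete objects has no maps from `I`-power torsion ones.
-/

universe u

open CategoryTheory CategoryTheory.Limits Opposite Pretriangulated

attribute [local instance] HasDerivedCategory.standard

namespace Groth.Agent.Lib.RGamma

variable {A : Type u} [CommRing A] {I : Ideal A}

/-- The elements of `A` acting nilpotently form an ideal. -/
def nilIdeal (Z : Dual.D A) : Ideal A where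
  carrier := {a | ∃ N : ℕ, (a ^ N) • 𝟙 Z = 0}
  zero_mem' := ⟨1, by simp⟩
  add_mem' := by
    rintro a b ⟨N, hN⟩ ⟨M, hM⟩
    refine ⟨N + M, ?_⟩
    have : (a + b) ^ (N + M) ∈ Ideal.span {a ^ N} ⊔ Ideal.span {b ^ M} := by
      have h := Ideal.sup_pow_add_le_pow_sup_pow (I := Ideal.span {a}) (J := Ideal.span {b})
        (n := N) (m := M) (Ideal.pow_mem_pow (add_mem (Ideal.mem_sup_left
          (Ideal.mem_span_singleton_self a)) (Ideal.mem_sup_right
          (Ideal.mem_span_singleton_self b))) (N + M))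
      simpa [Ideal.span_singleton_pow] using h
    obtain ⟨x, hx, y, hy, hxy⟩ := Submodule.mem_sup.1 this
    obtain ⟨c, rfl⟩ := Ideal.mem_span_singleton'.1 hx
    obtain ⟨d, rfl⟩ := Ideal.mem_span_singleton'.1 hy
    rw [← hxy, add_smul, mul_smul, mul_smul, hN, hM, smul_zero, smul_zero, add_zero]
  smul_mem' := by
    rintro c a ⟨N, hN⟩
    exact ⟨N, by rw [smul_eq_mul, mul_pow, mul_smul, hN, smul_zero]⟩

lemma isDerivedComplete_of_nilpotent {Z : Dual.D A} (h : I ≤ nilIdeal Z) :
    DRing.IsDerivedComplete I Z := by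
  intro f hf n
  refine subsingleton_of_forall_eq 0 fun φ => ?_
  obtain ⟨N, hN⟩ := h hf
  obtain ⟨u, hu⟩ := (IsLocalization.Away.algebraMap_isUnit (S := Localization.Away f) f).pow N
  have h0 : f ^ N • φ = 0 := by
    have h1 : (f ^ N) • 𝟙 (Z⟦n⟧) = 0 := by
      rw [← CategoryTheory.Functor.map_id, ← Functor.map_smul, hN, Functor.map_zero]
    calc f ^ N • φ = φ ≫ ((f ^ N) • 𝟙 (Z⟦n⟧)) := by rw [Linear.comp_smul, Category.comp_id]
      _ = 0 := by rw [h1, comp_zero]
  have hiso : IsIso ((f ^ N) • 𝟙 (ModuleCat.of A (Localization.Away f))) := by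
    rw [ConcreteCategory.isIso_iff_bijective]
    show Function.Bijective fun x : Localization.Away f => f ^ N • x
    have : (fun x : Localization.Away f => f ^ N • x) = fun x => (u : Localization.Away f) * x := by
      funext x
      rw [hu, Algebra.smul_def, map_pow]
    rw [this]
    exact u.mulLeft.bijective
  have hiso' : IsIso ((f ^ N) • 𝟙 (Dual.inD A (Localization.Away f))) := by
    rw [← CategoryTheory.Functor.map_id, ← Functor.map_smul]
    infer_instance
  apply (cancel_epi ((f ^ N) • 𝟙 (Dual.inD A (Localization.Away f)))).1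
  rw [comp_zero, Linear.smul_comp, Category.id_comp, h0]

/-- An iterated cone of multiplications. -/
theorem exists_kos : ∀ (l : List A) (C : Dual.D A), ∃ Z : Dual.D A, (∀ g ∈ l, g ∈ nilIdeal Z) ∧
    (∀ W : Dual.D A, (∀ m : ℤ, ∀ φ : C ⟶ W⟦m⟧, φ = 0) → ∀ m : ℤ, ∀ φ : Z ⟶ W⟦m⟧, φ = 0) ∧
    (∀ M : Dual.D A, (∀ g ∈ l, g • 𝟙 M = 0) → (∀ m : ℤ, ∀ φ : M⟦m⟧ ⟶ Z, φ = 0) →
      ∀ m : ℤ, ∀ φ : M⟦m⟧ ⟶ C, φ = 0)
  | [], C => ⟨C, by simp, fun W h => h, fun M _ h => h⟩
  | g :: l, C => by
    obtain ⟨X, hX1, hX2, hX3⟩ := exists_kos l C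
    obtain ⟨Z, i, δ, hT⟩ := distinguished_cocone_triangle (g • 𝟙 X)
    have hgi : g • i = 0 := by
      have h := comp_distTriang_mor_zero₁₂ _ hT
      exact (congrArg (g • ·) (Category.id_comp i).symm).trans ((Linear.smul_comp ..).symm.trans h)
    have hgδ : g • δ = 0 := by
      have h : δ ≫ (g • 𝟙 X)⟦(1 : ℤ)⟧' = 0 := comp_distTriang_mor_zero₃₁ _ hT
      rw [Functor.map_smul, CategoryTheory.Functor.map_id, Linear.comp_smul] at h
      exact (congrArg (g • ·) (Category.comp_id δ).symm).trans h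
    have key : ∀ a : A, a • i = 0 → a • δ = 0 → (a * a) • 𝟙 Z = 0 := fun a hai had => by
      obtain ⟨h, hh⟩ := Triangle.yoneda_exact₃ _ hT (a • 𝟙 Z) (by
        show i ≫ (a • 𝟙 Z) = 0
        rw [Linear.comp_smul, Category.comp_id, hai])
      rw [mul_smul, hh]
      show a • (δ ≫ h) = 0
      rw [← Linear.smul_comp, had, zero_comp]
    refine ⟨Z, fun g' hg' => ?_, fun W hW m φ => ?_, fun M hM hZ m φ => ?_⟩
    · rcases List.mem_cons.1 hg' with rfl | hg'
      · exact ⟨2, by rw [pow_two]; exact key g' hgi hgδ⟩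
      · obtain ⟨N, hN⟩ := hX1 g' hg'
        refine ⟨2 * N, ?_⟩
        rw [pow_mul', pow_two]
        refine key _ ?_ ?_
        · rw [← Category.id_comp i, ← Linear.smul_comp, hN, zero_comp]
        · rw [← Category.comp_id δ, ← Linear.comp_smul]
          show δ ≫ (g' ^ N • 𝟙 (X⟦(1 : ℤ)⟧)) = 0
          rw [← CategoryTheory.Functor.map_id, ← Functor.map_smul, hN, Functor.map_zero, comp_zero]
    · obtain ⟨ψ, hψ⟩ := Triangle.yoneda_exact₃ _ hT φ (hX2 W hW m (i ≫ φ))
      rw [hψ]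
      obtain ⟨ψ', hψ'⟩ := (shiftFunctor (Dual.D A) (1 : ℤ)).map_surjective
        (ψ ≫ ((shiftFunctorAdd' (Dual.D A) (m - 1) 1 m (by omega)).app W).hom)
      have : ψ ≫ ((shiftFunctorAdd' (Dual.D A) (m - 1) 1 m (by omega)).app W).hom = 0 := by
        rw [← hψ']
        exact (congrArg _ (hX2 W hW (m - 1) ψ')).trans (Functor.map_zero _ _ _)
      rw [(cancel_mono ((shiftFunctorAdd' (Dual.D A) (m - 1) 1 m (by omega)).app W).hom).1
        (this.trans zero_comp.symm)]
      exact comp_zero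
    · refine hX3 M (fun a ha => hM a (List.mem_cons_of_mem _ ha)) (fun k x => ?_) m φ
      obtain ⟨y, hy⟩ := Triangle.coyoneda_exact₂ _ (inv_rot_of_distTriang _ hT) x (by
        show x ≫ (g • 𝟙 X) = 0
        rw [Linear.comp_smul, Category.comp_id, ← Category.id_comp x, ← Linear.smul_comp,
          ← CategoryTheory.Functor.map_id, ← Functor.map_smul, hM g List.mem_cons_self,
          Functor.map_zero, zero_comp])
      rw [hy]
      obtain ⟨y', hy'⟩ := (shiftFunctor (Dual.D A) (-1 : ℤ)).map_surjective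
        (((shiftFunctorAdd' (Dual.D A) (k + 1) (-1) k (by omega)).app M).inv ≫ y)
      have : ((shiftFunctorAdd' (Dual.D A) (k + 1) (-1) k (by omega)).app M).inv ≫ y = 0 := by
        exact hy'.symm.trans ((congrArg _ (hZ (k + 1) y')).trans (Functor.map_zero _ _ _))
      rw [(cancel_epi ((shiftFunctorAdd' (Dual.D A) (k + 1) (-1) k (by omega)).app M).inv).1
        (this.trans comp_zero.symm)]
      exact zero_comp

/-- No maps from modules killed by a power of `I` into an object orthogonal to complete ones. -/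
theorem eq_zero_of_perp (hI : I.FG) {C : Dual.D A} (hC : Perp I C) (n : ℕ) (q : ℤ)
    (φ : (DerivedCategory.singleFunctor (ModuleCat.{u} A) 0).obj (quo I n) ⟶ C⟦q⟧) : φ = 0 := by
  obtain ⟨l, hl⟩ := exists_ide_eq hI
  obtain ⟨Z, h1, h2, h3⟩ := exists_kos (l.map (· ^ n)) (C⟦q⟧)
  have hZ : DRing.IsDerivedComplete I Z := by
    refine isDerivedComplete_of_nilpotent ?_
    rw [← hl]
    have : ∀ l' : List A, (∀ g ∈ l', g ∈ l) → ide l' ≤ nilIdeal Z := fun l' => by
      induction l' with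
      | nil => simp [ide]
      | cons a l' ih =>
        intro h
        refine sup_le ((Ideal.span_singleton_le_iff_mem _).2 ?_)
          (ih fun g hg => h g (List.mem_cons_of_mem _ hg))
        obtain ⟨N, hN⟩ := h1 (a ^ n) (List.mem_map.2 ⟨a, h a List.mem_cons_self, rfl⟩)
        exact ⟨n * N, by rwa [pow_mul]⟩
    exact this l fun g hg => hg
  have hz : ∀ m : ℤ, ∀ ψ : Z ⟶ Z⟦m⟧, ψ = 0 :=
    h2 Z fun m ψ => (hC.shift q) _ (isDerivedComplete_shift hZ m) ψ
  have hid : IsZero Z := by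
    rw [IsZero.iff_id_eq_zero]
    apply (cancel_mono ((shiftFunctorZero (Dual.D A) ℤ).app Z).inv).1
    rw [Category.id_comp, zero_comp]
    exact hz 0 _
  have h := h3 _ (fun g hg => ?_) (fun m ψ => hid.eq_of_tgt _ _) 0
    (((shiftFunctorZero (Dual.D A) ℤ).app _).hom ≫ φ)
  · exact (cancel_epi ((shiftFunctorZero (Dual.D A) ℤ).app _).hom).1 (h.trans comp_zero.symm)
  · obtain ⟨a, ha, rfl⟩ := List.mem_map.1 hg
    have hM : a ^ n • 𝟙 (quo I n) = 0 := by
      refine quo_hom_ext I ?_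
      show a ^ n • (Ideal.Quotient.mk (I ^ n) 1) = 0
      rw [Algebra.smul_def, Ideal.Quotient.algebraMap_eq,
        Ideal.Quotient.eq_zero_iff_mem.2 (Ideal.pow_mem_pow (hl ▸ mem_ide ha) _), zero_mul]
    have h := congrArg (DerivedCategory.singleFunctor (ModuleCat.{u} A) 0).map hM
    rw [Functor.map_smul, CategoryTheory.Functor.map_id, Functor.map_zero] at h
    exact h

variable (I) [IsNoetherianRing A] [DRing.HasRgammaI I]

/-- `RΓ_I` kills the objects orthogonal to the complete ones. -/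
theorem isZero_RgammaI_of_perp {C : Dual.D A} (hC : Perp I C) :
    IsZero ((DRing.RgammaI I).obj C) := by
  refine isZero_of_subsingleton_HD fun q => ?_
  obtain ⟨e⟩ := nonempty_HD_RgammaI_equiv I C q
  have : Subsingleton (Dual2.HDI A I C q) := by
    refine subsingleton_of_forall_eq 0 fun a => ?_
    obtain ⟨j, g, rfl⟩ := colimit_rep _ a
    have : g = 0 := eq_zero_of_perp (IsNoetherian.noetherian I) hC j.unop.unop q g
    rw [this, map_zero]
  exact e.toEquiv.subsingleton

theorem isIso_ε_of_torsion {T : Dual.D A}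
    (hT : ∀ i, LocCoh.IsPowerTorsion I (Dual.HD A T i)) :
    IsIso ((DRing.RgammaIε I).app T) := by
  obtain ⟨J, hJ, hinj, ⟨e⟩⟩ := exists_rep T
  rw [NatTrans.isIso_app_iff_of_iso _ e]
  have := isIso_unit_of_isKInjective I J
  rw [isIso_ε_app_iff]
  obtain ⟨l, hl⟩ := exists_ide_eq (IsNoetherian.noetherian I)
  subst hl
  refine quasiIso_gamι l J (fun i => good_of_injective l _
    (Module.injective_module_of_injective_object A _ (inj := hinj i))) (fun f hf i a => ?_)
  let ε := ((DerivedCategory.homologyFunctor (ModuleCat.{u} A) i).mapIso e ≪≫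
    hdIso J i).toLinearEquiv
  obtain ⟨n, hn⟩ := hT i (ε.symm a)
  refine ⟨n, ε.symm.injective ?_⟩
  rw [map_smul, map_zero]
  exact hn _ (Ideal.pow_mem_pow (mem_ide hf) n)

/-- Torsion objects see `RΓ_I K` exactly as they see `K`. -/
theorem bijective_comp_ε (K : Dual.D A) {T : Dual.D A}
    (hT : ∀ i, LocCoh.IsPowerTorsion I (Dual.HD A T i)) :
    Function.Bijective fun h : T ⟶ (DRing.RgammaI I).obj K => h ≫ (DRing.RgammaIε I).app K := by
  have := isIso_ε_of_torsion I hT
  refine ⟨fun h₁ h₂ hh => ?_, fun g =>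
    ⟨inv ((DRing.RgammaIε I).app T) ≫ (DRing.RgammaI I).map g, ?_⟩⟩
  · have h := congrArg (DRing.RgammaI I).map hh
    simp only [Functor.map_comp] at h
    have := isIso_map_ε I K
    have := isIso_ε_of_torsion I (isPowerTorsion_HD_RgammaI I K)
    have h' := (cancel_mono _).1 h
    have n1 := (DRing.RgammaIε I).naturality h₁
    have n2 := (DRing.RgammaIε I).naturality h₂
    rw [h'] at n1
    exact (cancel_epi ((DRing.RgammaIε I).app T)).1 (n1.symm.trans n2)
  · show (inv ((DRing.RgammaIε I).app T) ≫ (DRing.RgammaI I).map g) ≫ _ = g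
    rw [Category.assoc]
    exact (congrArg (inv ((DRing.RgammaIε I).app T) ≫ ·)
      ((DRing.RgammaIε I).naturality g)).trans (IsIso.inv_hom_id_assoc _ _)

theorem eq_zero_of_torsion_of_perp {T C : Dual.D A}
    (hT : ∀ i, LocCoh.IsPowerTorsion I (Dual.HD A T i)) (hC : Perp I C) (φ : T ⟶ C) : φ = 0 := by
  have := isIso_ε_of_torsion I hT
  apply (cancel_epi ((DRing.RgammaIε I).app T)).1
  refine ((DRing.RgammaIε I).naturality φ).symm.trans ?_
  rw [(isZero_RgammaI_of_perp I hC).eq_of_tgt ((DRing.RgammaI I).map φ) 0, zero_comp, comp_zero]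

variable [DRing.HasDerivedCompletion I]

lemma pBij_toDerivedCompletion (K : Dual.D A) : PBij I (DRing.toDerivedCompletion I K) :=
  fun Y hY => by
  let Y' : DRing.DComp I := ⟨Y, hY⟩
  have h := ((DRing.derivedCompletionAdj I).homEquiv K Y').bijective
  refine ⟨fun a b hab => ?_, fun φ => ?_⟩
  · have h' := @h.1 (ObjectProperty.homMk a) (ObjectProperty.homMk b) (by
      rw [Adjunction.homEquiv_unit, Adjunction.homEquiv_unit]; exact hab)
    exact congrArg (fun x : _ ⟶ Y' => x.hom) h'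
  · obtain ⟨x, hx⟩ := h.2 φ
    rw [Adjunction.homEquiv_unit] at hx
    exact ⟨x.hom, hx⟩

/-- Greenlees–May, first half. -/
theorem nonempty_RgammaI_completion_iso (K : Dual.D A) :
    Nonempty ((DRing.RgammaI I).obj ((DRing.derivedCompletion I).obj K).obj ≅
      (DRing.RgammaI I).obj K) := by
  obtain ⟨C, p, δ, hT⟩ := distinguished_cocone_triangle (DRing.toDerivedCompletion I K)
  have hη := pBij_toDerivedCompletion I K
  have hC : Perp I C := fun Y hY φ => by
    obtain ⟨ψ, hψ⟩ := Triangle.yoneda_exact₃ _ hT φ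
      ((hη Y hY).1 (show _ ≫ p ≫ φ = _ ≫ (0 : _ ⟶ Y) by
        rw [← Category.assoc, show DRing.toDerivedCompletion I K ≫ p = 0 from
          comp_distTriang_mor_zero₁₂ _ hT, zero_comp, comp_zero]))
    obtain ⟨ψ', hψ'⟩ := (shiftFunctor (Dual.D A) (1 : ℤ)).map_surjective
      (ψ ≫ ((shiftEquiv (Dual.D A) (1 : ℤ)).counitIso.app Y).inv)
    obtain ⟨χ, hχ⟩ := (hη _ (isDerivedComplete_shift hY (-1))).2 ψ'
    have h : ψ ≫ ((shiftEquiv (Dual.D A) (1 : ℤ)).counitIso.app Y).inv =
        (DRing.toDerivedCompletion I K)⟦(1 : ℤ)⟧' ≫ χ⟦(1 : ℤ)⟧' := by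
      exact hψ'.symm.trans ((congrArg ((shiftFunctor (Dual.D A) (1 : ℤ)).map) hχ.symm).trans
        (Functor.map_comp _ _ _))
    rw [hψ]
    apply (cancel_mono ((shiftEquiv (Dual.D A) (1 : ℤ)).counitIso.app Y).inv).1
    have hδ0 : δ ≫ (DRing.toDerivedCompletion I K)⟦(1 : ℤ)⟧' = 0 :=
      comp_distTriang_mor_zero₃₁ _ hT
    exact ((Category.assoc _ _ _).trans ((congrArg (δ ≫ ·) h).trans
      ((Category.assoc _ _ _).symm.trans
        ((congrArg (· ≫ _) hδ0).trans zero_comp)))).trans zero_comp.symm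
  have hb : ∀ T : Dual.D A, (∀ i, LocCoh.IsPowerTorsion I (Dual.HD A T i)) →
      Function.Bijective fun φ : T ⟶ K => φ ≫ DRing.toDerivedCompletion I K := by
    intro T hTt
    refine ⟨fun a b hab => sub_eq_zero.1 ?_, fun φ => ?_⟩
    · obtain ⟨x, hx⟩ := Triangle.coyoneda_exact₂ _ (inv_rot_of_distTriang _ hT) (a - b) (by
        show (a - b) ≫ DRing.toDerivedCompletion I K = 0
        rw [Preadditive.sub_comp]; exact sub_eq_zero.2 hab)
      have hx0 : x = 0 := eq_zero_of_torsion_of_perp I hTt (hC.shift (-1)) x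
      exact hx.trans ((congrArg (· ≫ _) hx0).trans zero_comp)
    · obtain ⟨x, hx⟩ := Triangle.coyoneda_exact₂ _ hT φ
        (eq_zero_of_torsion_of_perp I hTt hC (φ ≫ p))
      exact ⟨x, hx.symm⟩
  let Kc := ((DRing.derivedCompletion I).obj K).obj
  let η := DRing.toDerivedCompletion I K
  obtain ⟨θ, hθ⟩ := (hb _ (isPowerTorsion_HD_RgammaI I Kc)).2 ((DRing.RgammaIε I).app Kc)
  obtain ⟨θ', hθ'⟩ := (bijective_comp_ε I K (isPowerTorsion_HD_RgammaI I Kc)).2 θ
  have hθ : θ ≫ η = (DRing.RgammaIε I).app Kc := hθ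
  have hθ' : θ' ≫ (DRing.RgammaIε I).app K = θ := hθ'
  have hn : (DRing.RgammaI I).map η ≫ (DRing.RgammaIε I).app Kc =
      (DRing.RgammaIε I).app K ≫ η := (DRing.RgammaIε I).naturality η
  refine ⟨⟨θ', (DRing.RgammaI I).map η, ?_, ?_⟩⟩
  · apply (bijective_comp_ε I Kc (isPowerTorsion_HD_RgammaI I Kc)).1
    show (θ' ≫ (DRing.RgammaI I).map η) ≫ (DRing.RgammaIε I).app Kc =
      𝟙 _ ≫ (DRing.RgammaIε I).app Kc
    rw [Category.assoc, hn, ← Category.assoc, hθ', hθ, Category.id_comp]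
  · apply (bijective_comp_ε I K (isPowerTorsion_HD_RgammaI I K)).1
    apply (hb _ (isPowerTorsion_HD_RgammaI I K)).1
    show (((DRing.RgammaI I).map η ≫ θ') ≫ (DRing.RgammaIε I).app K) ≫ η =
      (𝟙 _ ≫ (DRing.RgammaIε I).app K) ≫ η
    rw [Category.assoc _ θ', hθ', Category.assoc, hθ, hn, Category.id_comp]

/-- Greenlees–May, second half. -/
theorem isIso_completion_map_ε (K : Dual.D A) :
    IsIso ((DRing.derivedCompletion I).map ((DRing.RgammaIε I).app K)) := by
  rw [isIso_iff_coyoneda_map_bijective]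
  intro Y
  have h1 := ((DRing.derivedCompletionAdj I).homEquiv K Y).bijective
  have h2 := pBij_ε I K Y.obj Y.property
  have h3 := ((DRing.derivedCompletionAdj I).homEquiv ((DRing.RgammaI I).obj K) Y).symm.bijective
  convert h3.comp (h2.comp h1) using 1
  funext x
  apply ((DRing.derivedCompletionAdj I).homEquiv ((DRing.RgammaI I).obj K) Y).injective
  refine (Adjunction.homEquiv_naturality_left _ _ _).trans ?_
  exact (((DRing.derivedCompletionAdj I).homEquiv _ Y).apply_symm_apply _).symm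

end Groth.Agent.Lib.RGamma
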