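import Mathlib.Algebra.Category.ModuleCat.Colimits
import Mathlib.CategoryTheory.Limits.ConcreteCategory.Basic
import Mathlib.Algebra.Category.ModuleCat.FilteredColimits

/-!
# Recognising a filtered colimit of modules, across universes
-/

universe u w

open CategoryTheory CategoryTheory.Limits

namespace Groth.Agent.Lib.RGamma

variable {A : Type u} [CommRing A] {J : Type} [SmallCategory J] [IsFiltered J]

/-- A jointly surjective, eventually injective family identifies the colimit. -/
theorem nonempty_colimit_equiv (F : J ⥤ ModuleCat.{u + 1} A) (H : Type u) [AddCommGroup H]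
    [Module A H] (φ : ∀ j, F.obj j →ₗ[A] H)
    (hφ : ∀ {j k : J} (g : j ⟶ k) (x : F.obj j), φ k ((F.map g).hom x) = φ j x)
    (hs : ∀ h : H, ∃ j x, φ j x = h)
    (hi : ∀ j x, φ j x = 0 → ∃ (k : J) (g : j ⟶ k), (F.map g).hom x = 0) :
    Nonempty ((colimit F : ModuleCat.{u + 1} A) ≃ₗ[A] H) := by
  have : PreservesFilteredColimitsOfSize.{0, 0} (forget AddCommGrpCat.{u + 1}) :=
    preservesFilteredColimitsOfSize_shrink.{0, u + 1, 0, u + 1} _
  have : PreservesColimit F (forget (ModuleCat.{u + 1} A)) :=
    inferInstanceAs (PreservesColimit F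
      (forget₂ (ModuleCat.{u + 1} A) AddCommGrpCat.{u + 1} ⋙ forget AddCommGrpCat.{u + 1}))
  let c : Cocone F :=
    { pt := ModuleCat.of A (ULift.{u + 1} H)
      ι := { app := fun j => ModuleCat.ofHom ((ULift.moduleEquiv.symm : H ≃ₗ[A] _).toLinearMap ∘ₗ φ j)
             naturality := fun j k g => by
              ext x
              exact (congrArg ULift.up (hφ g x) :) } }
  have hb : Function.Bijective (colimit.desc F c).hom := by
    have hc : ∀ (j : J) (x : F.obj j), (colimit.desc F c).hom ((colimit.ι F j).hom x) =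
        ULift.up (φ j x) := fun j x => congr($(colimit.ι_desc c j) x)
    constructor
    · refine (injective_iff_map_eq_zero _).2 fun a ha => ?_
      obtain ⟨j, x, rfl⟩ := Concrete.colimit_exists_rep F a
      obtain ⟨k, g, hg⟩ := hi j x (congrArg ULift.down ((hc j x).symm.trans ha) :)
      exact (congr($(colimit.w F g) x)).symm.trans (by
        show (colimit.ι F k).hom ((F.map g).hom x) = 0
        rw [hg, map_zero])
    · rintro ⟨h⟩
      obtain ⟨j, x, rfl⟩ := hs h
      exact ⟨_, hc j x⟩
  exact ⟨(LinearEquiv.ofBijective _ hb).trans ULift.moduleEquiv⟩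

/-- Every element of a filtered colimit comes from some stage. -/
theorem colimit_rep (F : J ⥤ ModuleCat.{u + 1} A) (a : (colimit F : ModuleCat.{u + 1} A)) :
    ∃ (j : J) (x : F.obj j), (colimit.ι F j).hom x = a := by
  have : PreservesFilteredColimitsOfSize.{0, 0} (forget AddCommGrpCat.{u + 1}) :=
    preservesFilteredColimitsOfSize_shrink.{0, u + 1, 0, u + 1} _
  have : PreservesColimit F (forget (ModuleCat.{u + 1} A)) :=
    inferInstanceAs (PreservesColimit F
      (forget₂ (ModuleCat.{u + 1} A) AddCommGrpCat.{u + 1} ⋙ forget AddCommGrpCat.{u + 1}))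
  exact Concrete.colimit_exists_rep F a

end Groth.Agent.Lib.RGamma
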