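import Groth.Agent.Lib.RGamma.HDT
import Groth.Agent.Lib.DMod.Degree
import Mathlib.RingTheory.Spectrum.Prime.Topology
import Mathlib.RingTheory.Ideal.MinimalPrime.Noetherian

/-!
# Uniform annihilation of `Hom(P, K[i])` for finite modules `P` supported in `T`
-/

universe u

open CategoryTheory CategoryTheory.Limits Opposite Pretriangulated

attribute [local instance] HasDerivedCategory.standard

namespace Groth.Agent.Lib.RGamma.KillHom

open Groth.Agent.Lib.RGamma.HDT Groth.Agent.Lib.DMod

variable {A : Type u} [CommRing A]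

/-- The functor `M ↦ M[0]`. -/
noncomputable abbrev s0 : ModuleCat.{u} A ⥤ Dual.D A :=
  DerivedCategory.singleFunctor (ModuleCat.{u} A) 0

/-- The morphism `M[0] → N[0]` of a linear map. -/
noncomputable abbrev mp {M N : Type u} [AddCommGroup M] [Module A M] [AddCommGroup N] [Module A N]
    (f : M →ₗ[A] N) : Dual.inD A M ⟶ Dual.inD A N :=
  s0.map (ModuleCat.ofHom f)

lemma mp_comp {M N P : Type u} [AddCommGroup M] [Module A M] [AddCommGroup N] [Module A N]
    [AddCommGroup P] [Module A P] (f : M →ₗ[A] N) (g : N →ₗ[A] P) :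
    mp (g ∘ₗ f) = mp f ≫ mp g :=
  (congrArg s0.map (ModuleCat.ofHom_comp f g)).trans (s0.map_comp _ _)

lemma mp_smul_id {M : Type u} [AddCommGroup M] [Module A M] (a : A) :
    mp (a • (LinearMap.id : M →ₗ[A] M)) = a • 𝟙 (Dual.inD A M) := by
  rw [mp, show ModuleCat.ofHom (a • (LinearMap.id : M →ₗ[A] M)) = a • 𝟙 (ModuleCat.of A M) from rfl,
    CategoryTheory.Functor.map_smul, CategoryTheory.Functor.map_id]

section SES

variable {M₁ M₂ M₃ : Type u} [AddCommGroup M₁] [Module A M₁] [AddCommGroup M₂] [Module A M₂]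
  [AddCommGroup M₃] [Module A M₃] {f : M₁ →ₗ[A] M₂} {g : M₂ →ₗ[A] M₃}
  (hf : Function.Injective f) (hg : Function.Surjective g) (hfg : Function.Exact f g)

include hf hg hfg

lemma exists_ses : ∃ (S : ShortComplex (ModuleCat.{u} A)) (_ : S.ShortExact),
    S = ShortComplex.mk (ModuleCat.ofHom f) (ModuleCat.ofHom g)
      (ModuleCat.hom_ext hfg.linearMap_comp_eq_zero) :=
  ⟨_, { exact := (ShortComplex.ShortExact.moduleCat_exact_iff_function_exact _).2 hfg
        mono_f := (ModuleCat.mono_iff_injective _).2 hf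
        epi_g := (ModuleCat.epi_iff_surjective _).2 hg }, rfl⟩

/-- A map killed on the middle term comes from the connecting map. -/
lemma smul_eq_zero_of_left {Y : Dual.D A} {i j : ℤ} (h : i + 1 = j) {a : A}
    (ha : ∀ z : Dual.inD A M₁ ⟶ Y⟦i⟧, a • z = 0) (y : Dual.inD A M₃ ⟶ Y⟦j⟧)
    (hy : mp g ≫ y = 0) : a • y = 0 := by
  obtain ⟨S, hS, rfl⟩ := exists_ses hf hg hfg
  obtain ⟨z, hz⟩ := (HomSupp.exact_conn_leftComp hS.singleTriangle_distinguished Y i j h y).1 hy
  have := congrArg (HomSupp.conn hS.singleTriangle Y i j h) (ha z)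
  rw [← hz]
  exact (map_smul _ a z).symm.trans (this.trans (map_zero _))

/-- A map killed on the sub factors through the quotient. -/
lemma smul_eq_zero_of_right {Y : Dual.D A} {a : A}
    (ha : ∀ z : Dual.inD A M₃ ⟶ Y, a • z = 0) (y : Dual.inD A M₂ ⟶ Y)
    (hy : mp f ≫ y = 0) : a • y = 0 := by
  obtain ⟨S, hS, rfl⟩ := exists_ses hf hg hfg
  obtain ⟨z, hz⟩ := (Basic.exact_leftComp hS.singleTriangle_distinguished Y y).1 hy
  have := congrArg (Linear.leftComp A Y hS.singleTriangle.mor₂) (ha z)
  rw [← hz]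
  exact (map_smul _ a z).symm.trans (this.trans (map_zero _))

end SES

/-- `x` kills the classes of the maps `A/J → K[i]` in the direct limit. -/
def Kill (T : Set (PrimeSpectrum A)) (K : Dual.D A) (i : ℤ) (x : A) : Prop :=
  ∀ (J : Ideal A) (_ : mem T J) (g : qD J ⟶ K⟦i⟧), ∃ (J' : Ideal A) (_ : mem T J') (hle : J' ≤ J),
    x • (s0.map (qq hle) ≫ g) = 0

variable {T : Set (PrimeSpectrum A)}

lemma kill_of_smul_eq_zero {K : Dual.D A} {i : ℤ} {x : A}
    (h : ∀ y : Dual2.HDT A T K i, x • y = 0) : Kill T K i x := fun J hJ g => by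
  have h1 : cl J hJ (x • g) = 0 := (map_smul _ x g).trans (h _)
  obtain ⟨J', hJ', hle, he⟩ := (cl_eq_zero_iff hJ (x • g)).1 h1
  exact ⟨J', hJ', hle, (Linear.comp_smul _ _ _ _ x g).symm.trans he⟩

lemma smul_eq_zero_of_hom {K : Dual.D A} {i : ℤ} {x : A}
    (h : ∀ (J : Ideal A), mem T J → ∀ g : qD J ⟶ K⟦i⟧, x • g = 0) (y : Dual2.HDT A T K i) :
    x • y = 0 := by
  obtain ⟨J, hJ, g, rfl⟩ := HDT.exists_rep y
  rw [← map_smul, h J hJ g, map_zero]

variable [IsNoetherianRing A]

/-- Killing the classes in the limit kills `Hom(P, K[i])` up to a power. -/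
theorem kill_hom {K : Dual.D A} {a s : ℤ} (hKa : ∀ j : ℤ, j < a → Subsingleton (Dual.HD A K j))
    {x : A} (hx : ∀ i ≤ s, Kill T K i x) :
    ∀ (N : ℕ) (i : ℤ), i ≤ s → i < a + N → ∀ (P : Type u) [AddCommGroup P] [Module A P]
      [Module.Finite A P], mem T (Module.annihilator A P) →
      ∀ g : Dual.inD A P ⟶ K⟦i⟧, x ^ N • g = 0 := by
  classical
  intro N
  induction N with
  | zero =>
    intro i _ hi P _ _ _ _ g
    have hK : K.IsGE a := (DerivedCategory.isGE_iff _ _).2 fun j hj =>
      @ModuleCat.isZero_of_subsingleton _ _ _ (hKa j hj)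
    have hK' : (K⟦i⟧).IsGE (a - i) :=
      DerivedCategory.TStructure.t.isGE_shift K a i (a - i) (by omega)
    have : g = 0 := DR.Basic.hom_eq_zero_of_isLE_of_isGE g (a := 0) (b := a - i) (by omega)
      inferInstance hK'
    rw [this, smul_zero]
  | succ N ih =>
    intro i hi hia P _ _ _ hP g
    obtain ⟨r, π, hπ⟩ := Module.Finite.exists_fin' A P
    let J₀ := Module.annihilator A P
    let e : Fin r → ((A ⧸ J₀) →ₗ[A] P) := fun k =>
      Submodule.liftQ J₀ (LinearMap.toSpanSingleton A P (π (Pi.single k 1))) fun b hb =>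
        LinearMap.mem_ker.2 (Module.mem_annihilator.1 hb _)
    choose Jf hJf hle hkill using fun k => hx i hi J₀ hP (mp (e k) ≫ g)
    let J' := (∏ k, Jf k) * J₀
    have hJ' : mem T J' := by
      refine mem_mul ?_ hP
      refine Finset.prod_induction Jf (mem T) (fun _ _ h h' => mem_mul h h') ?_ fun k _ => hJf k
      rw [mem, Ideal.one_eq_top, Submodule.top_coe, PrimeSpectrum.zeroLocus_univ]
      exact Set.empty_subset _
    have hJk : ∀ k, J' ≤ Jf k := fun k => le_trans Ideal.mul_le_left
      (le_trans Ideal.prod_le_inf (Finset.inf_le (Finset.mem_univ k)))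
    have hJ₀ : J' ≤ J₀ := Ideal.mul_le_right
    let e' : Fin r → ((A ⧸ J') →ₗ[A] P) := fun k =>
      e k ∘ₗ Submodule.mapQ J' J₀ LinearMap.id hJ₀
    have hzero : ∀ k, x • (mp (e' k) ≫ g) = 0 := fun k => by
      have h1 : mp (e' k) = s0.map (qq (hJk k)) ≫ s0.map (qq (hle k)) ≫ mp (e k) := by
        rw [← Functor.map_comp_assoc, ← Functor.map_comp]
        refine congrArg s0.map (ModuleCat.hom_ext (LinearMap.ext fun z => ?_))
        obtain ⟨z, rfl⟩ := Submodule.Quotient.mk_surjective _ z
        rfl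
      rw [h1, Category.assoc, Category.assoc, ← Linear.comp_smul, ← Linear.comp_smul]
      refine (congrArg (fun t => s0.map (qq (hJk k)) ≫ t) ?_).trans comp_zero
      exact (Linear.comp_smul _ _ _ _ x _).trans (hkill k)
    let π' : (Fin r → A ⧸ J') →ₗ[A] P := ∑ k, e' k ∘ₗ LinearMap.proj k
    have hπ' : Function.Surjective π' := fun y => by
      obtain ⟨v, rfl⟩ := hπ y
      refine ⟨fun k => Submodule.Quotient.mk (v k), ?_⟩
      conv_rhs => rw [pi_eq_sum_univ' v, map_sum]
      simp only [π', LinearMap.sum_apply, LinearMap.comp_apply, LinearMap.proj_apply]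
      refine Finset.sum_congr rfl fun k _ => ?_
      rw [map_smul]
      rfl
    have h2 : x • (mp π' ≫ g) = 0 := by
      have : mp π' = ∑ k, mp (LinearMap.proj k : (Fin r → A ⧸ J') →ₗ[A] A ⧸ J') ≫ mp (e' k) := by
        rw [mp, show ModuleCat.ofHom π' = ∑ k, ModuleCat.ofHom (e' k ∘ₗ LinearMap.proj k) from
          ModuleCat.hom_ext (by rw [ModuleCat.hom_sum]; rfl), Functor.map_sum]
        exact Finset.sum_congr rfl fun k _ => mp_comp _ _
      rw [this, Preadditive.sum_comp, Finset.smul_sum]
      refine Finset.sum_eq_zero fun k _ => ?_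
      rw [Category.assoc, ← Linear.comp_smul, hzero k, comp_zero]
    have hker : mem T (Module.annihilator A (LinearMap.ker π')) := by
      refine Set.Subset.trans (PrimeSpectrum.zeroLocus_anti_mono fun b hb => ?_) hJ'
      exact Module.mem_annihilator.2 fun v => Subtype.ext (funext fun k => by
        obtain ⟨w, hw⟩ := Submodule.Quotient.mk_surjective _ (v.1 k)
        change b • v.1 k = 0
        rw [← hw, ← Submodule.Quotient.mk_smul, Submodule.Quotient.mk_eq_zero]
        exact Ideal.mul_mem_right w J' hb)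
    rw [pow_succ, mul_smul]
    refine smul_eq_zero_of_left (Submodule.injective_subtype (LinearMap.ker π')) hπ'
      (LinearMap.exact_subtype_ker_map π') (show (i - 1) + 1 = i by omega)
      (fun z => ih (i - 1) (by omega) (by omega) (LinearMap.ker π') hker z) (x • g) ?_
    rw [Linear.comp_smul]
    exact h2

/-- Devissage on the least degree of the support. -/
theorem devissage (d : PrimeSpectrum A → ℤ) (hd : ∀ {q p : PrimeSpectrum A}, q < p → d q < d p)
    (lo hi : ℤ) (hlo : ∀ q, lo ≤ d q ∧ d q ≤ hi) (s : ℤ) (x : A) (N₁ : ℕ) (K : Dual.D A)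
    (hloc : ∀ (P : Type u) [AddCommGroup P] [Module A P] [Module.Finite A P],
      mem T (Module.annihilator A P) → ∀ q ∈ Module.support A P,
      (∀ r ∈ Module.support A P, r ≤ q → r = q) → ∀ i ≤ s, ∀ g : Dual.inD A P ⟶ K⟦i⟧,
      ∃ t ∉ q.asIdeal, t • (x ^ N₁ • g) = 0) :
    ∃ N : ℕ, ∀ i ≤ s, ∀ (P : Type u) [AddCommGroup P] [Module A P] [Module.Finite A P],
      mem T (Module.annihilator A P) → ∀ g : Dual.inD A P ⟶ K⟦i⟧, x ^ N • g = 0 := by
  classical
  suffices key : ∀ k : ℕ, ∀ i ≤ s, ∀ (P : Type u) [AddCommGroup P] [Module A P] [Module.Finite A P],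
      mem T (Module.annihilator A P) → (∀ q ∈ Module.support A P, hi < d q + k) →
      ∀ g : Dual.inD A P ⟶ K⟦i⟧, x ^ ((2 ^ k - 1) * N₁) • g = 0 from
    ⟨_, fun i hi' P _ _ _ hP => key (hi + 1 - lo).toNat i hi' P hP fun q _ => by
      have := hlo q; omega⟩
  intro k
  induction k with
  | zero =>
    intro i _ P _ _ _ _ hsupp g
    have hs : Module.support A P = ∅ := Set.eq_empty_iff_forall_notMem.2 fun q hq => by
      have h1 := hsupp q hq
      have h2 := (hlo q).2
      omega
    have : Subsingleton P := Module.support_eq_empty_iff.1 hs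
    have h0 : 𝟙 (Dual.inD A P) = 0 := by
      rw [show 𝟙 (Dual.inD A P) = mp (LinearMap.id : P →ₗ[A] P) from (s0.map_id _).symm,
        show (LinearMap.id : P →ₗ[A] P) = 0 from LinearMap.ext fun v => Subsingleton.elim _ _]
      exact s0.map_zero _ _
    rw [show g = 0 by rw [← Category.id_comp g, h0, zero_comp], smul_zero]
  | succ k ih =>
    intro i hi' P _ _ _ hP hsupp g
    let S := {q : PrimeSpectrum A | q ∈ Module.support A P ∧ d q + k ≤ hi}
    have hmin : ∀ q ∈ S, ∀ r ∈ Module.support A P, r ≤ q → r = q := fun q hq r hr hrq => by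
      by_contra hne
      have h1 := hd (lt_of_le_of_ne hrq hne)
      have h2 := hsupp r hr
      have h3 := hq.2
      push_cast at h2
      omega
    have hS : S.Finite := by
      refine ((Ideal.finite_minimalPrimes_of_isNoetherianRing A (Module.annihilator A P)).preimage
        (fun p _ q _ h => PrimeSpectrum.ext h)).subset fun q hq => ?_
      refine ⟨⟨q.isPrime, Module.annihilator_le_of_mem_support hq.1⟩, fun J hJ hJle => ?_⟩
      have : (⟨J, hJ.1⟩ : PrimeSpectrum A) ∈ Module.support A P := by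
        rw [Module.support_eq_zeroLocus, PrimeSpectrum.mem_zeroLocus]
        exact hJ.2
      exact (congrArg PrimeSpectrum.asIdeal (hmin q hq _ this hJle)).ge
    let g' := x ^ N₁ • g
    let I : Ideal A := LinearMap.ker (LinearMap.toSpanSingleton A _ g')
    obtain ⟨t, htI, htS⟩ : ∃ t ∈ I, ∀ q ∈ S, t ∉ q.asIdeal := by
      by_contra hc
      push Not at hc
      have hsub : (I : Set A) ⊆ ⋃ q ∈ (↑hS.toFinset : Set (PrimeSpectrum A)), (q.asIdeal : Set A) :=
        fun t ht => by
          obtain ⟨q, hq, hq'⟩ := hc t ht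
          exact Set.mem_biUnion (hS.mem_toFinset.2 hq) hq'
      obtain ⟨q₀, -, -⟩ := hc 0 (zero_mem I)
      obtain ⟨q, hq, hle⟩ := (Ideal.subset_union_prime (f := PrimeSpectrum.asIdeal)
        (s := hS.toFinset) q₀ q₀ fun q _ _ _ => q.isPrime).1 hsub
      have hqS := hS.mem_toFinset.1 hq
      obtain ⟨t, ht, ht'⟩ := hloc P hP q hqS.1 (hmin q hqS) i hi' g
      exact ht (hle (LinearMap.mem_ker.2 ht'))
    have htg : t • g' = 0 := LinearMap.mem_ker.1 htI
    let F : P →ₗ[A] P := t • LinearMap.id
    let M' := (2 ^ k - 1) * N₁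
    have hstep : ∀ (Q : Type u) [AddCommGroup Q] [Module A Q] [Module.Finite A Q],
        Module.annihilator A P ≤ Module.annihilator A Q → (∀ v : Q, t • v = 0) →
        ∀ j ≤ s, ∀ z : Dual.inD A Q ⟶ K⟦j⟧, x ^ M' • z = 0 := by
      intro Q _ _ _ hle htQ j hj z
      refine ih j hj Q (Set.Subset.trans (PrimeSpectrum.zeroLocus_anti_mono hle) hP) (fun q hq => ?_) z
      have hqP : q ∈ Module.support A P := by
        rw [Module.support_eq_zeroLocus, PrimeSpectrum.mem_zeroLocus]
        exact hle.trans (Module.annihilator_le_of_mem_support hq)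
      have htq : t ∈ q.asIdeal :=
        Module.annihilator_le_of_mem_support hq (Module.mem_annihilator.2 htQ)
      by_contra hc
      exact htS q ⟨hqP, by omega⟩ htq
    have h1 : mp F.rangeRestrict ≫ mp (LinearMap.range F).subtype ≫ g' = 0 := by
      rw [← Category.assoc, ← mp_comp, show (LinearMap.range F).subtype ∘ₗ F.rangeRestrict = F from rfl,
        mp_smul_id, Linear.smul_comp, Category.id_comp, htg]
    have h2 : x ^ M' • (mp (LinearMap.range F).subtype ≫ g') = 0 :=
      smul_eq_zero_of_left (Submodule.injective_subtype (LinearMap.ker F))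
        F.surjective_rangeRestrict (fun v => by
          constructor
          · intro hv
            exact ⟨⟨v, LinearMap.mem_ker.2 (congrArg Subtype.val hv)⟩, rfl⟩
          · rintro ⟨w, rfl⟩
            exact Subtype.ext (LinearMap.mem_ker.1 w.2))
        (show (i - 1) + 1 = i by omega)
        (fun z => hstep (LinearMap.ker F)
          (fun b hb => Module.mem_annihilator.2 fun v =>
            Subtype.ext (Module.mem_annihilator.1 hb v.1))
          (fun v => Subtype.ext (LinearMap.mem_ker.1 v.2 : t • v.1 = 0)) (i - 1) (by omega) z)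
        _ h1
    have h3 : x ^ M' • (x ^ M' • g') = 0 := by
      refine smul_eq_zero_of_right (Submodule.injective_subtype (LinearMap.range F))
        (Submodule.mkQ_surjective _) (LinearMap.exact_subtype_mkQ _)
        (fun z => hstep (P ⧸ LinearMap.range F)
          (fun b hb => Module.mem_annihilator.2 fun v => by
            obtain ⟨w, rfl⟩ := Submodule.Quotient.mk_surjective _ v
            rw [← Submodule.Quotient.mk_smul, Module.mem_annihilator.1 hb w, Submodule.Quotient.mk_zero])
          (fun v => by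
            obtain ⟨w, rfl⟩ := Submodule.Quotient.mk_surjective _ v
            rw [← Submodule.Quotient.mk_smul, Submodule.Quotient.mk_eq_zero]
            exact ⟨w, rfl⟩) i hi' z) _ ?_
      rw [Linear.comp_smul]
      exact h2
    rw [show (2 ^ (k + 1) - 1) * N₁ = M' + (M' + N₁) by
      show _ = (2 ^ k - 1) * N₁ + ((2 ^ k - 1) * N₁ + N₁)
      have : 1 ≤ 2 ^ k := Nat.one_le_two_pow
      rw [show 2 ^ (k + 1) - 1 = (2 ^ k - 1) + ((2 ^ k - 1) + 1) by rw [pow_succ]; omega]
      ring, pow_add, pow_add, mul_smul, mul_smul]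
    exact h3

end Groth.Agent.Lib.RGamma.KillHom
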