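import Groth.Agent.Lib.RGamma.Derived

/-!
# `RΓ_I` has torsion cohomology and is idempotent
-/

universe u

open CategoryTheory CategoryTheory.Limits Opposite

attribute [local instance] HasDerivedCategory.standard

namespace Groth.Agent.Lib.RGamma

variable {A : Type u} [CommRing A] (I : Ideal A) [DRing.HasRgammaI I]

theorem isPowerTorsion_HD_RgammaI (K : Dual.D A) (i : ℤ) :
    LocCoh.IsPowerTorsion I (Dual.HD A ((DRing.RgammaI I).obj K) i) := by
  obtain ⟨J, hJ, -, ⟨e⟩⟩ := exists_rep K
  have := isIso_unit_of_isKInjective I J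
  let ε := ((DerivedCategory.homologyFunctor (ModuleCat.{u} A) i).mapIso
    ((DRing.RgammaI I).mapIso e ≪≫ objIso I J) ≪≫ hdIso _ i).toLinearEquiv
  intro m
  obtain ⟨⟨⟨z, n, hn⟩, hz⟩, hm⟩ := cls_surjective ((gam I).obj J) i (ε m)
  refine ⟨n, fun a ha => ε.injective ?_⟩
  rw [map_smul, map_zero, ← hm, ← map_smul]
  refine (congrArg _ ?_).trans (map_zero (cls ((gam I).obj J) i))
  exact Subtype.ext (Subtype.ext (hn a ha))

/-- On complexes, `RΓ_I` of the canonical map is an isomorphism. -/
theorem isIso_map_ε [IsNoetherianRing A] (K : Dual.D A) :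
    IsIso ((DRing.RgammaI I).map ((DRing.RgammaIε I).app K)) := by
  obtain ⟨J, hJ, hinj, ⟨e⟩⟩ := exists_rep K
  obtain ⟨l, hl⟩ := exists_ide_eq (IsNoetherian.noetherian I)
  have hu := isIso_unit_of_isKInjective I J
  have hu' := isIso_unit_of_good I hl ((gam I).obj J) fun i => good_of_injective l _
    (LocalCoh.injective_torsionSub (hE :=
      Module.injective_module_of_injective_object A _ (inj := hinj i)) I (J.X i))
  have hgam : IsIso ((gam I).map (gamι I J)) := by
    have : ∀ i, IsIso (((gam I).map (gamι I J)).f i) := fun i => by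
      rw [ConcreteCategory.isIso_iff_bijective]
      exact ⟨fun a b h => Subtype.ext (Subtype.ext (congrArg Subtype.val h :)),
        fun x => ⟨⟨⟨x.1, x.2⟩, by
          obtain ⟨n, hn⟩ := x.2; exact ⟨n, fun a ha => Subtype.ext (hn a ha)⟩⟩, rfl⟩⟩
    exact HomologicalComplex.Hom.isIso_of_components _
  have hkh : IsIso ((DRing.gammaIKh I).map (quot.map (gamι I J))) :=
    (NatIso.isIso_map_iff (khIso I) (gamι I J)).2
      (inferInstanceAs (IsIso (DerivedCategory.Q.map ((gam I).map (gamι I J)))))
  have h1 : IsIso ((DRing.RgammaI I).map (DerivedCategory.Qh.map (quot.map (gamι I J)))) := by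
    have hn : (DRing.gammaIKh I).map (quot.map (gamι I J)) ≫ (unit I).app (quot.obj J) =
        (unit I).app (quot.obj ((gam I).obj J)) ≫
          (DRing.RgammaI I).map (DerivedCategory.Qh.map (quot.map (gamι I J))) :=
      (unit I).naturality (quot.map (gamι I J))
    have : IsIso ((unit I).app (quot.obj ((gam I).obj J)) ≫
        (DRing.RgammaI I).map (DerivedCategory.Qh.map (quot.map (gamι I J)))) := by
      rw [← hn]; infer_instance
    exact IsIso.of_isIso_comp_left ((unit I).app (quot.obj ((gam I).obj J))) _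
  have h2 : IsIso ((DRing.RgammaI I).map (DerivedCategory.Q.map (gamι I J))) :=
    (NatIso.isIso_map_iff (Functor.isoWhiskerRight (DerivedCategory.quotientCompQhIso _)
      (DRing.RgammaI I)) (gamι I J)).1 h1
  have h3 : IsIso ((DRing.RgammaI I).map
      ((DRing.RgammaIε I).app (DerivedCategory.Qh.obj (quot.obj J)))) := by
    have hτ := (RgammaIε_fac I (quot.obj J)).trans (gammaIτ_app I J)
    rw [show (DRing.RgammaIε I).app (DerivedCategory.Qh.obj (quot.obj J)) =
        inv ((unit I).app (quot.obj J)) ≫ (khIso I).hom.app J ≫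
          DerivedCategory.Q.map (gamι I J) ≫
            (DerivedCategory.quotientCompQhIso _).inv.app J from
      (IsIso.eq_inv_comp _).2 hτ]
    simp only [Functor.map_comp]
    infer_instance
  let α : K ≅ DerivedCategory.Qh.obj (quot.obj J) :=
    e ≪≫ ((DerivedCategory.quotientCompQhIso _).app J).symm
  have hnat := (DRing.RgammaIε I).naturality α.hom
  have : (DRing.RgammaIε I).app K = (DRing.RgammaI I).map α.hom ≫
      (DRing.RgammaIε I).app _ ≫ α.inv := by
    rw [← Category.assoc, hnat]
    simp
  rw [this]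
  simp only [Functor.map_comp]
  infer_instance

end Groth.Agent.Lib.RGamma
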