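import Groth.Agent.Lib.RGamma.LocalKill
import Groth.Agent.Lib.DMod.DimDegree
import Mathlib.Topology.Inseparable

/-!
# The annihilator theorem for local cohomology of complexes
-/

universe u

open CategoryTheory CategoryTheory.Limits Opposite Pretriangulated TensorProduct

attribute [local instance] HasDerivedCategory.standard

namespace Groth.Agent.Lib.RGamma.AnnihilatorThm

open Groth.Agent.Lib.RGamma.HDT Groth.Agent.Lib.DMod Groth.Agent.Lib.DMod.FlatHom

variable {A : Type u} [CommRing A]

lemma mem_prod {ι : Type*} {T : Set (PrimeSpectrum A)} (s : Finset ι) (f : ι → Ideal A)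
    (h : ∀ k ∈ s, mem T (f k)) : mem T (∏ k ∈ s, f k) :=
  Finset.prod_induction f (mem T) (fun _ _ h h' => mem_mul h h')
    (by rw [mem, Ideal.one_eq_top, Submodule.top_coe, PrimeSpectrum.zeroLocus_univ]
        exact Set.empty_subset _) h

lemma mem_of_prime_of_mem {T : Set (PrimeSpectrum A)} (hT : StableUnderSpecialization T)
    {q : PrimeSpectrum A} (hq : q ∈ T) (n : ℕ) : mem T (q.asIdeal ^ n) := by
  refine mem_pow (fun r hr => hT ?_ hq) n
  exact (PrimeSpectrum.le_iff_specializes q r).1 hr

variable [IsNoetherianRing A]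

/-- The condition on the localizations at the primes outside `T'`. -/
abbrev Vanish {ω : Dual.D A} (hω : Dual.IsDualizing A ω) (T T' : Set (PrimeSpectrum A)) (s : ℤ)
    (K : Dual.D A) : Prop :=
  ∀ p q : PrimeSpectrum A, p ≤ q → p ∉ T' → q ∈ T → ∀ i : ℤ,
    i ≤ s - (Degree.deg hω q - Degree.deg hω p) →
      Subsingleton (Dual2.HDI (Localization.AtPrime p.asIdeal)
        (IsLocalRing.maximalIdeal (Localization.AtPrime p.asIdeal))
        ((L A (Localization.AtPrime p.asIdeal)).obj K) i)

variable {T T' : Set (PrimeSpectrum A)} (hT : StableUnderSpecialization T)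
  {ω : Dual.D A} (hω : Dual.IsDualizing A ω)
  {K : Dual.D A} (hK : ∀ i, Module.Finite A (Dual.HD A K i)) (a b : ℤ)
  (hab : ∀ i, i < a ∨ b < i → Subsingleton (Dual.HD A K i))

include hK hab hω

include hT in
theorem vanish_of_annihilated (s : ℤ) (J : Ideal A) (hJ : mem T' J)
    (hann : ∀ i ≤ s, ∀ x ∈ J, ∀ y : Dual2.HDT A T K i, x • y = 0) : Vanish hω T T' s K := by
  intro p q hpq hp hq i hi
  obtain ⟨x, hxJ, hxp⟩ : ∃ x ∈ J, x ∉ p.asIdeal := by
    by_contra hc
    push Not at hc
    exact hp (hJ hc)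
  have hKa : ∀ j : ℤ, j < a → Subsingleton (Dual.HD A K j) := fun j hj => hab j (Or.inl hj)
  have hGE : K.IsGE a := (Basic.isGE_iff K a).2 hKa
  have hkill : ∀ j ≤ s, KillHom.Kill T K j x := fun j hj =>
    KillHom.kill_of_smul_eq_zero (hann j hj x hxJ)
  rw [LocalKill.subsingleton_hdi_iff p hω hK a b hab i]
  intro g
  let i' := i + (Degree.deg hω q - Degree.deg hω p)
  let N := (i' + 1 - a).toNat
  have h1 := (LocalKill.killed_iff q hω hK a b hab i' (x ^ N)).1
    (LocalKill.hdi_killed q hGE i' (x ^ N) fun n g => KillHom.kill_hom hKa hkill N i'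
      (by omega) (by omega) (A ⧸ q.asIdeal ^ n)
      (by rw [Ideal.annihilator_quotient]; exact mem_of_prime_of_mem hT hq n) g)
  rw [show Degree.deg hω q - i' = Degree.deg hω p - i by omega] at h1
  obtain ⟨t, ht, htg⟩ := h1 g
  refine ⟨t * x ^ N, p.isPrime.mul_notMem (fun h => ht (hpq h))
    (fun h => hxp (p.isPrime.mem_of_pow_mem N h)), ?_⟩
  rw [mul_smul]
  exact htg

/-- One ideal for one degree of the dual complex. -/
theorem exists_ideal (s : ℤ) (hvan : Vanish hω T T' s K) (hT' : StableUnderSpecialization T')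
    (j : ℤ) :
    ∃ I : Ideal A, mem T' I ∧ ∀ q ∈ T, Degree.deg hω q ≤ j + s → ∀ x ∈ I, ∀ g : K ⟶ ω⟦j⟧,
      ∃ t ∉ q.asIdeal, t • (x • g) = 0 := by
  classical
  have hfin : Module.Finite A (K ⟶ ω⟦j⟧) := by
    obtain ⟨hf, c, d, hcd⟩ := FlatDualizing.bddFin_of_dualizing hω
    exact Devissage.finite_hom_of_bounded K (ω⟦j⟧) a b (c - j) (d - j) hab hK
      (fun k hk => have := hcd (j + k) (by omega)
        (Basic.HDShift ω j k (j + k) rfl).toEquiv.subsingleton)
      (fun k => have := hf (j + k); Module.Finite.equiv (Basic.HDShift ω j k (j + k) rfl).symm)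
  let S := (Ideal.finite_minimalPrimes_of_isNoetherianRing A
    (Module.annihilator A (K ⟶ ω⟦j⟧))).toFinset
  let inT : Ideal A → Prop := fun P => ∃ h : P.IsPrime, (⟨P, h⟩ : PrimeSpectrum A) ∈ T'
  let I₁ := ∏ P ∈ S.filter inT, P
  let I₂ := ∏ P ∈ S.filter (fun P => ¬ inT P), P
  obtain ⟨M, hM⟩ := Ideal.exists_pow_le_of_le_radical_of_fg_radical
    (I := I₁ * I₂) (J := Module.annihilator A (K ⟶ ω⟦j⟧)) (by
      rw [← Ideal.sInf_minimalPrimes]
      refine le_sInf fun P hP => ?_
      rw [Finset.prod_filter_mul_prod_filter_not S inT fun P => P]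
      exact le_trans Ideal.prod_le_inf
        (Finset.inf_le (f := fun P => P) ((Set.Finite.mem_toFinset _).2 hP)))
    (IsNoetherian.noetherian _)
  refine ⟨I₁ ^ M, mem_pow (mem_prod _ _ fun P hP => ?_) M, fun q hq hqj x hx g => ?_⟩
  · obtain ⟨hPp, hPT⟩ := (Finset.mem_filter.1 hP).2
    exact fun r hr => hT' ((PrimeSpectrum.le_iff_specializes ⟨P, hPp⟩ r).1 hr) hPT
  obtain ⟨t, htI, htq⟩ : ∃ t ∈ I₂, t ∉ q.asIdeal := by
    by_contra hc
    push Not at hc
    obtain ⟨P, hPS, hPq⟩ := (Ideal.IsPrime.prod_le q.isPrime).1 hc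
    obtain ⟨hPS, hPT⟩ := Finset.mem_filter.1 hPS
    have hPmin := (Set.Finite.mem_toFinset _).1 hPS
    have hPp : P.IsPrime := hPmin.1.1
    let p : PrimeSpectrum A := ⟨P, hPp⟩
    have hpT : p ∉ T' := fun h => hPT ⟨hPp, h⟩
    have h := (LocalKill.subsingleton_hdi_iff p hω hK a b hab (Degree.deg hω p - j)).1
      (hvan p q hPq hpT hq _ (by omega))
    rw [sub_sub_cancel] at h
    have hmem : p ∈ Module.support A (K ⟶ ω⟦j⟧) := by
      rw [Module.support_eq_zeroLocus, PrimeSpectrum.mem_zeroLocus]
      exact hPmin.1.2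
    obtain ⟨g, hg⟩ := Module.mem_support_iff'.1 hmem
    obtain ⟨t, ht, htg⟩ := h g
    exact hg t ht htg
  refine ⟨t ^ M, fun h => htq (q.isPrime.mem_of_pow_mem M h), ?_⟩
  rw [smul_smul]
  refine Module.mem_annihilator.1 (hM ?_) g
  rw [mul_pow, mul_comm (t ^ M) x]
  exact Ideal.mul_mem_mul hx (Ideal.pow_mem_pow htI M)

include hT in
theorem annihilated_of_vanish (hT' : StableUnderSpecialization T') (s : ℤ)
    (hvan : Vanish hω T T' s K) :
    ∃ J : Ideal A, mem T' J ∧ ∀ i ≤ s, ∀ x ∈ J, ∀ y : Dual2.HDT A T K i, x • y = 0 := by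
  have hKa : ∀ j : ℤ, j < a → Subsingleton (Dual.HD A K j) := fun j hj => hab j (Or.inl hj)
  have hGE : K.IsGE a := (Basic.isGE_iff K a).2 hKa
  obtain ⟨lo, hi, hlo⟩ := Degree.exists_le_deg hω
  choose I hI hIkill using exists_ideal hω hK a b hab s hvan hT'
  let J := ∏ j ∈ Finset.Icc (lo - s) (hi - a), I j
  have hJle : ∀ j ∈ Finset.Icc (lo - s) (hi - a), J ≤ I j := fun j hj =>
    le_trans Ideal.prod_le_inf (Finset.inf_le (f := I) hj)
  -- the local annihilation
  have hlocal : ∀ x ∈ J, ∀ q ∈ T, ∀ i ≤ s,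
      ∀ y : Dual2.HDI (Localization.AtPrime q.asIdeal)
        (IsLocalRing.maximalIdeal (Localization.AtPrime q.asIdeal))
        ((L A (Localization.AtPrime q.asIdeal)).obj K) i,
      algebraMap A (Localization.AtPrime q.asIdeal) x • y = 0 := by
    intro x hx q hq i hi'
    by_cases hia : a ≤ i
    · refine (LocalKill.killed_iff q hω hK a b hab i x).2 ?_
      have hq' := hlo q
      exact hIkill _ q hq (by omega) x (hJle _ (Finset.mem_Icc.2 ⟨by omega, by omega⟩) hx)
    · intro y
      refine LocalKill.hdi_killed q hGE i x (fun n g => ?_) y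
      have hK' : (K⟦i⟧).IsGE (a - i) :=
        DerivedCategory.TStructure.t.isGE_shift K a i (a - i) (by omega)
      rw [DR.Basic.hom_eq_zero_of_isLE_of_isGE g (a := 0) (b := a - i) (by omega) inferInstance hK',
        smul_zero]
  let N₁ := (s + 1 - a).toNat
  have hN : ∀ x ∈ J, ∃ N : ℕ, ∀ i ≤ s, ∀ y : Dual2.HDT A T K i, x ^ N • y = 0 := by
    intro x hx
    obtain ⟨N, hN⟩ := KillHom.devissage (T := T) (fun q => Degree.deg hω q) (Degree.deg_lt hω)
      lo hi hlo s x N₁ K (fun P _ _ _ hP q hqP hmin i hi' g => by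
        have hqT : q ∈ T := hP (Module.annihilator_le_of_mem_support hqP)
        refine LocalKill.exists_smul_eq_zero q hGE P i (x ^ N₁) (fun z => ?_) g
        have hLK : ∀ j : ℤ, j < a → Subsingleton (Dual.HD (Localization.AtPrime q.asIdeal)
            ((L A (Localization.AtPrime q.asIdeal)).obj K) j) := fun j hj =>
          have : ((L A (Localization.AtPrime q.asIdeal)).obj K).IsGE a := DR.ExactPush.isGE_map _ hGE
          Basic.subsingleton_HD_of_isGE _ a hj
        rw [map_pow]
        refine KillHom.kill_hom hLK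
          (fun i' hi'' => LocalKill.kill_of_hdi (hlocal x hx q hqT i' hi'')) N₁ i hi' (by omega)
          _ ?_ z
        intro r hr
        have hr' : PrimeSpectrum.comap (algebraMap A (Localization.AtPrime q.asIdeal)) r ∈
            Module.support A P := by
          rw [Module.support_eq_zeroLocus, PrimeSpectrum.mem_zeroLocus]
          intro v hv
          refine hr (Module.mem_annihilator.2 fun z => ?_)
          induction z using TensorProduct.induction_on with
          | zero => exact smul_zero _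
          | tmul c m =>
            rw [algebraMap_smul, ← TensorProduct.tmul_smul, Module.mem_annihilator.1 hv m,
              TensorProduct.tmul_zero]
          | add c d hc hd => rw [smul_add, hc, hd, add_zero]
        have h1 := hmin _ hr' (by
          intro v hv
          by_contra hv'
          exact r.isPrime.ne_top (Ideal.eq_top_of_isUnit_mem _ hv
            (IsLocalization.map_units (Localization.AtPrime q.asIdeal) (⟨v, hv'⟩ : q.asIdeal.primeCompl))))
        refine PrimeSpectrum.ext (le_antisymm (IsLocalRing.le_maximalIdeal r.isPrime.ne_top) ?_)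
        show IsLocalRing.maximalIdeal _ ≤ _
        rw [← IsLocalization.AtPrime.map_eq_maximalIdeal q.asIdeal (Localization.AtPrime q.asIdeal),
          Ideal.map_le_iff_le_comap]
        exact (congrArg PrimeSpectrum.asIdeal h1).ge)
    exact ⟨N, fun i hi' => KillHom.smul_eq_zero_of_hom fun J' hJ' g =>
      hN i hi' (A ⧸ J') (by rw [Ideal.annihilator_quotient]; exact hJ') g⟩
  choose N hN using hN
  refine ⟨Ideal.span (Set.range fun x : J => x.1 ^ N x.1 x.2), fun r hr => ?_, fun i hi' x hx y => ?_⟩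
  · refine mem_prod (T := T') (Finset.Icc (lo - s) (hi - a)) I (fun j _ => hI j) fun v hv => ?_
    exact r.isPrime.mem_of_pow_mem _ (hr (Ideal.subset_span ⟨⟨v, hv⟩, rfl⟩))
  · induction hx using Submodule.span_induction with
    | mem v hv => obtain ⟨⟨v, hv'⟩, rfl⟩ := hv; exact hN v hv' i hi' y
    | zero => exact zero_smul _ _
    | add v w _ _ h h' => rw [add_smul, h, h', add_zero]
    | smul c v _ h => rw [smul_eq_mul, mul_smul, h, smul_zero]

omit hab in
include hT in
/-- The annihilator theorem. -/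
theorem annihilated_iff (hT' : StableUnderSpecialization T')
    (hKa : ∀ i : ℤ, i < a → Subsingleton (Dual.HD A K i)) (s : ℤ) :
    (∃ J : Ideal A, mem T' J ∧ ∀ i ≤ s, ∀ x ∈ J, ∀ y : Dual2.HDT A T K i, x • y = 0) ↔
      Vanish hω T T' s K := by
  obtain ⟨S, hS, hS₂, hS₁, hS₃, h₁, -⟩ := Devissage.exists_trunc K (max s a + 1)
  subst hS₂
  have hfin : ∀ i, Module.Finite A (Dual.HD A S.obj₁ i) := fun i => by
    by_cases hi : i ≤ max s a + 1
    · obtain ⟨e⟩ := h₁ i hi
      have := hK i
      exact Module.Finite.equiv e.symm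
    · have := Basic.subsingleton_HD_of_isLE S.obj₁ (max s a + 1) (i := i) (by omega)
      exact Module.Finite.of_finite
  have hbd : ∀ i, i < a ∨ max s a + 1 < i → Subsingleton (Dual.HD A S.obj₁ i) := fun i hi => by
    rcases hi with hi | hi
    · obtain ⟨e⟩ := h₁ i (by omega)
      have := hKa i hi
      exact e.toEquiv.subsingleton
    · exact Basic.subsingleton_HD_of_isLE S.obj₁ (max s a + 1) hi
  have eT : ∀ i ≤ s, Nonempty (Dual2.HDT A T S.obj₁ i ≃ₗ[A] Dual2.HDT A T S.obj₂ i) := fun i hi =>
    LocalKill.nonempty_hdt_equiv T S hS (max s a + 1 + 1) i (by omega)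
  have eI : ∀ (p : PrimeSpectrum A), ∀ i ≤ s,
      Nonempty (Dual2.HDI (Localization.AtPrime p.asIdeal)
          (IsLocalRing.maximalIdeal (Localization.AtPrime p.asIdeal))
          ((L A (Localization.AtPrime p.asIdeal)).obj S.obj₁) i ≃ₗ[Localization.AtPrime p.asIdeal]
        Dual2.HDI (Localization.AtPrime p.asIdeal)
          (IsLocalRing.maximalIdeal (Localization.AtPrime p.asIdeal))
          ((L A (Localization.AtPrime p.asIdeal)).obj S.obj₂) i) := fun p i hi => by
    have : ((L A (Localization.AtPrime p.asIdeal)).mapTriangle.obj S).obj₃.IsGE (max s a + 1 + 1) :=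
      DR.ExactPush.isGE_map _ hS₃
    exact LocalKill.nonempty_hdi_equiv' _ _
      ((L A (Localization.AtPrime p.asIdeal)).map_distinguished S hS) (max s a + 1 + 1) i (by omega)
  constructor
  · rintro ⟨J, hJ, hann⟩
    have h := vanish_of_annihilated hT hω hfin a (max s a + 1) hbd s J hJ fun i hi x hx y => by
      obtain ⟨e⟩ := eT i hi
      apply e.injective
      rw [map_smul, map_zero]
      exact hann i hi x hx _
    intro p q hpq hp hq i hi
    have := Degree.deg_le hω hpq
    have := h p q hpq hp hq i hi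
    obtain ⟨e⟩ := eI p i (by omega)
    exact e.symm.toEquiv.subsingleton
  · intro h
    obtain ⟨J, hJ, hann⟩ := annihilated_of_vanish hT hω hfin a (max s a + 1) hbd hT' s
      fun p q hpq hp hq i hi => by
        have := Degree.deg_le hω hpq
        have := h p q hpq hp hq i hi
        obtain ⟨e⟩ := eI p i (by omega)
        exact e.toEquiv.subsingleton
    refine ⟨J, hJ, fun i hi x hx y => ?_⟩
    obtain ⟨e⟩ := eT i hi
    apply e.symm.injective
    rw [map_smul, map_zero]
    exact hann i hi x hx _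

omit hK hab in
/-- The height in the specializations of `p`. -/
theorem height_Ici {p q : PrimeSpectrum A} (hpq : p ≤ q) :
    Order.height (⟨q, hpq⟩ : Set.Ici p) =
      (((Degree.deg hω q - Degree.deg hω p).toNat : ℕ) : ℕ∞) := by
  apply le_antisymm
  · refine Order.height_le fun c hc => ?_
    have h1 := DimDegree.head_deg_add_length_le hω (c.map Subtype.val (fun _ _ h => h))
    have h2 := Degree.deg_le hω (show p ≤ c.head.1 from c.head.2)
    change Degree.deg hω c.head.1 + c.length ≤ Degree.deg hω c.last.1 at h1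
    rw [hc] at h1
    exact_mod_cast (show c.length ≤ (Degree.deg hω q - Degree.deg hω p).toNat by
      change Degree.deg hω c.head.1 + c.length ≤ Degree.deg hω q at h1
      omega)
  · have := Degree.deg_le hω hpq
    obtain ⟨c, hc, hc₁, hc₂⟩ := DimDegree.exists_series hω
      (Degree.deg hω q - Degree.deg hω p).toNat p q hpq (by omega)
    let c' : LTSeries (Set.Ici p) := LTSeries.mk c.length (fun k => ⟨c k, hc₁ ▸ c.head_le k⟩)
      fun k l h => c.strictMono h
    have h := Order.length_le_height (p := c') (x := (⟨q, hpq⟩ : Set.Ici p))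
      (le_of_eq (Subtype.ext hc₂))
    rwa [show c'.length = (Degree.deg hω q - Degree.deg hω p).toNat from hc] at h

omit hK hab in
/-- The dimension of an interval of primes. -/
theorem krullDim_Icc {p q : PrimeSpectrum A} (hpq : p ≤ q) :
    Order.krullDim (Set.Icc p q) =
      (((Degree.deg hω q - Degree.deg hω p).toNat : ℕ) : WithBot ℕ∞) :=
  DimDegree.krullDim_below hω q p {r | p ≤ r} (fun _ _ h h' => le_trans h h') hpq
    (show p ≤ p from le_rfl) fun _ hr _ => Degree.deg_le hω hr

end Groth.Agent.Lib.RGamma.AnnihilatorThm
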