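import Mathlib.Algebra.Homology.ShortComplex.ModuleCat
import Mathlib.Algebra.Homology.QuasiIso
import Mathlib.Algebra.Homology.HomologicalComplex

/-!
# Cohomology classes of cycles in complexes of modules
-/

universe v u

open CategoryTheory CategoryTheory.Limits

namespace Groth.Agent.Lib.RGamma

variable {R : Type u} [Ring R] (C : CochainComplex (ModuleCat.{v} R) ℤ) (i : ℤ)

/-- The cycles, as a submodule. -/
abbrev Cyc : Submodule R (C.X i) := LinearMap.ker (C.d i (i + 1)).hom

/-- The class of a cycle. -/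
noncomputable def cls : Cyc C i →ₗ[R] C.homology i :=
  (C.liftCycles (ModuleCat.ofHom (Cyc C i).subtype) (i + 1) (by simp)
    (ModuleCat.hom_ext (LinearMap.ext fun z => z.2)) ≫ C.homologyπ i).hom

lemma cls_surjective : Function.Surjective (cls C i) := by
  intro x
  obtain ⟨c, rfl⟩ := (ModuleCat.epi_iff_surjective (C.homologyπ i)).1 inferInstance x
  have hc : (C.iCycles i).hom c ∈ Cyc C i := by
    rw [LinearMap.mem_ker]
    exact congr($(C.iCycles_d i (i + 1)) c)
  refine ⟨⟨_, hc⟩, congrArg (C.homologyπ i).hom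
    ((ModuleCat.mono_iff_injective (C.iCycles i)).1 inferInstance ?_)⟩
  exact congr($(C.liftCycles_i (ModuleCat.ofHom (Cyc C i).subtype) (i + 1) (by simp)
    (ModuleCat.hom_ext (LinearMap.ext fun z => z.2))) ⟨_, hc⟩)

lemma cls_eq_zero_iff (z : Cyc C i) :
    cls C i z = 0 ↔ ∃ y : C.X (i - 1), (C.d (i - 1) i).hom y = z.1 := by
  let S := ShortComplex.mk (C.toCycles (i - 1) i) (C.homologyπ i) (C.toCycles_comp_homologyπ _ _)
  have hS : S.Exact := S.exact_of_g_is_cokernel (C.homologyIsCokernel (i - 1) i (by simp))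
  set c := (C.liftCycles (ModuleCat.ofHom (Cyc C i).subtype) (i + 1) (by simp)
    (ModuleCat.hom_ext (LinearMap.ext fun z => z.2))).hom z with hc
  have hi : (C.iCycles i).hom c = z.1 :=
    congr($(C.liftCycles_i (ModuleCat.ofHom (Cyc C i).subtype) (i + 1) (by simp)
      (ModuleCat.hom_ext (LinearMap.ext fun z => z.2))) z)
  have hd : ∀ y, (C.iCycles i).hom ((C.toCycles (i - 1) i).hom y) = (C.d (i - 1) i).hom y :=
    fun y => congr($(C.toCycles_i (i - 1) i) y)
  change (C.homologyπ i).hom c = 0 ↔ _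
  constructor
  · intro h
    obtain ⟨y, hy⟩ := (ShortComplex.moduleCat_exact_iff S).1 hS c h
    exact ⟨y, (hd y).symm.trans ((congrArg (C.iCycles i).hom hy).trans hi)⟩
  · rintro ⟨y, hy⟩
    have : c = (C.toCycles (i - 1) i).hom y :=
      (ModuleCat.mono_iff_injective (C.iCycles i)).1 inferInstance
        (hi.trans (hy.symm.trans (hd y).symm))
    rw [this]
    exact congr($(C.toCycles_comp_homologyπ (i - 1) i) y)

variable {C} {D : CochainComplex (ModuleCat.{v} R) ℤ} (φ : C ⟶ D)

lemma map_mem_cyc {z : C.X i} (hz : z ∈ Cyc C i) : (φ.f i).hom z ∈ Cyc D i := by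
  rw [LinearMap.mem_ker]
  rw [LinearMap.mem_ker] at hz
  exact (congr($(φ.comm i (i + 1)) z)).trans (by
    show (φ.f (i + 1)).hom ((C.d i (i + 1)).hom z) = 0
    rw [hz, map_zero])

lemma homologyMap_cls (z : Cyc C i) :
    (HomologicalComplex.homologyMap φ i).hom (cls C i z) =
      cls D i ⟨(φ.f i).hom z.1, map_mem_cyc i φ z.2⟩ := by
  have h1 := congr($(HomologicalComplex.homologyπ_naturality φ i)
    ((C.liftCycles (ModuleCat.ofHom (Cyc C i).subtype) (i + 1) (by simp)
      (ModuleCat.hom_ext (LinearMap.ext fun z => z.2))).hom z))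
  refine h1.trans (congrArg (D.homologyπ i).hom
    ((ModuleCat.mono_iff_injective (D.iCycles i)).1 inferInstance ?_))
  refine (congr($(HomologicalComplex.cyclesMap_i φ i) _)).trans ?_
  refine (congrArg (φ.f i).hom (congr($(C.liftCycles_i (ModuleCat.ofHom (Cyc C i).subtype)
    (i + 1) (by simp) (ModuleCat.hom_ext (LinearMap.ext fun z => z.2))) z))).trans ?_
  exact (congr($(D.liftCycles_i (ModuleCat.ofHom (Cyc D i).subtype)
    (i + 1) (by simp) (ModuleCat.hom_ext (LinearMap.ext fun z => z.2)))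
      ⟨(φ.f i).hom z.1, map_mem_cyc i φ z.2⟩)).symm

/-- A criterion for quasi-isomorphisms in terms of cycles and boundaries. -/
theorem quasiIsoAt_of_cycles
    (hs : ∀ x : D.X i, (D.d i (i + 1)).hom x = 0 → ∃ (z : C.X i) (w : D.X (i - 1)),
      (C.d i (i + 1)).hom z = 0 ∧ x = (φ.f i).hom z + (D.d (i - 1) i).hom w)
    (hi : ∀ z : C.X i, (C.d i (i + 1)).hom z = 0 →
      (∃ w : D.X (i - 1), (D.d (i - 1) i).hom w = (φ.f i).hom z) →
      ∃ y : C.X (i - 1), (C.d (i - 1) i).hom y = z) : QuasiIsoAt φ i := by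
  rw [quasiIsoAt_iff_isIso_homologyMap, ConcreteCategory.isIso_iff_bijective]
  constructor
  · refine (injective_iff_map_eq_zero _).2 fun a ha => ?_
    obtain ⟨z, rfl⟩ := cls_surjective C i a
    rw [cls_eq_zero_iff]
    refine hi z.1 z.2 ?_
    exact (cls_eq_zero_iff D i _).1 ((homologyMap_cls i φ z).symm.trans ha)
  · intro b
    obtain ⟨x, rfl⟩ := cls_surjective D i b
    obtain ⟨z, w, hz, hx⟩ := hs x.1 x.2
    refine ⟨cls C i ⟨z, hz⟩, (homologyMap_cls i φ ⟨z, hz⟩).trans (sub_eq_zero.1 ?_)⟩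
    rw [← map_sub, cls_eq_zero_iff]
    refine ⟨-w, ?_⟩
    simp only [map_neg, AddSubgroupClass.coe_sub, hx]
    abel

end Groth.Agent.Lib.RGamma
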