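import Groth.Agent.Lib.RGamma.GM
import Groth.Agent.Lib.DMod.FiniteRing
import Groth.Agent.Lib.RGamma.AnnihilatorThm
import Groth.Agent.Lib.ProZero.EvCrit
import Groth.Agent.Lib.DerivedOX.Exists
import Groth.Agent.Lib.LCFin.Bootstrap
import Groth.Agent.Lib.Depth.Ext
import Groth.Agent.S1816

/-!
# Annihilation of the cohomology of derived completions of `RΓ`
-/

set_option linter.style.haveILetI false

universe u

open CategoryTheory CategoryTheory.Limits Pretriangulated TensorProduct

attribute [local instance] HasDerivedCategory.standard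

namespace Groth.Agent.Lib.RGamma.CompletionKill

open Groth.Agent.Lib.DMod Groth.Agent.Lib.DMod.Basic Groth.Agent.Lib.DMod.FlatHom
open Groth.Agent.Lib.RGamma.HDT (mem qD qq)

variable {A : Type u} [CommRing A]

theorem hasRgammaI (I : Ideal A) : DRing.HasRgammaI I :=
  DerivedOX.RightDerived.hasRightDerivedFunctor _

variable [IsNoetherianRing A] (I : Ideal A) [DRing.HasRgammaI I]

omit [IsNoetherianRing A] in
theorem isPowerTorsion_shift (K : Dual.D A) (m j : ℤ) :
    LocCoh.IsPowerTorsion I (Dual.HD A (((DRing.RgammaI I).obj K)⟦m⟧) j) := fun x => by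
  let e := HDShift ((DRing.RgammaI I).obj K) m j (m + j) rfl
  obtain ⟨n, hn⟩ := isPowerTorsion_HD_RgammaI I K (m + j) (e x)
  exact ⟨n, fun a ha => e.injective (by rw [map_smul, map_zero]; exact hn a ha)⟩

variable [DRing.HasDerivedCompletion I]

/-- Killing the maps from `RΓ_I A` kills the cohomology of the completion. -/
theorem smul_HD_completion_eq_zero (K : Dual.D A) (i : ℤ) (c : A)
    (h : ∀ w : ((DRing.RgammaI I).obj (Dual.inD A A))⟦-i⟧ ⟶ (DRing.RgammaI I).obj K, c • w = 0)
    (x : Dual.HD A ((DRing.derivedCompletion I).obj K).obj i) : c • x = 0 := by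
  let Kc := ((DRing.derivedCompletion I).obj K).obj
  let T := ((DRing.RgammaI I).obj (Dual.inD A A))⟦-i⟧
  have h1 : ∀ v : T ⟶ Kc, c • v = 0 := fun v => by
    obtain ⟨e⟩ := nonempty_RgammaI_completion_iso I K
    obtain ⟨w, rfl⟩ := (bijective_comp_ε I Kc (T := T) (isPowerTorsion_shift I _ (-i))).2 v
    have h2 := congrArg (fun z => z ≫ e.inv) (h (w ≫ e.hom))
    simp only [Linear.smul_comp, Category.assoc, Iso.hom_inv_id, Category.comp_id, zero_comp] at h2
    show c • (w ≫ _) = 0
    rw [← Linear.smul_comp, h2, zero_comp]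
  let u := (homUnitShiftEquiv Kc i).symm x
  have h3 : c • u = 0 := by
    apply (pBij_ε I (Dual.inD A A) _ (isDerivedComplete_shift
      ((DRing.derivedCompletion I).obj K).property i)).1
    show _ ≫ (c • u) = _ ≫ 0
    rw [comp_zero, Linear.comp_smul]
    apply (FiniteRing.shiftTo _ Kc i).symm.injective
    rw [map_smul, map_zero]
    exact h1 _
  have h4 := congrArg (homUnitShiftEquiv Kc i) h3
  rwa [map_smul, map_zero, LinearEquiv.apply_symm_apply] at h4

omit [DRing.HasDerivedCompletion I] in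
/-- `RΓ_I A` lives in degrees `≤ cd(A, I)`. -/
theorem isLE_unit {d : ℕ} (hd : LocCoh.CdLE A I d) :
    ((DRing.RgammaI I).obj (Dual.inD A A)).IsLE d := by
  refine (isLE_iff _ _).2 fun q hq => ?_
  obtain ⟨e⟩ := nonempty_HD_RgammaI_equiv I (Dual.inD A A) q
  obtain ⟨k, rfl⟩ := Int.eq_ofNat_of_zero_le (a := q) (by omega)
  have hk : d < k := by exact_mod_cast hq
  have hs := hd A k hk
  have hy : ∀ y : Dual2.HDI A I (Dual.inD A A) (k : ℤ), y = 0 := fun y => by
    by_contra hy
    obtain ⟨P, hPm, hP⟩ := Ideal.exists_le_maximal (LinearMap.ker (LinearMap.toSpanSingleton A _ y))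
      ((Ideal.ne_top_iff_one _).2 fun h1 => hy (by
        have h1' : (1 : A) • y = 0 := LinearMap.mem_ker.1 h1
        rwa [one_smul] at h1'))
    obtain ⟨t, ht, ht0⟩ := ProZero.EvCrit.exists_smul_hdi_eq_zero (q := ⟨P, hPm.isPrime⟩) A k
      (by rw [Module.notMem_support_iff]; infer_instance) y
    exact ht (hP (LinearMap.mem_ker.2 ht0))
  have : Subsingleton (Dual2.HDI A I (Dual.inD A A) (k : ℤ)) :=
    subsingleton_of_forall_eq 0 hy
  exact e.toEquiv.subsingleton

omit [DRing.HasDerivedCompletion I] [IsNoetherianRing A] [DRing.HasRgammaI I] in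
/-- Killing the bottom cohomology kills maps from an object living in bounded above degrees. -/
theorem smul_pow_hom_eq_zero (f : A) : ∀ (k : ℕ) (T L : Dual.D A) (a : ℤ),
    T.IsLE (a + k - 1) → L.IsGE a →
    (∀ j : ℤ, j < a + k → ∀ y : Dual.HD A L j, f • y = 0) →
    ∀ w : T ⟶ L, f ^ k • w = 0
  | 0, T, L, a, hT, hL, _, w => by
    rw [DR.Basic.hom_eq_zero_of_isLE_of_isGE w (a := a + (0 : ℕ) - 1) (b := a) (by omega) hT hL,
      smul_zero]
  | k + 1, T, L, a, hT, hL, hf, w => by
    obtain ⟨S, hS, hS₂, hS₁, hS₃, h₁, h₃⟩ := Devissage.exists_trunc L a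
    subst hS₂
    have hge : S.obj₁.IsGE a := (isGE_iff _ a).2 fun i hi => by
      obtain ⟨e⟩ := h₁ i hi.le
      have := subsingleton_HD_of_isGE S.obj₂ a hi
      exact e.toEquiv.subsingleton
    have hk₁ : f • 𝟙 S.obj₁ = 0 := by
      obtain ⟨e⟩ := Devissage.exists_iso_inD_shift S.obj₁ a
      obtain ⟨e₁⟩ := h₁ a le_rfl
      have h0 : f • 𝟙 (ModuleCat.of A (Dual.HD A S.obj₁ a)) = 0 := by
        refine ModuleCat.hom_ext (LinearMap.ext fun (y : Dual.HD A S.obj₁ a) => e₁.injective ?_)
        show e₁ (f • y) = e₁ 0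
        rw [map_smul, map_zero]
        exact hf a (by omega) _
      have h0' : f • 𝟙 ((Dual.inD A (Dual.HD A S.obj₁ a))⟦-a⟧) = 0 := by
        have := congrArg (fun z => (shiftFunctor (Dual.D A) (-a)).map
          ((DerivedCategory.singleFunctor (ModuleCat.{u} A) 0).map z)) h0
        simpa [Functor.map_smul, CategoryTheory.Functor.map_id, Functor.map_zero] using this
      rw [← e.hom_inv_id, ← Category.comp_id e.hom, Category.assoc, ← Linear.comp_smul,
        ← Linear.smul_comp, h0', zero_comp, comp_zero]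
    have hw : f ^ k • (w ≫ S.mor₂) = 0 := by
      refine smul_pow_hom_eq_zero f k T S.obj₃ (a + 1) ?_ inferInstance (fun j hj y => ?_) _
      · exact (show a + 1 + (k : ℤ) - 1 = a + ((k + 1 : ℕ) : ℤ) - 1 by push_cast; ring).symm ▸ hT
      · by_cases hja : a < j
        · obtain ⟨e⟩ := h₃ j hja
          apply e.symm.injective
          rw [map_smul, map_zero]
          exact hf j (by push_cast; omega) _
        · have := subsingleton_HD_of_isGE S.obj₃ (a + 1) (i := j) (by omega)
          exact Subsingleton.elim _ _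
    obtain ⟨v, hv⟩ := Triangle.coyoneda_exact₂ S hS (f ^ k • w) (by rwa [Linear.smul_comp])
    have hv0 : f • v = 0 := by rw [← Category.comp_id v, ← Linear.comp_smul, hk₁, comp_zero]
    rw [pow_succ', mul_smul, hv, ← Linear.smul_comp, hv0, zero_comp]

/-- If `f` kills the low cohomology of `RΓ_I K`, a power kills the low cohomology of `K^`. -/
theorem exists_pow_kill (K : Dual.D A) {d : ℕ} (s : ℕ) (hd : LocCoh.CdLE A I d) (f : A)
    (hK0 : ((DRing.RgammaI I).obj K).IsGE 0)
    (hf : ∀ j : ℤ, j ≤ (d + s : ℕ) → ∀ y : Dual.HD A ((DRing.RgammaI I).obj K) j, f • y = 0)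
    (i : ℤ) (hi : i ≤ s) (x : Dual.HD A ((DRing.derivedCompletion I).obj K).obj i) :
    f ^ (d + s + 1) • x = 0 := by
  refine smul_HD_completion_eq_zero I K i _ (fun w => ?_) x
  have hT : (((DRing.RgammaI I).obj (Dual.inD A A))⟦-i⟧).IsLE ((0 : ℤ) + ((d + s + 1 : ℕ) : ℤ) - 1) := by
    haveI := isLE_unit I hd
    haveI := DerivedCategory.TStructure.t.isLE_shift ((DRing.RgammaI I).obj (Dual.inD A A)) (d : ℤ) (-i) ((d : ℤ) + i) (by omega)
    exact DerivedCategory.TStructure.t.isLE_of_le _ ((d : ℤ) + i) _ (by push_cast; omega)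
  exact smul_pow_hom_eq_zero f (d + s + 1) _ _ 0 hT hK0 (fun j hj => hf j (by push_cast at hj ⊢; omega)) w

omit [DRing.HasDerivedCompletion I] in
/-- Annihilation of `HDT` kills `H(RΓ_I)`. -/
theorem smul_HD_RgammaI_eq_zero (K : Dual.D A) (j : ℤ) (c : A)
    (h : ∀ y : Dual2.HDT A (PrimeSpectrum.zeroLocus (I : Set A)) K j, c • y = 0)
    (y : Dual.HD A ((DRing.RgammaI I).obj K) j) : c • y = 0 := by
  obtain ⟨e⟩ := nonempty_HD_RgammaI_equiv I K j
  apply e.injective
  rw [map_smul, map_zero]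
  obtain ⟨k, g, hg⟩ := ProZero.EvCrit.exists_rep_hdi K j (e y)
  rw [← hg]
  obtain ⟨J', hJ', hle, h0⟩ := KillHom.kill_of_smul_eq_zero h (I ^ k.unop.unop) (HDT.mem_pow le_rfl _) g
  obtain ⟨m, hm⟩ := Ideal.exists_pow_le_of_le_radical_of_fg_radical (I := I) (J := J')
    ((PrimeSpectrum.zeroLocus_subset_zeroLocus_iff _ _).1 hJ') (IsNoetherian.noetherian _)
  let m' := max m k.unop.unop
  have hm' : I ^ m' ≤ J' := (Ideal.pow_le_pow_right (le_max_left _ _)).trans hm
  let G := (localCohomology.ringModIdeals (localCohomology.idealPowersDiagram I) ⋙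
      DerivedCategory.singleFunctor (ModuleCat.{u} A) 0).op ⋙
        (linearYoneda A (Dual.D A)).obj (K⟦j⟧)
  let k' : ℕᵒᵖᵒᵖ := Opposite.op (Opposite.op m')
  let φ : k ⟶ k' := (homOfLE (le_max_right m k.unop.unop)).op.op
  let g' : G.obj k := g
  refine (map_smul (colimit.ι G k).hom c g').symm.trans
    ((ConcreteCategory.congr_hom (colimit.w G φ) (c • g')).symm.trans ?_)
  refine (congrArg (colimit.ι G k').hom ?_).trans (map_zero _)
  have h1 : c • ((DerivedCategory.singleFunctor (ModuleCat.{u} A) 0).map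
      (qq ((Ideal.pow_le_pow_right (le_max_right m k.unop.unop) : I ^ m' ≤ I ^ k.unop.unop))) ≫ g) = 0 := by
    have e1 : qq ((Ideal.pow_le_pow_right (le_max_right m k.unop.unop) : I ^ m' ≤ I ^ k.unop.unop)) =
        qq hm' ≫ qq hle := ModuleCat.hom_ext (LinearMap.ext fun v => by
      obtain ⟨v, rfl⟩ := Submodule.Quotient.mk_surjective _ v
      rfl)
    rw [e1, Functor.map_comp, Category.assoc, ← Linear.comp_smul]
    exact (congrArg (fun z => _ ≫ z) h0).trans comp_zero
  refine Eq.trans ?_ h1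
  refine Eq.trans ?_ (Linear.comp_smul _ _ _ _ c g)
  refine congrArg (fun q => (DerivedCategory.singleFunctor (ModuleCat.{u} A) 0).map q ≫ (c • g))
    (ModuleCat.hom_ext (LinearMap.ext fun v => ?_))
  obtain ⟨v, rfl⟩ := Submodule.Quotient.mk_surjective _ v
  rfl

omit [DRing.HasDerivedCompletion I] [IsNoetherianRing A] in
theorem isGE_RgammaI (M : Type u) [AddCommGroup M] [Module A M] :
    ((DRing.RgammaI I).obj (Dual.inD A M)).IsGE 0 := by
  refine (isGE_iff _ 0).2 fun j hj => ?_
  obtain ⟨e⟩ := nonempty_HD_RgammaI_equiv I (Dual.inD A M) j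
  have : Subsingleton (Dual2.HDI A I (Dual.inD A M) j) := by
    refine subsingleton_of_forall_eq 0 fun y => ?_
    obtain ⟨k, g, rfl⟩ := ProZero.EvCrit.exists_rep_hdi (Dual.inD A M) j y
    rw [(subsingleton_hom_inD_neg _ M hj).elim g 0]
    exact map_zero _
  exact e.toEquiv.subsingleton

end Groth.Agent.Lib.RGamma.CompletionKill
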