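import Groth.Agent.Lib.RGamma.HDT
import Groth.Agent.Lib.Depth.Assoc
import Mathlib.Algebra.Homology.DerivedCategory.TStructure

/-!
# `HDT` is finite in a range iff it is annihilated in that range
-/

universe u

open CategoryTheory CategoryTheory.Limits Opposite Pretriangulated

attribute [local instance] HasDerivedCategory.standard

namespace Groth.Agent.Lib.RGamma.HDT

variable {A : Type u} [CommRing A]

/-- The homology functor of `D(A)`. -/
noncomputable abbrev Hf (j : ℤ) : Dual.D A ⥤ ModuleCat.{u} A :=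
  DerivedCategory.homologyFunctor (ModuleCat.{u} A) j

lemma hdIso_map {C D : CochainComplex (ModuleCat.{u} A) ℤ} (φ : C ⟶ D) (j : ℤ)
    (y : (Hf j).obj (DerivedCategory.Q.obj C)) :
    (RGamma.hdIso D j).hom.hom (((Hf j).map (DerivedCategory.Q.map φ)).hom y) =
      (HomologicalComplex.homologyMap φ j).hom ((RGamma.hdIso C j).hom.hom y) :=
  congr($(DerivedCategory.homologyFunctorFactors_hom_naturality φ j) y)

lemma homologyMap_smul_id (C : CochainComplex (ModuleCat.{u} A) ℤ) (x : A) (j : ℤ)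
    (y : C.homology j) : (HomologicalComplex.homologyMap (x • 𝟙 C) j).hom y = x • y := by
  obtain ⟨z, rfl⟩ := cls_surjective C j y
  rw [homologyMap_cls, ← map_smul]
  rfl

lemma H_map_smul_id (X : Dual.D A) (x : A) (j : ℤ) (y : (Hf j).obj X) :
    ((Hf j).map (x • 𝟙 X)).hom y = x • y := by
  obtain ⟨C, -, -, ⟨e⟩⟩ := RGamma.exists_rep X
  have hcomm : x • 𝟙 X = e.hom ≫ DerivedCategory.Q.map (x • 𝟙 C) ≫ e.inv := by
    rw [Functor.map_smul, CategoryTheory.Functor.map_id, Linear.smul_comp, Category.id_comp,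
      Linear.comp_smul, Iso.hom_inv_id]
  rw [hcomm, Functor.map_comp, Functor.map_comp]
  let E := ((Hf j).mapIso e).toLinearEquiv
  show E.symm (((Hf j).map (DerivedCategory.Q.map (x • 𝟙 C))).hom (E y)) = x • y
  apply E.injective
  rw [E.apply_symm_apply, map_smul]
  apply (RGamma.hdIso C j).toLinearEquiv.injective
  rw [map_smul]
  exact (hdIso_map (x • 𝟙 C) j (E y)).trans (homologyMap_smul_id C x j _)

section LES

variable (S : Triangle (Dual.D A)) (hS : S ∈ distTriang (Dual.D A))

include hS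

lemma exact_H₂ (j : ℤ) : Function.Exact ((Hf j).map S.mor₁).hom ((Hf j).map S.mor₂).hom :=
  (ShortComplex.ShortExact.moduleCat_exact_iff_function_exact _).1
    (DerivedCategory.HomologySequence.exact₂ S hS j)

lemma exists_δ (j : ℤ) : ∃ d : (Hf j).obj S.obj₃ →ₗ[A] (Hf (j + 1)).obj S.obj₁,
    Function.Exact ((Hf j).map S.mor₂).hom d ∧ Function.Exact d ((Hf (j + 1)).map S.mor₁).hom :=
  ⟨(DerivedCategory.HomologySequence.δ S j (j + 1) rfl).hom,
    (ShortComplex.ShortExact.moduleCat_exact_iff_function_exact _).1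
      (DerivedCategory.HomologySequence.exact₃ S hS j (j + 1) rfl),
    (ShortComplex.ShortExact.moduleCat_exact_iff_function_exact _).1
      (DerivedCategory.HomologySequence.exact₁ S hS j (j + 1) rfl)⟩

end LES

variable [IsNoetherianRing A]

lemma exists_regular {J : Ideal A} (M : Type u) [AddCommGroup M] [Module A M] [Module.Finite A M]
    (h : DRing.torsionSub J M = ⊥) : ∃ x ∈ J, IsSMulRegular M x := by
  rw [Depth.Assoc.exists_isSMulRegular_iff]
  intro Q hQ hle
  obtain ⟨hQp, w, hw⟩ := isAssociatedPrime_iff.mp hQ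
  have hw0 : w = 0 := (Submodule.mem_bot A).1 (h ▸ (⟨1, fun r hr => by
    have := hle (by simpa using hr)
    rw [hw, Submodule.mem_colon_singleton] at this
    simpa using this⟩ : w ∈ DRing.torsionSub J M))
  exact hQp.ne_top ((Ideal.eq_top_iff_one _).mpr (by
    rw [hw, hw0, Submodule.mem_colon_singleton]; simp))

/-- Split off the torsion of the lowest cohomology. -/
theorem exists_split (J : Ideal A) (C : CochainComplex (ModuleCat.{u} A) ℤ) (a : ℤ)
    [C.IsStrictlyGE a] [Module.Finite A (C.homology a)] :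
    ∃ (N : ModuleCat.{u} A) (_ : Module.Finite A N) (m : ℕ) (K' : Dual.D A)
      (ν : (DerivedCategory.singleFunctor (ModuleCat.{u} A) a).obj N ⟶ DerivedCategory.Q.obj C)
      (π : DerivedCategory.Q.obj C ⟶ K')
      (δ : K' ⟶ ((DerivedCategory.singleFunctor (ModuleCat.{u} A) a).obj N)⟦(1 : ℤ)⟧),
      Triangle.mk ν π δ ∈ distTriang (Dual.D A) ∧ (∀ b ∈ J ^ m, ∀ x : N, b • x = 0) ∧
      (∀ j, Function.Surjective ((Hf j).map π).hom) ∧
      DRing.torsionSub J ((Hf a).obj K') = ⊥ := by
  have hz : ∀ z : Cyc C a, cls C a z = 0 → z = 0 := fun z hz0 => by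
    obtain ⟨y, hy⟩ := (cls_eq_zero_iff C a z).1 hz0
    have := ModuleCat.subsingleton_of_isZero
      (CochainComplex.isZero_of_isStrictlyGE C a (a - 1) (by omega))
    refine Subtype.ext (hy.symm.trans ?_)
    rw [Subsingleton.elim y 0, map_zero]
    rfl
  have hcinj : Function.Injective (cls C a) := (injective_iff_map_eq_zero _).2 hz
  have : Module.Finite A (Cyc C a) := Module.Finite.of_injective _ hcinj
  let N₀ := DRing.torsionSub J (Cyc C a)
  obtain ⟨m, hm⟩ : ∃ m, ∀ b ∈ J ^ m, ∀ x : N₀, b • x = 0 := by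
    obtain ⟨s, hs⟩ := (Module.Finite.fg_top : (⊤ : Submodule A N₀).FG)
    have hx : ∀ x : N₀, ∃ k, ∀ b ∈ J ^ k, b • x = 0 := fun x =>
      ⟨_, fun b hb => Subtype.ext (x.2.choose_spec b hb)⟩
    choose k hk using hx
    refine ⟨s.sup k, fun b hb x => ?_⟩
    have hx : x ∈ Submodule.span A (s : Set N₀) := hs ▸ Submodule.mem_top
    induction hx using Submodule.span_induction with
    | mem x hx => exact hk x b (Ideal.pow_le_pow_right (Finset.le_sup hx) hb)
    | zero => exact smul_zero _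
    | add x y _ _ hx hy => rw [smul_add, hx, hy, add_zero]
    | smul r x _ hx => rw [smul_comm, hx, smul_zero]
  let N : ModuleCat.{u} A := ModuleCat.of A N₀
  let S₁ := (HomologicalComplex.single (ModuleCat.{u} A) (ComplexShape.up ℤ) a).obj N
  let s := (HomologicalComplex.singleObjXSelf (ComplexShape.up ℤ) a N).toLinearEquiv
  let φ : S₁ ⟶ C := HomologicalComplex.mkHomFromSingle
    (ModuleCat.ofHom ((Cyc C a).subtype ∘ₗ N₀.subtype)) fun k (hk : a + 1 = k) => by
      subst hk
      exact ModuleCat.hom_ext (LinearMap.ext fun x => x.1.2)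
  have hφ : ∀ v, (φ.f a).hom v = (s v).1.1 := fun v =>
    congr($(HomologicalComplex.mkHomFromSingle_f (j := a)
      (ModuleCat.ofHom ((Cyc C a).subtype ∘ₗ N₀.subtype)) _) v)
  let Na : Dual.D A := (DerivedCategory.singleFunctor (ModuleCat.{u} A) a).obj N
  let ν : Na ⟶ DerivedCategory.Q.obj C := DerivedCategory.Q.map φ
  obtain ⟨K', π, δ, hT⟩ := distinguished_cocone_triangle ν
  have hinj : Function.Injective ((Hf a).map ν).hom := by
    refine (injective_iff_map_eq_zero _).2 fun y hy => ?_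
    apply (RGamma.hdIso S₁ a).toLinearEquiv.injective
    refine Eq.trans ?_ (map_zero (RGamma.hdIso S₁ a).toLinearEquiv).symm
    obtain ⟨z, hz'⟩ := cls_surjective S₁ a ((RGamma.hdIso S₁ a).toLinearEquiv y)
    rw [← hz']
    have h1 : cls C a ⟨_, map_mem_cyc a φ z.2⟩ = 0 := by
      rw [← homologyMap_cls, hz']
      refine (hdIso_map φ a y).symm.trans ?_
      exact (congrArg (RGamma.hdIso C a).hom.hom hy).trans (map_zero _)
    have h2 : (φ.f a).hom z.1 = 0 := congrArg Subtype.val (hz _ h1)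
    rw [hφ] at h2
    have h3 : z = 0 := Subtype.ext (s.injective (Subtype.ext (Subtype.ext (h2.trans
      (congrArg (fun t : N₀ => t.1.1) (map_zero s).symm :)))))
    rw [h3, map_zero]
  have hsurj : ∀ j, Function.Surjective ((Hf j).map π).hom := fun j y => by
    obtain ⟨d, hd₁, hd₂⟩ := exists_δ (Triangle.mk ν π δ) hT j
    refine (hd₁ y).1 ?_
    have hkey := hd₂.apply_apply_eq_zero y
    generalize d y = v at hkey ⊢
    by_cases hja : j + 1 = a
    · revert v
      show ∀ v : (Hf (j + 1)).obj Na, ((Hf (j + 1)).map ν).hom v = 0 → v = 0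
      rw [hja]
      exact fun v hv => hinj (hv.trans (map_zero _).symm)
    · have : Subsingleton ((Hf (j + 1)).obj Na) := by
        rcases lt_or_gt_of_ne hja with h | h
        · exact ModuleCat.subsingleton_of_isZero
            ((DerivedCategory.isGE_iff Na a).1 inferInstance _ h)
        · exact ModuleCat.subsingleton_of_isZero
            ((DerivedCategory.isLE_iff Na a).1 inferInstance _ h)
      exact @Subsingleton.elim _ this _ _
  refine ⟨N, inferInstanceAs (Module.Finite A N₀), m, K', ν, π, δ, hT, hm, hsurj, ?_⟩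
  refine (Submodule.eq_bot_iff _).2 fun y ⟨k, hk⟩ => ?_
  obtain ⟨x, rfl⟩ := hsurj a y
  let εC := (RGamma.hdIso C a).toLinearEquiv
  obtain ⟨z, hz'⟩ := cls_surjective C a (εC x)
  have hzN : z ∈ N₀ := by
    refine ⟨m + k, fun b hb => ?_⟩
    rw [pow_add] at hb
    refine Submodule.mul_induction_on hb (fun p hp q hq => ?_) fun p q hp hq => by
      rw [add_smul, hp, hq, add_zero]
    obtain ⟨w, hw⟩ := (exact_H₂ _ hT a (q • x)).1 ((map_smul _ _ _).trans (hk q hq))
    apply hcinj
    rw [map_zero, map_smul, mul_smul, hz', ← map_smul εC]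
    obtain ⟨v, hv⟩ := cls_surjective S₁ a ((RGamma.hdIso S₁ a).toLinearEquiv w)
    have h1 : εC (q • x) = cls C a ⟨_, map_mem_cyc a φ v.2⟩ := by
      rw [← homologyMap_cls, hv]
      exact (congrArg εC hw.symm).trans (hdIso_map φ a w)
    rw [h1, ← map_smul]
    refine (congrArg (cls C a) (Subtype.ext ?_)).trans (map_zero _)
    show p • (φ.f a).hom v.1 = 0
    rw [hφ]
    exact congrArg (fun t : N₀ => t.1.1) (hm p hp (s v.1))
  have hv : s.symm ⟨z, hzN⟩ ∈ Cyc S₁ a := by
    simp [LinearMap.mem_ker, S₁]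
  have hx : x = ((Hf a).map ν).hom ((RGamma.hdIso S₁ a).toLinearEquiv.symm (cls S₁ a ⟨_, hv⟩)) := by
    apply εC.injective
    rw [← hz']
    refine Eq.trans ?_ (hdIso_map φ a _).symm
    refine Eq.trans ?_ (congrArg (HomologicalComplex.homologyMap φ a).hom
      ((RGamma.hdIso S₁ a).toLinearEquiv.apply_symm_apply _).symm)
    rw [homologyMap_cls]
    refine congrArg (cls C a) (Subtype.ext ?_)
    show z.1 = (φ.f a).hom (s.symm ⟨z, hzN⟩)
    rw [hφ, LinearEquiv.apply_symm_apply]
  rw [hx]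
  exact (exact_H₂ _ hT a).apply_apply_eq_zero _

variable {T : Set (PrimeSpectrum A)}

/-- The kernel of multiplication by a nonzerodivisor on the lowest cohomology. -/
theorem exists_cone (K' : Dual.D A) (a : ℤ) (hK'a : ∀ j : ℤ, j < a → Subsingleton ((Hf j).obj K'))
    (hK' : ∀ j : ℤ, Module.Finite A ((Hf j).obj K')) (x : A)
    (hx : IsSMulRegular ((Hf a).obj K') x) :
    ∃ (K₁ : Dual.D A) (π : K' ⟶ K₁) (δ : K₁ ⟶ K'⟦(1 : ℤ)⟧),
      Triangle.mk (x • 𝟙 K') π δ ∈ distTriang (Dual.D A) ∧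
      (∀ j : ℤ, j < a → Subsingleton ((Hf j).obj K₁)) ∧ ∀ j : ℤ, Module.Finite A ((Hf j).obj K₁) := by
  obtain ⟨K₁, π, δ, hT⟩ := distinguished_cocone_triangle (x • 𝟙 K')
  refine ⟨K₁, π, δ, hT, fun j hj => subsingleton_of_forall_eq 0 fun y => ?_, fun j => ?_⟩
  · obtain ⟨d, hd₁, hd₂⟩ := exists_δ _ hT j
    have hkey : ((Hf (j + 1)).map (x • 𝟙 K')).hom (d y) = 0 := hd₂.apply_apply_eq_zero y
    rw [H_map_smul_id] at hkey
    have h0 : d y = 0 := by
      generalize d y = v at hkey ⊢
      by_cases hja : j + 1 = a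
      · revert v
        show ∀ v : (Hf (j + 1)).obj K', x • v = 0 → v = 0
        rw [hja]
        exact fun v hv => hx (hv.trans (smul_zero x).symm)
      · exact @Subsingleton.elim _ (hK'a _ (by omega)) _ _
    obtain ⟨w, hw⟩ := (hd₁ y).1 h0
    have : Subsingleton ((Hf j).obj K') := hK'a j hj
    rw [← hw, show w = 0 from @Subsingleton.elim _ this w 0]
    exact map_zero _
  · obtain ⟨d, hd₁, hd₂⟩ := exists_δ _ hT j
    have : Module.Finite A ((Hf (j + 1)).obj (Triangle.mk (x • 𝟙 K') π δ).obj₁) := hK' (j + 1)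
    have : Module.Finite A ((Hf j).obj (Triangle.mk (x • 𝟙 K') π δ).obj₂) := hK' j
    have hfg : (⊤ : Submodule A ((Hf j).obj (Triangle.mk (x • 𝟙 K') π δ).obj₃)).FG := by
      refine Submodule.fg_of_fg_map_of_fg_inf_ker d (IsNoetherian.noetherian _) ?_
      rw [top_inf_eq, hd₁.linearMap_ker_eq, LinearMap.range_eq_map]
      exact Submodule.FG.map _ (Module.Finite.fg_top (R := A))
    exact ⟨hfg⟩

/-- Annihilation implies finiteness. -/
theorem finite_of_annihilated : ∀ (d : ℕ) (K : Dual.D A) (a n : ℤ), n - a < d →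
    (∀ i : ℤ, i < a → Subsingleton (Dual.HD A K i)) → (∀ i : ℤ, Module.Finite A (Dual.HD A K i)) →
    ∀ J : Ideal A, mem T J →
      (∀ i : ℤ, i ≤ n → ∀ x : A, x ∈ J → ∀ y : Dual2.HDT A T K i, x • y = 0) →
      ∀ i : ℤ, i ≤ n → Module.Finite A (Dual2.HDT A T K i)
  | 0, K, a, n, hd, hKa, _, J, _, _, i, hi => by
    have : Subsingleton (Dual2.HDT A T K i) :=
      subsingleton_of_forall_eq 0 fun x => eq_zero_below hKa (by omega) x
    exact Module.Finite.of_finite
  | d + 1, K, a, n, hd, hKa, hK, J, hJ, hann, i, hi => by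
    have hGE : K.IsGE a := (DerivedCategory.isGE_iff _ _).2 fun j hj =>
      @ModuleCat.isZero_of_subsingleton _ _ _ (hKa j hj)
    obtain ⟨C, hC, ⟨e⟩⟩ := DerivedCategory.exists_iso_Q_obj_of_isGE K a
    have heH : ∀ j, Module.Finite A ((Hf j).obj (DerivedCategory.Q.obj C)) := fun j =>
      have := hK j
      Module.Finite.equiv ((Hf j).mapIso e).toLinearEquiv
    have : Module.Finite A (C.homology a) :=
      have := heH a
      Module.Finite.equiv (RGamma.hdIso C a).toLinearEquiv
    obtain ⟨N, hNfin, m, K', ν, π, δ, hT, hm, hsurj, htf⟩ := exists_split J C a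
    have hK'a : ∀ j : ℤ, j < a → Subsingleton ((Hf j).obj K') := fun j hj => by
      have : Subsingleton ((Hf j).obj K) := hKa j hj
      exact ((hsurj j).comp ((Hf j).mapIso e).toLinearEquiv.surjective).subsingleton
    have hK' : ∀ j : ℤ, Module.Finite A ((Hf j).obj K') := fun j =>
      have := heH j
      Module.Finite.of_surjective _ (hsurj j)
    -- annihilation
    let Na : Dual.D A := (DerivedCategory.singleFunctor (ModuleCat.{u} A) a).obj N
    have hNT : ∀ j : ℤ, ∀ b ∈ J ^ m, ∀ x : Dual2.HDT A T Na j, b • x = 0 := fun j b hb x =>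
      smul_eq_zero_of_smul_id (by
        have h1 : b • 𝟙 N = 0 := ModuleCat.hom_ext (LinearMap.ext fun x => hm b hb x)
        have h := congrArg (fun f =>
          ((DerivedCategory.singleFunctor (ModuleCat.{u} A) a).map f)⟦j⟧') h1
        simpa only [Functor.map_smul, CategoryTheory.Functor.map_id, Functor.map_zero] using h) x
    let eT := fun j : ℤ => hiso (T := T) ((shiftFunctor (Dual.D A) j).mapIso e)
    have hannC : ∀ j : ℤ, j ≤ n → ∀ b ∈ J, ∀ y : Dual2.HDT A T (DerivedCategory.Q.obj C) j,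
        b • y = 0 := fun j hj b hb y => by
      obtain ⟨y', rfl⟩ := (eT j).surjective y
      exact ((eT j).map_smul b y').symm.trans ((congrArg (eT j) (hann j hj b hb y')).trans (map_zero _))
    let J' := J * J ^ m
    have hJ' : mem T J' := mem_mul hJ (mem_pow hJ m)
    have hann' : ∀ j : ℤ, j ≤ n → ∀ b ∈ J', ∀ y : Dual2.HDT A T K' j, b • y = 0 := fun j hj =>
      smul_eq_zero_mid (Triangle.mk ν π δ).rotate (rot_of_distTriang _ hT) j (hannC j hj)
        fun b hb y => by
          let es := shiftEquivHDT (T := T) Na 1 j (1 + j) rfl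
          exact es.injective ((es.map_smul b y).trans ((hNT _ b hb _).trans (map_zero es).symm))
    have htf' : DRing.torsionSub J' ((Hf a).obj K') = ⊥ := by
      refine (Submodule.eq_bot_iff _).2 fun y ⟨k, hk⟩ => (Submodule.eq_bot_iff _).1 htf y ?_
      refine ⟨(m + 1) * k, fun b hb => hk b ?_⟩
      rwa [pow_mul, pow_succ'] at hb
    obtain ⟨x, hx, hxreg⟩ := have := hK' a; exists_regular _ htf'
    obtain ⟨K₁, π₁, δ₁, hT₁, hK₁a, hK₁⟩ := exists_cone K' a hK'a hK' x hxreg
    have hann₁ : ∀ j : ℤ, j ≤ n - 1 → ∀ b ∈ J' * J', ∀ y : Dual2.HDT A T K₁ j, b • y = 0 :=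
      fun j hj => smul_eq_zero_mid (Triangle.mk (x • 𝟙 K') π₁ δ₁).rotate (rot_of_distTriang _ hT₁) j
        (hann' j (by omega))
        fun b hb y => by
          let es := shiftEquivHDT (T := T) K' 1 j (1 + j) rfl
          exact es.injective ((es.map_smul b y).trans
            ((hann' _ (by omega) b hb _).trans (map_zero es).symm))
    have hfinK₁ := finite_of_annihilated d K₁ a (n - 1) (by omega) hK₁a hK₁ _
      (mem_mul hJ' hJ') (fun j hj b hb y => hann₁ j hj b hb y)
    have hfinK' : Module.Finite A (Dual2.HDT A T K' i) := by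
      have h1 := hfinK₁ (i - 1) (by omega)
      let es := shiftEquivHDT (T := T) K' 1 (i - 1) i (by omega)
      let R := (Triangle.mk (x • 𝟙 K') π₁ δ₁).rotate.rotate
      have hR : R ∈ distTriang (Dual.D A) := rot_of_distTriang _ (rot_of_distTriang _ hT₁)
      have hs : Function.Surjective (hmap (T := T) (R.mor₁⟦i - 1⟧')) := fun y => by
        refine (exact_hmap R hR (i - 1) y).1 ?_
        obtain ⟨J₀, h₀, q, rfl⟩ := exists_rep y
        refine (hmap_cl (R.mor₂⟦i - 1⟧') h₀ q).trans ?_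
        have hR2 : R.mor₂⟦i - 1⟧' = -(x • 𝟙 ((K'⟦(1 : ℤ)⟧)⟦i - 1⟧)) := by
          show (-(x • 𝟙 K')⟦(1 : ℤ)⟧')⟦i - 1⟧' = _
          rw [Functor.map_smul, CategoryTheory.Functor.map_id, Functor.map_neg, Functor.map_smul,
            CategoryTheory.Functor.map_id]
        let q' : qD J₀ ⟶ (K'⟦(1 : ℤ)⟧)⟦i - 1⟧ := q
        have hq : q ≫ R.mor₂⟦i - 1⟧' = -(x • q') := by
          rw [hR2]
          show q' ≫ (-(x • 𝟙 ((K'⟦(1 : ℤ)⟧)⟦i - 1⟧))) = _
          rw [Preadditive.comp_neg, Linear.comp_smul, Category.comp_id]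
        refine (congrArg (cl J₀ h₀) hq).trans ?_
        have h0 : x • cl J₀ h₀ q' = 0 :=
          es.injective ((es.map_smul x _).trans ((hann' i hi x hx _).trans (map_zero es).symm))
        exact ((cl J₀ h₀).map_neg _).trans ((congrArg Neg.neg ((cl J₀ h₀).map_smul x q')).trans
          ((congrArg Neg.neg h0).trans neg_zero))
      have h1' : Module.Finite A (Dual2.HDT A T R.obj₁ (i - 1)) := h1
      have h2 : Module.Finite A (Dual2.HDT A T (K'⟦(1 : ℤ)⟧) (i - 1)) :=
        Module.Finite.of_surjective (hmap (T := T) (R.mor₁⟦i - 1⟧')) hs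
      exact Module.Finite.equiv es
    have hfC : Module.Finite A (Dual2.HDT A T (DerivedCategory.Q.obj C) i) :=
      finite_mid (Triangle.mk ν π δ) hT i (finite_single hJ N m hm a i) hfinK'
    exact Module.Finite.equiv (eT i).symm

/-- Finiteness in a range is annihilation in that range. -/
theorem finite_iff_annihilated (K : Dual.D A) (a : ℤ)
    (hKa : ∀ i : ℤ, i < a → Subsingleton (Dual.HD A K i))
    (hK : ∀ i : ℤ, Module.Finite A (Dual.HD A K i))
    (n : ℤ) : (∀ i : ℤ, i ≤ n → Module.Finite A (Dual2.HDT A T K i)) ↔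
      ∃ J : Ideal A, mem T J ∧
        ∀ i : ℤ, i ≤ n → ∀ x : A, x ∈ J → ∀ y : Dual2.HDT A T K i, x • y = 0 := by
  refine ⟨fun h => ?_, fun ⟨J, hJ, hann⟩ =>
    finite_of_annihilated ((n - a).toNat + 1) K a n (by omega) hKa hK J hJ hann⟩
  have : ∀ r : ℕ, ∃ J : Ideal A, mem T J ∧ ∀ i : ℤ, i ≤ n → i < a + r → ∀ x : A, x ∈ J →
      ∀ y : Dual2.HDT A T K i, x • y = 0 := fun r => by
    induction r with
    | zero =>
      refine ⟨⊤, by rw [mem, Submodule.top_coe, PrimeSpectrum.zeroLocus_univ]; exact Set.empty_subset _,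
        fun i _ hi x _ y => ?_⟩
      exact (congrArg (x • ·) (eq_zero_below hKa (by omega) y)).trans (smul_zero x)
    | succ r ih =>
      obtain ⟨J, hJ, hJ'⟩ := ih
      by_cases hr : a + r ≤ n
      · obtain ⟨J₂, h₂, h₂'⟩ := exists_annihilator_of_finite K (a + r) (h _ hr)
        refine ⟨J * J₂, mem_mul hJ h₂, fun i hi hir x hx y => ?_⟩
        by_cases hi2 : i < a + r
        · exact hJ' i hi hi2 x (Ideal.mul_le_left hx) y
        · obtain rfl : i = a + r := by omega
          exact h₂' x (Ideal.mul_le_right hx) y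
      · exact ⟨J, hJ, fun i hi hir x hx y => hJ' i hi (by omega) x hx y⟩
  obtain ⟨J, hJ, hJ'⟩ := this ((n - a).toNat + 1)
  exact ⟨J, hJ, fun i hi x hx y => hJ' i hi (by omega) x hx y⟩

end Groth.Agent.Lib.RGamma.HDT
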