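import Groth.Agent.Lib.RGamma.GM
import Groth.Agent.Lib.RGamma.HDTFinite

/-!
# Adic systems of submodules are pro-zero for objects killed by powers of the ideal
-/

universe u

open CategoryTheory CategoryTheory.Limits Opposite Pretriangulated

attribute [local instance] HasDerivedCategory.standard

namespace Groth.Agent.Lib.RGamma.Nil

variable {A : Type u} [CommRing A] [IsNoetherianRing A] (J : Ideal A) [DRing.HasRgammaI J]

/-- Modules in degree zero. -/
noncomputable abbrev S : ModuleCat.{u} A ⥤ Dual.D A :=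
  DerivedCategory.singleFunctor (ModuleCat.{u} A) 0

/-- `RΓ_J`. -/
noncomputable abbrev G : Dual.D A ⥤ Dual.D A := DRing.RgammaI J

lemma G_map_smul {X Y : Dual.D A} (a : A) (φ : X ⟶ Y) :
    (G J).map (a • φ) = a • (G J).map φ := by
  apply (bijective_comp_ε J Y (isPowerTorsion_HD_RgammaI J X)).1
  show (G J).map (a • φ) ≫ (DRing.RgammaIε J).app Y = (a • (G J).map φ) ≫ (DRing.RgammaIε J).app Y
  rw [Linear.smul_comp]
  refine ((DRing.RgammaIε J).naturality (a • φ)).trans ?_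
  show (DRing.RgammaIε J).app X ≫ (a • φ) = _
  rw [Linear.comp_smul]
  exact congrArg (a • ·) ((DRing.RgammaIε J).naturality φ).symm

lemma G_map_zero (X Y : Dual.D A) : (G J).map (0 : X ⟶ Y) = 0 := by
  simpa using G_map_smul J (0 : A) (0 : X ⟶ Y)

lemma isPowerTorsion_middle {M₁ M₂ M₃ : Type u} [AddCommGroup M₁] [Module A M₁] [AddCommGroup M₂]
    [Module A M₂] [AddCommGroup M₃] [Module A M₃] (d : M₁ →ₗ[A] M₂) (g : M₂ →ₗ[A] M₃)
    (h : Function.Exact d g) (h₁ : LocCoh.IsPowerTorsion J M₁) (h₃ : LocCoh.IsPowerTorsion J M₃) :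
    LocCoh.IsPowerTorsion J M₂ := by
  classical
  intro y
  obtain ⟨n, hn⟩ := h₃ (g y)
  obtain ⟨s, hs⟩ := IsNoetherian.noetherian (J ^ n)
  have key : ∀ t : Finset A, (∀ x ∈ t, x ∈ J ^ n) → ∃ b, ∀ x ∈ t, ∀ r ∈ J ^ b, r • x • y = 0 := by
    intro t
    induction t using Finset.induction with
    | empty => exact fun _ => ⟨0, by simp⟩
    | insert x t _ ih =>
      intro ht
      obtain ⟨b, hb⟩ := ih fun z hz => ht z (Finset.mem_insert_of_mem hz)
      obtain ⟨m, hm⟩ := (h (x • y)).1 (by rw [map_smul]; exact hn x (ht x (Finset.mem_insert_self _ _)))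
      obtain ⟨c, hc⟩ := h₁ m
      refine ⟨max b c, fun z hz r hr => ?_⟩
      rcases Finset.mem_insert.1 hz with rfl | hz
      · rw [← hm, ← map_smul, hc r (Ideal.pow_le_pow_right (le_max_right b c) hr), map_zero]
      · exact hb z hz r (Ideal.pow_le_pow_right (le_max_left b c) hr)
  obtain ⟨b, hb⟩ := key s fun x hx => hs ▸ Submodule.subset_span hx
  refine ⟨b + n, fun a ha => ?_⟩
  rw [pow_add] at ha
  induction ha using Submodule.mul_induction_on' with
  | mem_mul_mem r hr x hx =>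
    rw [mul_smul]
    rw [← hs] at hx
    induction hx using Submodule.span_induction with
    | mem z hz => exact hb z hz r hr
    | zero => simp
    | add z w _ _ hz hw => rw [add_smul, smul_add, hz, hw, add_zero]
    | smul c z _ hz => rw [smul_eq_mul, mul_smul, smul_comm r c, hz, smul_zero]
  | add x _ z _ hx hz => rw [add_smul, hx, hz, add_zero]

/-- `RΓ_J` preserves exactness of morphisms out of a fixed object. -/
theorem exact_middle (T : Triangle (Dual.D A)) (hT : T ∈ distTriang (Dual.D A)) {W : Dual.D A}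
    (v : W ⟶ (G J).obj T.obj₂) (hv : v ≫ (G J).map T.mor₂ = 0) :
    ∃ w : W ⟶ (G J).obj T.obj₁, w ≫ (G J).map T.mor₁ = v := by
  obtain ⟨P, ι, δ, hP⟩ := distinguished_cocone_triangle₁ ((G J).map T.mor₂)
  have hPt : ∀ i, LocCoh.IsPowerTorsion J (Dual.HD A P i) := fun i => by
    obtain ⟨d, -, hd⟩ := HDT.exists_δ _ hP (i - 1)
    have hi : i - 1 + 1 = i := by omega
    rw [← hi]
    exact isPowerTorsion_middle J d _ hd (isPowerTorsion_HD_RgammaI J _ _)
      (isPowerTorsion_HD_RgammaI J _ _)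
  have h0 : ι ≫ (G J).map T.mor₂ = 0 := comp_distTriang_mor_zero₁₂ _ hP
  obtain ⟨α, hα⟩ := Triangle.coyoneda_exact₂ _ hT (ι ≫ (DRing.RgammaIε J).app T.obj₂) (by
    rw [Category.assoc]
    refine (congrArg (ι ≫ ·) ((DRing.RgammaIε J).naturality T.mor₂).symm).trans ?_
    exact (Category.assoc _ _ _).symm.trans ((congrArg (· ≫ _) h0).trans zero_comp))
  obtain ⟨α', hα'⟩ := (bijective_comp_ε J T.obj₁ hPt).2 α
  have hfac : α' ≫ (G J).map T.mor₁ = ι := by
    apply (bijective_comp_ε J T.obj₂ hPt).1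
    show (α' ≫ (G J).map T.mor₁) ≫ (DRing.RgammaIε J).app T.obj₂ = ι ≫ _
    rw [Category.assoc]
    refine (congrArg (α' ≫ ·) ((DRing.RgammaIε J).naturality T.mor₁)).trans ?_
    exact (Category.assoc _ _ _).symm.trans ((congrArg (· ≫ T.mor₁) hα').trans hα.symm)
  obtain ⟨w, hw⟩ := Triangle.coyoneda_exact₂ _ hP v hv
  exact ⟨w ≫ α', (Category.assoc _ _ _).trans ((congrArg (w ≫ ·) hfac).trans hw.symm)⟩

/-- A map of modules kills the morphisms out of `W`. -/
def Kills (W : Dual.D A) {X Y : ModuleCat.{u} A} (φ : X ⟶ Y) : Prop :=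
  ∀ (q : ℤ) (v : W ⟶ (G J).obj ((S.obj X)⟦q⟧)), v ≫ (G J).map ((S.map φ)⟦q⟧') = 0

variable {J}

lemma map_comp' {X Y Z : ModuleCat.{u} A} (φ : X ⟶ Y) (ψ : Y ⟶ Z) (q : ℤ) :
    (G J).map ((S.map (φ ≫ ψ))⟦q⟧') =
      (G J).map ((S.map φ)⟦q⟧') ≫ (G J).map ((S.map ψ)⟦q⟧') := by
  rw [Functor.map_comp, Functor.map_comp, Functor.map_comp]

lemma map_smul' {X Y : ModuleCat.{u} A} (a : A) (φ : X ⟶ Y) (q : ℤ) :
    (G J).map ((S.map (a • φ))⟦q⟧') = a • (G J).map ((S.map φ)⟦q⟧') := by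
  rw [Functor.map_smul, Functor.map_smul, G_map_smul]

lemma Kills.comp_right {W : Dual.D A} {X Y Z : ModuleCat.{u} A} {φ : X ⟶ Y} (h : Kills J W φ)
    (ψ : Y ⟶ Z) : Kills J W (φ ≫ ψ) := fun q v => by
  rw [map_comp', ← Category.assoc, h q v, zero_comp]

lemma Kills.comp_left {W : Dual.D A} {X Y Z : ModuleCat.{u} A} (φ : X ⟶ Y) {ψ : Y ⟶ Z}
    (h : Kills J W ψ) : Kills J W (φ ≫ ψ) := fun q v => by
  rw [map_comp', ← Category.assoc]
  exact h q _

lemma kills_of_smul {W : Dual.D A} {X Y : ModuleCat.{u} A} (a : A) (ha : a • 𝟙 W = 0)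
    (g : X ⟶ Y) : Kills J W (a • g) := fun q v => by
  rw [map_smul', Linear.comp_smul, ← Category.id_comp (v ≫ _), ← Linear.smul_comp, ha, zero_comp]

lemma kills_zero (W : Dual.D A) (X Y : ModuleCat.{u} A) : Kills J W (0 : X ⟶ Y) := fun q v => by
  rw [Functor.map_zero, Functor.map_zero, G_map_zero, comp_zero]

lemma exists_lift {W : Dual.D A} {T : ShortComplex (ModuleCat.{u} A)} (hT : T.ShortExact) (q : ℤ)
    (v : W ⟶ (G J).obj ((S.obj T.X₂)⟦q⟧)) (hv : v ≫ (G J).map ((S.map T.g)⟦q⟧') = 0) :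
    ∃ w : W ⟶ (G J).obj ((S.obj T.X₁)⟦q⟧), w ≫ (G J).map ((S.map T.f)⟦q⟧') = v := by
  have h2 : v ≫ (G J).map (q.negOnePow • (S.map T.g)⟦q⟧') = 0 := by
    rw [Units.smul_def, ← Int.cast_smul_eq_zsmul A, G_map_smul, Linear.comp_smul, hv, smul_zero]
  obtain ⟨w, hw⟩ : ∃ w : W ⟶ (G J).obj ((S.obj T.X₁)⟦q⟧),
      w ≫ (G J).map (q.negOnePow • (S.map T.f)⟦q⟧') = v :=
    exact_middle J _ (Triangle.shift_distinguished _ hT.singleTriangle_distinguished q) v h2
  refine ⟨((q.negOnePow : ℤ) : A) • w, ?_⟩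
  rw [Units.smul_def, ← Int.cast_smul_eq_zsmul A, G_map_smul, Linear.comp_smul] at hw
  rw [Linear.smul_comp]
  exact hw

/-- Powers of an ideal in a module. -/
noncomputable abbrev sub (I : Ideal A) (M : Type u) [AddCommGroup M] [Module A M] (n : ℕ) :
    Submodule A M :=
  I ^ n • ⊤

/-- Inclusion. -/
noncomputable abbrev incl {M : Type u} [AddCommGroup M] [Module A M] {N N' : Submodule A M}
    (h : N ≤ N') : ModuleCat.of A N ⟶ ModuleCat.of A N' :=
  ModuleCat.ofHom (Submodule.inclusion h)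

lemma incl_comp {M : Type u} [AddCommGroup M] [Module A M] {N N' N'' : Submodule A M}
    (h : N ≤ N') (h' : N' ≤ N'') : incl h ≫ incl h' = incl (h.trans h') := rfl

/-- The system of powers of `I` in finite modules is pro-zero for morphisms out of `W`. -/
def ProZero (J : Ideal A) [DRing.HasRgammaI J] (W : Dual.D A) (I : Ideal A) : Prop :=
  ∀ (M : Type u) [AddCommGroup M] [Module A M] [Module.Finite A M] (n : ℕ),
    ∃ (m : ℕ) (h : sub I M m ≤ sub I M n), n ≤ m ∧ Kills J W (incl h)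

lemma sub_le (I : Ideal A) (M : Type u) [AddCommGroup M] [Module A M] {n m : ℕ} (h : n ≤ m) :
    sub I M m ≤ sub I M n :=
  Submodule.smul_mono (Ideal.pow_le_pow_right h) le_rfl

lemma proZero_bot (W : Dual.D A) : ProZero J W ⊥ := fun M _ _ _ n => by
  refine ⟨n + 1, sub_le _ M n.le_succ, n.le_succ, ?_⟩
  have h : sub (⊥ : Ideal A) M (n + 1) = ⊥ := by
    rw [sub, pow_succ, Submodule.mul_bot, Submodule.bot_smul]
  have : incl (sub_le (⊥ : Ideal A) M n.le_succ) = 0 := by
    ext x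
    exact (Submodule.mem_bot A).1 (h ▸ x.2)
  rw [this]
  exact kills_zero W _ _

lemma mem_sub_singleton {f : A} {M : Type u} [AddCommGroup M] [Module A M] {n : ℕ} {x : M} :
    x ∈ sub (Ideal.span {f}) M n ↔ ∃ y : M, f ^ n • y = x := by
  rw [sub, Ideal.span_singleton_pow, Submodule.ideal_span_singleton_smul]
  simp [Submodule.mem_smul_pointwise_iff_exists]

lemma proZero_singleton {W : Dual.D A} {f : A} (hf : f ∈ nilIdeal W) :
    ProZero J W (Ideal.span {f}) := fun M _ _ _ n => by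
  obtain ⟨k, hk⟩ := hf
  let K : ℕ →o Submodule A M :=
    ⟨fun i => LinearMap.ker (LinearMap.lsmul A M (f ^ i)), fun i j hij x hx => by
      simp only [LinearMap.mem_ker, LinearMap.lsmul_apply] at hx ⊢
      obtain ⟨d, rfl⟩ := Nat.le.dest hij
      rw [pow_add, mul_comm, mul_smul, hx, smul_zero]⟩
  obtain ⟨c, hc⟩ := monotone_stabilizes_iff_noetherian.2 inferInstance K
  refine ⟨n + c + k, sub_le _ M (by omega), by omega, ?_⟩
  let p : M →ₗ[A] sub (Ideal.span {f}) M (n + c + k) :=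
    (LinearMap.lsmul A M (f ^ (n + c + k))).codRestrict _
      fun y => mem_sub_singleton.2 ⟨y, rfl⟩
  have hp : Function.Surjective p := fun x => by
    obtain ⟨y, hy⟩ := mem_sub_singleton.1 x.2
    exact ⟨y, Subtype.ext hy⟩
  let q : M →ₗ[A] sub (Ideal.span {f}) M n :=
    (LinearMap.lsmul A M (f ^ (n + c))).codRestrict _
      fun y => mem_sub_singleton.2 ⟨f ^ c • y, by rw [← mul_smul, ← pow_add]; rfl⟩
  have hker : LinearMap.ker p ≤ LinearMap.ker q := fun y hy => by
    have h1 : f ^ (n + c + k) • y = 0 := congrArg Subtype.val (LinearMap.mem_ker.1 hy)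
    have h2 : y ∈ K c := by
      rw [hc (n + c + k) (by omega)]
      exact h1
    exact LinearMap.mem_ker.2 (Subtype.ext (K.monotone (by omega : c ≤ n + c) h2))
  let g : ModuleCat.of A (sub (Ideal.span {f}) M (n + c + k)) ⟶
      ModuleCat.of A (sub (Ideal.span {f}) M n) :=
    ModuleCat.ofHom (((LinearMap.ker p).liftQ q hker).comp
      (p.quotKerEquivOfSurjective hp).symm.toLinearMap)
  have : incl (sub_le (Ideal.span {f}) M (by omega : n ≤ n + c + k)) = f ^ k • g := by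
    refine ModuleCat.hom_ext (LinearMap.ext fun x => ?_)
    obtain ⟨y, rfl⟩ := hp x
    refine Subtype.ext ?_
    have hsymm : (p.quotKerEquivOfSurjective hp).symm (p y) = Submodule.Quotient.mk y :=
      (LinearEquiv.symm_apply_eq _).2 rfl
    show f ^ (n + c + k) • y =
      f ^ k • (((LinearMap.ker p).liftQ q hker ((p.quotKerEquivOfSurjective hp).symm (p y)) :
        sub (Ideal.span {f}) M n) : M)
    rw [hsymm, Submodule.liftQ_apply]
    show _ = f ^ k • f ^ (n + c) • y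
    rw [← mul_smul, ← pow_add, add_comm k (n + c)]
  rw [this]
  exact kills_of_smul _ hk g

lemma proZero_sup {W : Dual.D A} {I₁ I₂ : Ideal A} (h₁ : ProZero J W I₁) (h₂ : ProZero J W I₂) :
    ProZero J W (I₁ ⊔ I₂) := fun M _ _ _ n => by
  obtain ⟨k, hk, hnk, Hk⟩ := h₁ M n
  obtain ⟨m, hm, hkm, Hm⟩ := h₂ (M ⧸ sub I₁ M k) n
  refine ⟨k + m, sub_le _ M (by omega), by omega, fun q v => ?_⟩
  let N₁ := sub I₁ M k
  let π : M →ₗ[A] M ⧸ N₁ := N₁.mkQ
  let Y : ℕ → Submodule A M := fun i => N₁ ⊔ sub I₂ M i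
  have hπ : ∀ i, ∀ x ∈ Y i, π x ∈ sub I₂ (M ⧸ N₁) i := fun i x hx => by
    obtain ⟨a, ha, b, hb, rfl⟩ := Submodule.mem_sup.1 hx
    rw [map_add, show π a = 0 from (Submodule.Quotient.mk_eq_zero _).2 ha, zero_add]
    have : Submodule.map π (sub I₂ M i) ≤ sub I₂ (M ⧸ N₁) i := by
      rw [sub, sub, Submodule.map_smul'']
      exact Submodule.smul_mono le_rfl le_top
    exact this ⟨b, hb, rfl⟩
  have hle : sub (I₁ ⊔ I₂) M (k + m) ≤ Y m := by
    refine (Submodule.smul_mono (Ideal.sup_pow_add_le_pow_sup_pow (I := I₁) (J := I₂)) le_rfl).trans ?_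
    rw [Submodule.sup_smul]
  have hY : Y m ≤ Y n := sup_le_sup_left (sub_le I₂ M hkm) _
  have hYn : Y n ≤ sub (I₁ ⊔ I₂) M n :=
    sup_le (Submodule.smul_mono ((Ideal.pow_le_pow_right hnk).trans
      (Ideal.pow_right_mono le_sup_left n)) le_rfl)
      (Submodule.smul_mono (Ideal.pow_right_mono le_sup_right n) le_rfl)
  let p : ∀ i, ModuleCat.of A (Y i) ⟶ ModuleCat.of A (sub I₂ (M ⧸ N₁) i) := fun i =>
    ModuleCat.ofHom (π.restrict (hπ i))
  have hN₁ : N₁ ≤ Y n := le_sup_left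
  let T : ShortComplex (ModuleCat.{u} A) :=
    .mk (incl hN₁) (p n) (by
      ext x
      exact (Submodule.Quotient.mk_eq_zero _).2 x.2)
  have hT : T.ShortExact :=
    { exact := (ShortComplex.ShortExact.moduleCat_exact_iff_function_exact _).2 fun y =>
        ⟨fun hy => ⟨⟨y.1, (Submodule.Quotient.mk_eq_zero _).1 (congrArg Subtype.val hy)⟩, rfl⟩,
          fun hy => by
            obtain ⟨x, rfl⟩ := hy
            exact Subtype.ext ((Submodule.Quotient.mk_eq_zero _).2 x.2)⟩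
      mono_f := (ModuleCat.mono_iff_injective _).2 (Submodule.inclusion_injective hN₁)
      epi_g := (ModuleCat.epi_iff_surjective _).2 fun z => by
        have hz : z.1 ∈ Submodule.map π (sub I₂ M n) := by
          rw [sub, Submodule.map_smul'', Submodule.map_top, Submodule.range_mkQ]
          exact z.2
        obtain ⟨b, hb, hb'⟩ := hz
        exact ⟨⟨b, Submodule.mem_sup_right hb⟩, Subtype.ext hb'⟩ }
  obtain ⟨w, hw⟩ := exists_lift hT q
    (v ≫ (G J).map ((S.map (incl (hle.trans hY)))⟦q⟧')) (by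
      rw [Category.assoc, ← map_comp']
      have : incl (hle.trans hY) ≫ p n = (incl hle ≫ p m) ≫ incl hm := rfl
      rw [this]
      exact (Hm.comp_left (incl hle ≫ p m)) q v)
  have : incl (sub_le (I₁ ⊔ I₂) M (by omega : n ≤ k + m)) = incl (hle.trans hY) ≫ incl hYn := rfl
  rw [this, map_comp', ← Category.assoc, ← hw, Category.assoc, ← map_comp']
  have : incl hN₁ ≫ incl hYn = incl hk ≫
      incl (Submodule.smul_mono (Ideal.pow_right_mono (le_sup_left : I₁ ≤ I₁ ⊔ I₂) n) le_rfl) := rfl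
  exact (congrArg (fun φ => w ≫ (G J).map ((S.map φ)⟦q⟧')) this).trans (Hk.comp_right _ q w)

lemma proZero_ide {W : Dual.D A} : ∀ (l : List A), (∀ f ∈ l, f ∈ nilIdeal W) →
    ProZero J W (ide l)
  | [], _ => proZero_bot W
  | f :: l, h => proZero_sup (proZero_singleton (h f List.mem_cons_self))
      (proZero_ide l fun g hg => h g (List.mem_cons_of_mem _ hg))

/-- The pro-vanishing. -/
theorem proZero {W : Dual.D A} {I : Ideal A} (h : I ≤ nilIdeal W) : ProZero J W I := by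
  obtain ⟨l, hl⟩ := exists_ide_eq (IsNoetherian.noetherian I)
  exact hl ▸ proZero_ide l fun f hf => h (hl ▸ mem_ide hf)

end Groth.Agent.Lib.RGamma.Nil
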