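import Groth.Agent.Lib.DerComp.GMEquiv
import Groth.Agent.Lib.RGamma.BaseChangeCoh
import Groth.Agent.Lib.RGamma.Nil
import Groth.Agent.Lib.RGamma.CompletionKill
import Groth.Agent.Lib.DR.DComp.Orth
import Groth.Agent.S1816

/-!
# The comparison of `RΓ_J` with its derived completion along distinguished triangles
-/

universe u

open CategoryTheory CategoryTheory.Limits Pretriangulated
open Groth.Agent.Lib.DR.DComp Groth.Agent.Lib.DMod.Basic

attribute [local instance] HasDerivedCategory.standard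

set_option backward.isDefEq.respectTransparency false

namespace Groth.Agent.Lib.RGamma.ComplLadder

variable {A : Type u} [CommRing A] {I : Ideal A}

/-- Completion maps are closed under cones. -/
theorem pBij_hom₃ {T T' : Triangle (Dual.D A)} (hT : T ∈ distTriang (Dual.D A))
    (hT' : T' ∈ distTriang (Dual.D A)) (φ : T ⟶ T') (h₁ : PBij I φ.hom₁) (h₂ : PBij I φ.hom₂) :
    PBij I φ.hom₃ := fun Y hY => by
  refine ⟨fun a b hab => sub_eq_zero.1 ?_, fun a => ?_⟩
  · have h0 : φ.hom₃ ≫ (a - b) = 0 := by rw [Preadditive.comp_sub]; exact sub_eq_zero.2 hab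
    obtain ⟨χ, hχ⟩ := Triangle.yoneda_exact₃ _ hT' (a - b) ((h₂ Y hY).1 (by
      show φ.hom₂ ≫ T'.mor₂ ≫ (a - b) = φ.hom₂ ≫ (0 : _ ⟶ Y)
      rw [← reassoc_of% φ.comm₂, h0, comp_zero, comp_zero]))
    obtain ⟨(ω : T.obj₂⟦(1 : ℤ)⟧ ⟶ Y), hω⟩ :=
      Triangle.yoneda_exact₂ _ (rot_of_distTriang _ (rot_of_distTriang _ hT))
      (φ.hom₁⟦(1 : ℤ)⟧' ≫ χ) (by
        show T.mor₃ ≫ φ.hom₁⟦(1 : ℤ)⟧' ≫ χ = 0
        rw [reassoc_of% φ.comm₃, ← hχ, h0])
    obtain ⟨(ω' : T'.obj₂⟦(1 : ℤ)⟧ ⟶ Y), hω'⟩ := (pBij_shift h₂ Y hY).2 ω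
    have hn : T.mor₁⟦(1 : ℤ)⟧' ≫ φ.hom₂⟦(1 : ℤ)⟧' = φ.hom₁⟦(1 : ℤ)⟧' ≫ T'.mor₁⟦(1 : ℤ)⟧' :=
      ((shiftFunctor (Dual.D A) (1 : ℤ)).map_comp _ _).symm.trans
        ((congrArg _ φ.comm₁).trans ((shiftFunctor (Dual.D A) (1 : ℤ)).map_comp _ _))
    have hω'' : φ.hom₂⟦(1 : ℤ)⟧' ≫ ω' = ω := hω'
    have hχ' : χ = -(T'.mor₁⟦(1 : ℤ)⟧' ≫ ω') := (pBij_shift h₁ Y hY).1 (by
      show φ.hom₁⟦(1 : ℤ)⟧' ≫ χ = φ.hom₁⟦(1 : ℤ)⟧' ≫ (-(T'.mor₁⟦(1 : ℤ)⟧' ≫ ω'))
      rw [Preadditive.comp_neg, ← reassoc_of% hn, hω'']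
      exact hω.trans (Preadditive.neg_comp _ _))
    rw [hχ, hχ']
    rw [Preadditive.comp_neg, ← Category.assoc,
      show T'.mor₃ ≫ T'.mor₁⟦(1 : ℤ)⟧' = 0 from comp_distTriang_mor_zero₃₁ _ hT', zero_comp, neg_zero]
  · obtain ⟨b, hb⟩ := (h₂ Y hY).2 (T.mor₂ ≫ a)
    have hb' : φ.hom₂ ≫ b = T.mor₂ ≫ a := hb
    obtain ⟨ψ, hψ⟩ := Triangle.yoneda_exact₂ _ hT' b ((h₁ Y hY).1 (by
      show φ.hom₁ ≫ T'.mor₁ ≫ b = φ.hom₁ ≫ (0 : _ ⟶ Y)
      rw [← reassoc_of% φ.comm₁, hb', comp_zero, ← Category.assoc,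
        show T.mor₁ ≫ T.mor₂ = 0 from comp_distTriang_mor_zero₁₂ _ hT, zero_comp]))
    obtain ⟨ω, hω⟩ := Triangle.yoneda_exact₃ _ hT (a - φ.hom₃ ≫ ψ) (by
      rw [Preadditive.comp_sub, ← hb', reassoc_of% φ.comm₂, ← hψ, sub_self])
    obtain ⟨χ, hχ⟩ := (pBij_shift h₁ Y hY).2 ω
    have hχ' : φ.hom₁⟦(1 : ℤ)⟧' ≫ χ = ω := hχ
    refine ⟨ψ + T'.mor₃ ≫ χ, ?_⟩
    show φ.hom₃ ≫ (ψ + T'.mor₃ ≫ χ) = a
    rw [Preadditive.comp_add, ← reassoc_of% φ.comm₃, hχ', ← hω, add_sub_cancel]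

/-- Connecting maps commute with morphisms of triangles. -/
theorem δ_naturality {T T' : Triangle (Dual.D A)} (φ : T ⟶ T') (i j : ℤ) (h : i + 1 = j)
    (x : Dual.HD A T.obj₃ i) :
    (DerivedCategory.HomologySequence.δ T' i j h).hom (mapHD φ.hom₃ i x) =
      mapHD φ.hom₁ j ((DerivedCategory.HomologySequence.δ T i j h).hom x) :=
  congr($((DerivedCategory.homologyFunctor (ModuleCat.{u} A) 0).homologySequenceδ_naturality
    T T' φ i j h) x)

theorem mapHD_naturality {X Y X' Y' : Dual.D A} {f : X ⟶ Y} {g : X' ⟶ Y'} {a : X ⟶ X'} {b : Y ⟶ Y'}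
    (h : f ≫ b = a ≫ g) (i : ℤ) (x : Dual.HD A X i) :
    mapHD b i (mapHD f i x) = mapHD g i (mapHD a i x) :=
  congr($(((DerivedCategory.homologyFunctor (ModuleCat.{u} A) i).map_comp f b).symm.trans
    ((congrArg (DerivedCategory.homologyFunctor (ModuleCat.{u} A) i).map h).trans
      ((DerivedCategory.homologyFunctor (ModuleCat.{u} A) i).map_comp a g))) x)

variable (I) [DRing.HasDerivedCompletion I]

/-- The comparison with the completion on `H^i`. -/
noncomputable abbrev cmp (X : Dual.D A) (i : ℤ) :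
    Dual.HD A X i →ₗ[A] Dual.HD A ((DRing.derivedCompletion I).obj X).obj i :=
  mapHD (DRing.toDerivedCompletion I X) i

/-- A distinguished triangle maps to the triangle of completions. -/
theorem exists_ladder (T : Triangle (Dual.D A)) (hT : T ∈ distTriang (Dual.D A)) :
    ∃ (p : ((DRing.derivedCompletion I).obj T.obj₂).obj ⟶ ((DRing.derivedCompletion I).obj T.obj₃).obj)
      (δ : ((DRing.derivedCompletion I).obj T.obj₃).obj ⟶
        ((DRing.derivedCompletion I).obj T.obj₁).obj⟦(1 : ℤ)⟧),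
      Triangle.mk ((DRing.derivedCompletion I).map T.mor₁).hom p δ ∈ distTriang (Dual.D A) ∧
      (∀ j x, cmp I T.obj₂ j (mapHD T.mor₁ j x) =
        mapHD ((DRing.derivedCompletion I).map T.mor₁).hom j (cmp I T.obj₁ j x)) ∧
      (∀ j x, cmp I T.obj₃ j (mapHD T.mor₂ j x) = mapHD p j (cmp I T.obj₂ j x)) ∧
      ∀ a b h x, (DerivedCategory.HomologySequence.δ
          (Triangle.mk ((DRing.derivedCompletion I).map T.mor₁).hom p δ) a b h).hom (cmp I T.obj₃ a x) =
        cmp I T.obj₁ b ((DerivedCategory.HomologySequence.δ T a b h).hom x) := by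
  obtain ⟨D, p, δ, hT'⟩ := distinguished_cocone_triangle ((DRing.derivedCompletion I).map T.mor₁).hom
  obtain ⟨c, hc₁, hc₂⟩ := complete_distinguished_triangle_morphism T _ hT hT'
    (DRing.toDerivedCompletion I T.obj₁) (DRing.toDerivedCompletion I T.obj₂)
    (toDerivedCompletion_naturality T.mor₁)
  have hc : PBij I c := pBij_hom₃ hT hT'
    (Triangle.homMk T _ (DRing.toDerivedCompletion I T.obj₁) (DRing.toDerivedCompletion I T.obj₂) c
      (toDerivedCompletion_naturality T.mor₁) hc₁ hc₂)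
    (pBij_toDerivedCompletion' (I := I) _) (pBij_toDerivedCompletion' (I := I) _)
  obtain ⟨e, he⟩ := exists_iso_of_pBij hc (pBij_toDerivedCompletion' (I := I) T.obj₃)
    (isDerivedComplete_obj₃ _ hT' (isDerivedComplete_completion (I := I) _)
      (isDerivedComplete_completion (I := I) _)) (isDerivedComplete_completion (I := I) _)
  refine ⟨p ≫ e.hom, e.inv ≫ δ, isomorphic_distinguished _ hT' _
    (Triangle.isoMk _ _ (Iso.refl _) (Iso.refl _) e.symm ?_ ?_ ?_), ?_⟩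
  · exact (Category.comp_id _).trans (Category.id_comp _).symm
  · show (p ≫ e.hom) ≫ e.inv = 𝟙 _ ≫ p
    exact ((Category.assoc _ _ _).trans ((congrArg (p ≫ ·) e.hom_inv_id).trans
      (Category.comp_id p))).trans (Category.id_comp p).symm
  · show (e.inv ≫ δ) ≫ (𝟙 _)⟦(1 : ℤ)⟧' = e.inv ≫ δ
    rw [CategoryTheory.Functor.map_id, Category.comp_id]
  · have h₂ : T.mor₂ ≫ DRing.toDerivedCompletion I T.obj₃ =
        DRing.toDerivedCompletion I T.obj₂ ≫ p ≫ e.hom := by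
      rw [← he, ← Category.assoc, hc₁]
      exact Category.assoc _ _ _
    have h₃ : T.mor₃ ≫ (DRing.toDerivedCompletion I T.obj₁)⟦(1 : ℤ)⟧' =
        DRing.toDerivedCompletion I T.obj₃ ≫ e.inv ≫ δ := by
      rw [← he, Category.assoc, e.hom_inv_id_assoc]
      exact hc₂
    exact ⟨fun j x => mapHD_naturality (toDerivedCompletion_naturality T.mor₁) j x,
      fun j x => mapHD_naturality h₂ j x,
      fun a b h x => δ_naturality (Triangle.homMk T (Triangle.mk _ (p ≫ e.hom) (e.inv ≫ δ))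
        (DRing.toDerivedCompletion I T.obj₁) (DRing.toDerivedCompletion I T.obj₂)
        (DRing.toDerivedCompletion I T.obj₃) (toDerivedCompletion_naturality T.mor₁) h₂ h₃) a b h x⟩

/-- Five lemma for the comparison. -/
theorem bijective_cmp_obj₂ (T : Triangle (Dual.D A)) (hT : T ∈ distTriang (Dual.D A)) (i : ℤ)
    (h3' : Function.Surjective (cmp I T.obj₃ (i - 1))) (h1 : Function.Bijective (cmp I T.obj₁ i))
    (h3 : Function.Bijective (cmp I T.obj₃ i)) (h1' : Function.Injective (cmp I T.obj₁ (i + 1))) :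
    Function.Bijective (cmp I T.obj₂ i) := by
  obtain ⟨p, δ, hT', n1, n2, n3⟩ := exists_ladder I T hT
  refine ⟨(injective_iff_map_eq_zero _).2 fun x hx => ?_, fun y => ?_⟩
  · have h : mapHD T.mor₂ i x = 0 := h3.1 (by rw [n2, hx, map_zero, map_zero])
    obtain ⟨w, rfl⟩ := (exact_mapHD₂ hT i x).1 h
    rw [n1] at hx
    obtain ⟨z, hz⟩ := (exact_mapHD₁ hT' (i - 1) i (by omega) _).1 hx
    obtain ⟨z', rfl⟩ := h3' z
    rw [n3] at hz
    rw [← h1.1 hz]
    exact (exact_mapHD₁ hT (i - 1) i (by omega) _).2 ⟨z', rfl⟩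
  · obtain ⟨w, hw⟩ := h3.2 (mapHD p i y)
    have h : (DerivedCategory.HomologySequence.δ T i (i + 1) rfl).hom w = 0 := h1' (by
      rw [← n3, hw, map_zero]
      exact (exact_mapHD₃ hT' i (i + 1) rfl _).2 ⟨y, rfl⟩)
    obtain ⟨v, rfl⟩ := (exact_mapHD₃ hT i (i + 1) rfl w).1 h
    obtain ⟨u, hu⟩ := (exact_mapHD₂ hT' i (y - cmp I T.obj₂ i v)).1 (by
      show mapHD p i (y - cmp I T.obj₂ i v) = 0
      rw [map_sub, ← n2, hw, sub_self])
    obtain ⟨u', rfl⟩ := h1.2 u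
    exact ⟨mapHD T.mor₁ i u' + v, by rw [map_add, n1]; exact eq_add_of_sub_eq hu.symm |>.symm⟩

/-- Dévissage along a multiplication killing the completed side. -/
theorem bijective_cmp_of_smul {R Z : Dual.D A} (f : A) (p : R ⟶ Z) (δ : Z ⟶ R⟦(1 : ℤ)⟧)
    (hT : Triangle.mk (f • 𝟙 R) p δ ∈ distTriang (Dual.D A)) (n : ℤ)
    (hlow : ∀ i, i < 0 → Function.Bijective (cmp I R i))
    (hZ : ∀ i, i < n → Function.Bijective (cmp I Z i))
    (hkill : ∀ i, i ≤ n → ∀ y : Dual.HD A ((DRing.derivedCompletion I).obj R).obj i, f • y = 0)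
    (htors : ∀ i, i ≤ n → ∀ x : Dual.HD A R i, ∃ k : ℕ, f ^ k • x = 0)
    (i : ℤ) (hi : i ≤ n) : Function.Bijective (cmp I R i) := by
  obtain ⟨p', δ', hT', -, n2, n3⟩ := exists_ladder I _ hT
  have hφ' : ((DRing.derivedCompletion I).map (f • 𝟙 R)).hom =
      f • 𝟙 ((DRing.derivedCompletion I).obj R).obj := by
    refine (pBij_toDerivedCompletion' (I := I) R _ (isDerivedComplete_completion (I := I) R)).1 ?_
    show _ ≫ _ = _ ≫ _
    rw [← toDerivedCompletion_naturality, Linear.smul_comp, Category.id_comp, Linear.comp_smul,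
      Category.comp_id]
  have hmor' : ∀ j (y : Dual.HD A ((DRing.derivedCompletion I).obj R).obj j),
      mapHD ((DRing.derivedCompletion I).map (f • 𝟙 R)).hom j y = f • y := fun j y => by
    rw [hφ']
    exact hF_map_smul_id f _ j y
  have hsurj : ∀ j, j ≤ n → Function.Surjective (cmp I R j) := fun j hj y => by
    obtain ⟨z, rfl⟩ := (exact_mapHD₁ hT' (j - 1) j (by omega) y).1 ((hmor' j y).trans (hkill j hj y))
    obtain ⟨w, rfl⟩ := (hZ (j - 1) (by omega)).2 z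
    exact ⟨_, (n3 _ _ (by omega) w).symm⟩
  refine ⟨(injective_iff_map_eq_zero _).2 fun x hx => ?_, hsurj i hi⟩
  obtain ⟨k, hk⟩ := htors i hi x
  induction k generalizing x with
  | zero => simpa using hk
  | succ k ih =>
    by_cases hi0 : i < 0
    · exact (hlow i hi0).1 (hx.trans (map_zero _).symm)
    refine ih x hx ?_
    obtain ⟨w, hw⟩ := (exact_mapHD₁ hT (i - 1) i (by omega) (f ^ k • x)).1 (by
      rw [pow_succ', mul_smul] at hk
      exact (hF_map_smul_id f R i _).trans hk)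
    obtain ⟨z, hz⟩ := (exact_mapHD₃ hT' (i - 1) i (by omega) (cmp I Z (i - 1) w)).1 (by
      refine (n3 (i - 1) i (by omega) w).trans ?_
      refine (congrArg (cmp I R i) hw).trans ?_
      rw [map_smul, hx, smul_zero])
    obtain ⟨z', rfl⟩ := hsurj (i - 1) (by omega) z
    have : mapHD p (i - 1) z' = w := (hZ (i - 1) (by omega)).1 ((n2 _ z').trans hz)
    rw [← hw, ← this]
    exact (exact_mapHD₃ hT (i - 1) i (by omega) _).2 ⟨z', rfl⟩

theorem bijective_cmp_of_iso {X Y : Dual.D A} (e : X ≅ Y) (i : ℤ)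
    (h : Function.Bijective (cmp I X i)) : Function.Bijective (cmp I Y i) := by
  let eC : ((DRing.derivedCompletion I).obj X).obj ≅ ((DRing.derivedCompletion I).obj Y).obj :=
    (ObjectProperty.ι _).mapIso ((DRing.derivedCompletion I).mapIso e)
  have : ⇑(cmp I Y i) = ⇑(HDCongr eC i) ∘ ⇑(cmp I X i) ∘ ⇑(HDCongr e i).symm := by
    funext y
    obtain ⟨x, rfl⟩ := (HDCongr e i).surjective y
    simp only [Function.comp_apply, LinearEquiv.symm_apply_apply]
    exact mapHD_naturality (toDerivedCompletion_naturality (I := I) e.hom) i x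
  rw [this]
  exact (HDCongr eC i).bijective.comp (h.comp (HDCongr e i).symm.bijective)

theorem bijective_cmp_of_complete {X : Dual.D A} (h : DRing.IsDerivedComplete I X) (i : ℤ) :
    Function.Bijective (cmp I X i) := by
  haveI := DerComp.GMEquiv.isIso_unit_of_complete I X h
  exact (HDCongr (asIso (DRing.toDerivedCompletion I X)) i).bijective

section Gamma

variable [IsNoetherianRing A]

omit [DRing.HasDerivedCompletion I] in
/-- `RΓ_J` of a distinguished triangle. -/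
theorem exists_RgammaI_triangle (J : Ideal A) [DRing.HasRgammaI J] (T : Triangle (Dual.D A))
    (hT : T ∈ distTriang (Dual.D A)) :
    ∃ (p : (DRing.RgammaI J).obj T.obj₂ ⟶ (DRing.RgammaI J).obj T.obj₃)
      (δ : (DRing.RgammaI J).obj T.obj₃ ⟶ ((DRing.RgammaI J).obj T.obj₁)⟦(1 : ℤ)⟧),
      Triangle.mk ((DRing.RgammaI J).map T.mor₁) p δ ∈ distTriang (Dual.D A) := by
  obtain ⟨Z, p, δ, hT'⟩ := distinguished_cocone_triangle ((DRing.RgammaI J).map T.mor₁)
  obtain ⟨c, hc₁, hc₂⟩ := complete_distinguished_triangle_morphism _ T hT' hT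
    ((DRing.RgammaIε J).app T.obj₁) ((DRing.RgammaIε J).app T.obj₂)
    ((DRing.RgammaIε J).naturality T.mor₁)
  have hc : PBij J c := pBij_hom₃ hT' hT
    (Triangle.homMk _ T ((DRing.RgammaIε J).app T.obj₁) ((DRing.RgammaIε J).app T.obj₂) c
      ((DRing.RgammaIε J).naturality T.mor₁) hc₁ hc₂) (pBij_ε J _) (pBij_ε J _)
  have hZ : ∀ i, LocCoh.IsPowerTorsion J (Dual.HD A Z i) := fun i =>
    Nil.isPowerTorsion_middle J _ _ (exact_mapHD₃ hT' i (i + 1) rfl)
      (isPowerTorsion_HD_RgammaI J T.obj₂ i) (isPowerTorsion_HD_RgammaI J T.obj₁ (i + 1))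
  obtain ⟨e⟩ := nonempty_iso_RgammaI_of_pBij J c hc hZ
  refine ⟨p ≫ e.hom, e.inv ≫ δ, isomorphic_distinguished _ hT' _
    (Triangle.isoMk _ _ (Iso.refl _) (Iso.refl _) e.symm ?_ ?_ ?_)⟩
  · exact (Category.comp_id _).trans (Category.id_comp _).symm
  · show (p ≫ e.hom) ≫ e.inv = 𝟙 _ ≫ p
    exact ((Category.assoc _ _ _).trans ((congrArg (p ≫ ·) e.hom_inv_id).trans
      (Category.comp_id p))).trans (Category.id_comp p).symm
  · show (e.inv ≫ δ) ≫ (𝟙 _)⟦(1 : ℤ)⟧' = e.inv ≫ δ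
    rw [CategoryTheory.Functor.map_id, Category.comp_id]

omit [DRing.HasDerivedCompletion I] in
/-- A scalar killing `K` kills `RΓ_J K`. -/
theorem smul_id_RgammaI (J : Ideal A) [DRing.HasRgammaI J] (f : A) (K : Dual.D A) :
    (DRing.RgammaI J).map (f • 𝟙 K) = f • 𝟙 ((DRing.RgammaI J).obj K) := by
  rw [← CategoryTheory.Functor.map_id]
  exact Nil.G_map_smul J f (𝟙 K)

omit [DRing.HasDerivedCompletion I] in
/-- Two ideals with the same radical have the same `RΓ`. -/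
theorem nonempty_RgammaI_iso_of_radical (J J' : Ideal A) [DRing.HasRgammaI J] [DRing.HasRgammaI J']
    (h : J ≤ J'.radical) (h' : J' ≤ J.radical) (K : Dual.D A) :
    Nonempty ((DRing.RgammaI J).obj K ≅ (DRing.RgammaI J').obj K) := by
  have key : ∀ (P Q : Ideal A), Q ≤ P.radical → ∀ M : Type u, [AddCommGroup M] → [Module A M] →
      LocCoh.IsPowerTorsion P M → LocCoh.IsPowerTorsion Q M := by
    intro P Q hPQ M _ _ hM x
    obtain ⟨n, hn⟩ := hM x
    obtain ⟨k, hk⟩ := Ideal.exists_pow_le_of_le_radical_of_fg_radical hPQ (IsNoetherian.noetherian _)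
    refine ⟨k * n, fun a ha => hn a ?_⟩
    rw [pow_mul] at ha
    exact Ideal.pow_right_mono hk n ha
  have t₁ := fun i => key J J' h' _ (isPowerTorsion_HD_RgammaI J K i)
  have t₂ := fun i => key J' J h _ (isPowerTorsion_HD_RgammaI J' K i)
  obtain ⟨α, hα⟩ := (bijective_comp_ε J' K t₁).2 ((DRing.RgammaIε J).app K)
  obtain ⟨β, hβ⟩ := (bijective_comp_ε J K t₂).2 ((DRing.RgammaIε J').app K)
  have hα : α ≫ (DRing.RgammaIε J').app K = (DRing.RgammaIε J).app K := hα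
  have hβ : β ≫ (DRing.RgammaIε J).app K = (DRing.RgammaIε J').app K := hβ
  refine ⟨⟨α, β, (bijective_comp_ε J K (isPowerTorsion_HD_RgammaI J K)).1 ?_,
    (bijective_comp_ε J' K (isPowerTorsion_HD_RgammaI J' K)).1 ?_⟩⟩
  · show (α ≫ β) ≫ _ = 𝟙 _ ≫ _
    rw [Category.assoc, hβ, hα, Category.id_comp]
  · show (β ≫ α) ≫ _ = 𝟙 _ ≫ _
    rw [Category.assoc, hα, hβ, Category.id_comp]

/-- The completion of `RΓ_J` only depends on the trace of `V(J)` on `V(I)`. -/
theorem nonempty_completion_iso (J J' : Ideal A) [DRing.HasRgammaI J] [DRing.HasRgammaI J']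
    (h : J ≤ (J' ⊔ I).radical) (h' : J' ≤ (J ⊔ I).radical) (K : Dual.D A) :
    Nonempty (((DRing.derivedCompletion I).obj ((DRing.RgammaI J).obj K)).obj ≅
      ((DRing.derivedCompletion I).obj ((DRing.RgammaI J').obj K)).obj) := by
  haveI := CompletionKill.hasRgammaI I
  haveI := CompletionKill.hasRgammaI (J ⊔ I)
  haveI := CompletionKill.hasRgammaI (J' ⊔ I)
  obtain ⟨a⟩ := Groth.Agent.S1816.result A J I K
  obtain ⟨a'⟩ := Groth.Agent.S1816.result A J' I K
  obtain ⟨b⟩ := nonempty_RgammaI_iso_of_radical (J ⊔ I) (J' ⊔ I)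
    (sup_le h (le_sup_right.trans Ideal.le_radical)) (sup_le h' (le_sup_right.trans Ideal.le_radical)) K
  have := isIso_completion_map_ε (I := I) ((DRing.RgammaI J).obj K)
  have := isIso_completion_map_ε (I := I) ((DRing.RgammaI J').obj K)
  exact ⟨(ObjectProperty.ι _).mapIso
    ((asIso ((DRing.derivedCompletion I).map ((DRing.RgammaIε I).app ((DRing.RgammaI J).obj K)))).symm ≪≫
      (DRing.derivedCompletion I).mapIso (a ≪≫ b ≪≫ a'.symm) ≪≫
      asIso ((DRing.derivedCompletion I).map ((DRing.RgammaIε I).app ((DRing.RgammaI J').obj K))))⟩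

end Gamma

end Groth.Agent.Lib.RGamma.ComplLadder
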