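import Groth.Agent.Lib.RGamma.ComplModule
import Groth.Agent.Lib.LCFin.Algebraize

/-!
# Stabilisation of the completion of `RΓ_J M`: the induction
-/

universe u

open CategoryTheory CategoryTheory.Limits Pretriangulated
open Groth.Agent.Lib.DR.DComp Groth.Agent.Lib.DMod.Basic
open scoped Pointwise

attribute [local instance] HasDerivedCategory.standard

set_option backward.isDefEq.respectTransparency false

namespace Groth.Agent.Lib.RGamma.ComplMain

open ComplLadder ComplModule

variable {A : Type u} [CommRing A] [IsNoetherianRing A] (I J : Ideal A)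

/-- The ideals with the same trace on `V(I)` as `J`. -/
abbrev SameTrace (J' : Ideal A) : Prop :=
  PrimeSpectrum.zeroLocus ((J' : Ideal A) : Set A) ∩ PrimeSpectrum.zeroLocus (I : Set A) =
    PrimeSpectrum.zeroLocus (J : Set A) ∩ PrimeSpectrum.zeroLocus (I : Set A)

/-- The primes whose closure meets `V(I)` inside `V(J)`. -/
abbrev InT (p : PrimeSpectrum A) : Prop :=
  ∀ q : PrimeSpectrum A, p ≤ q → I ≤ q.asIdeal → J ≤ q.asIdeal

/-- The primes on which the comparison is automatic. -/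
abbrev Bad (p : PrimeSpectrum A) : Prop :=
  I ≤ p.asIdeal ∨ InT I J p ∨ ∀ q : PrimeSpectrum A, p ≤ q → I ≤ q.asIdeal → ¬ J ≤ q.asIdeal

variable {I J}

omit [IsNoetherianRing A] in
theorem sameTrace_iff {J' : Ideal A} : SameTrace I J J' ↔
    ∀ q : PrimeSpectrum A, I ≤ q.asIdeal → (J' ≤ q.asIdeal ↔ J ≤ q.asIdeal) := by
  simp only [SameTrace, Set.ext_iff, Set.mem_inter_iff, PrimeSpectrum.mem_zeroLocus,
    SetLike.coe_subset_coe, and_congr_left_iff]

omit [IsNoetherianRing A] in
theorem sameTrace_mul {X Y : Ideal A} (hX : SameTrace I J X) (hY : SameTrace I J Y) :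
    SameTrace I J (X * Y) := by
  rw [sameTrace_iff] at hX hY ⊢
  intro q hq
  rw [q.isPrime.mul_le, hX q hq, hY q hq, or_self]

omit [IsNoetherianRing A] in
theorem sameTrace_radical {X : Ideal A} (hX : SameTrace I J X) :
    J ≤ (X ⊔ I).radical ∧ X ≤ (J ⊔ I).radical := by
  rw [sameTrace_iff] at hX
  constructor <;> rw [Ideal.radical_eq_sInf] <;> refine le_sInf fun P hP => ?_
  · exact (hX ⟨P, hP.2⟩ (le_sup_right.trans hP.1)).1 (le_sup_left.trans hP.1)
  · exact (hX ⟨P, hP.2⟩ (le_sup_right.trans hP.1)).2 (le_sup_left.trans hP.1)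

omit [IsNoetherianRing A] in
theorem bad_mono {p q : PrimeSpectrum A} (h : p ≤ q) (hp : Bad I J p) : Bad I J q := by
  rcases hp with hp | hp | hp
  · exact Or.inl (hp.trans h)
  · exact Or.inr (Or.inl fun r hr hI => hp r (h.trans hr) hI)
  · exact Or.inr (Or.inr fun r hr hI => hp r (h.trans hr) hI)

variable [DRing.HasDerivedCompletion I]

variable (I J) in
/-- All comparisons are bijective for finite modules killed by `X`. -/
abbrev GoodKilled (J₁ : Ideal A) (X : Ideal A) : Prop :=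
  ∀ (M : Type u) [AddCommGroup M] [Module A M] [Module.Finite A M], (∀ a ∈ X, ∀ x : M, a • x = 0) →
    ∀ (J' : Ideal A) [DRing.HasRgammaI J'], J' ≤ J₁ → SameTrace I J J' → ∀ i, Stable I J' M i

theorem goodKilled_mul {J₁ X Y : Ideal A} (hX : GoodKilled I J J₁ X) (hY : GoodKilled I J J₁ Y) :
    GoodKilled I J J₁ (X * Y) := by
  intro M _ _ _ hM J' _ hle hJ' i
  refine stable_of_ses I J' M (Y • (⊤ : Submodule A M)) (fun j => hX _ (fun a ha x => ?_) J' hle hJ' j) i
    (hY _ (fun b hb z => ?_) J' hle hJ' _) (hY _ (fun b hb z => ?_) J' hle hJ' _)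
  · apply Subtype.ext
    show a • (x : M) = 0
    refine Submodule.smul_induction_on x.2 (fun b hb m _ => ?_) fun y z hy hz => ?_
    · rw [← mul_smul]; exact hM _ (Ideal.mul_mem_mul ha hb) m
    · rw [smul_add, hy, hz, add_zero]
  all_goals
    obtain ⟨z, rfl⟩ := Submodule.Quotient.mk_surjective _ z
    rw [← Submodule.Quotient.mk_smul]
    exact (Submodule.Quotient.mk_eq_zero _).2 (Submodule.smul_mem_smul hb trivial)

theorem goodKilled_pow {J₁ X : Ideal A} (hX : GoodKilled I J J₁ X) :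
    ∀ k : ℕ, GoodKilled I J J₁ (X ^ k)
  | 0 => fun M _ _ _ hM J' _ _ _ i => stable_of_kill I J' M 0 (fun a _ x => by
      have := hM 1 (by simp) x
      rw [one_smul] at this
      rw [this, smul_zero]) i
  | k + 1 => pow_succ X k ▸ goodKilled_mul (goodKilled_pow hX k) hX

variable [IsAdicComplete I A]

theorem stable_of_support_bad (M : Type u) [AddCommGroup M] [Module A M] [Module.Finite A M]
    (hM : ∀ p ∈ Module.support A M, Bad I J p) :
    ∃ J₁ : Ideal A, J₁ ≤ J ∧ SameTrace I J J₁ ∧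
      ∀ (J' : Ideal A) [DRing.HasRgammaI J'], J' ≤ J₁ → SameTrace I J J' → ∀ i, Stable I J' M i := by
  classical
  let 𝔞 := Module.annihilator A M
  let S := (Ideal.finite_minimalPrimes_of_isNoetherianRing A 𝔞).toFinset
  let ST := S.filter fun P => ∃ h : P.IsPrime, InT I J ⟨P, h⟩
  let SN := S.filter fun P => ∃ h : P.IsPrime,
    ∀ q : PrimeSpectrum A, ⟨P, h⟩ ≤ q → I ≤ q.asIdeal → ¬ J ≤ q.asIdeal
  let X₁ := ∏ P ∈ ST, P
  let X₃ := ∏ P ∈ SN, P
  have hJ₁ : SameTrace I J (J * X₁) := sameTrace_iff.2 fun q hq => by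
    refine ⟨fun h => ?_, fun h => Ideal.mul_le_left.trans h⟩
    rcases q.isPrime.mul_le.1 h with h' | h'
    · exact h'
    · obtain ⟨P, hP, hPq⟩ := (Ideal.IsPrime.prod_le q.isPrime).1 h'
      obtain ⟨-, hPp, hPT⟩ := Finset.mem_filter.1 hP
      exact hPT q hPq hq
  refine ⟨J * X₁, Ideal.mul_le_left, hJ₁, fun J' _ hle hJ' i => ?_⟩
  have hI : GoodKilled I J (J * X₁) I := fun M _ _ _ hM J' _ _ _ i =>
    stable_of_kill I J' M 1 (fun a ha => hM a (by rwa [pow_one] at ha)) i
  have h1 : GoodKilled I J (J * X₁) X₁ := fun M _ _ _ hM J' _ hle _ i =>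
    stable_of_torsion I J' M (fun x => ⟨1, fun a ha =>
      hM a (Ideal.mul_le_right (hle (by rwa [pow_one] at ha))) x⟩) i
  have h3 : GoodKilled I J (J * X₁) X₃ := fun M _ _ _ hM J' _ _ hJ' i => by
    refine stable_of_coprime I J' M X₃ ?_ hM i
    by_contra hne
    obtain ⟨P, hP, hle⟩ := Ideal.exists_le_maximal _ hne
    have hIP : I ≤ P :=
      (IsAdicComplete.le_jacobson_bot I).trans (sInf_le ⟨bot_le, hP⟩)
    obtain ⟨Q, hQ, hQP⟩ := (Ideal.IsPrime.prod_le hP.isPrime).1 (le_sup_left.trans hle)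
    obtain ⟨-, hQp, hQN⟩ := Finset.mem_filter.1 hQ
    exact hQN ⟨P, hP.isPrime⟩ hQP hIP
      ((sameTrace_iff.1 hJ' ⟨P, hP.isPrime⟩ hIP).1 (le_sup_right.trans hle))
  obtain ⟨k, hk⟩ : ∃ k, (I * X₁ * X₃) ^ k ≤ 𝔞 :=
    Ideal.exists_pow_le_of_le_radical_of_fg_radical (by
      rw [← Ideal.sInf_minimalPrimes]
      refine le_sInf fun P hP => ?_
      have := hP.1.1
      have hS : P ∈ S := (Set.Finite.mem_toFinset _).2 hP
      rcases hM ⟨P, this⟩ (by rw [Module.support_eq_zeroLocus]; exact hP.1.2) with h | h | h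
      · exact (Ideal.mul_le_left.trans Ideal.mul_le_left).trans h
      · exact (Ideal.mul_le_left.trans Ideal.mul_le_right).trans (Ideal.prod_le_inf.trans
          (Finset.inf_le (f := fun P => P) (Finset.mem_filter.2 ⟨hS, this, h⟩)))
      · exact Ideal.mul_le_right.trans (Ideal.prod_le_inf.trans
          (Finset.inf_le (f := fun P => P) (Finset.mem_filter.2 ⟨hS, this, h⟩))))
      (IsNoetherian.noetherian _)
  exact goodKilled_pow (goodKilled_mul (goodKilled_mul hI h1) h3) k M
    (fun a ha x => Module.mem_annihilator.1 (hk ha) x) J' hle hJ' i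

variable (I J) in
/-- The elements supported on the primes where the comparison is automatic. -/
def badPart (M : Type u) [AddCommGroup M] [Module A M] : Submodule A M where
  carrier := {x | ∀ p : PrimeSpectrum A, ¬ Bad I J p → ∃ t : A, t ∉ p.asIdeal ∧ t • x = 0}
  zero_mem' p _ := ⟨1, p.isPrime.one_notMem, smul_zero _⟩
  add_mem' {x y} hx hy p hp := by
    obtain ⟨s, hs, hsx⟩ := hx p hp
    obtain ⟨t, ht, hty⟩ := hy p hp
    exact ⟨s * t, p.isPrime.mul_notMem hs ht, by
      rw [smul_add, mul_smul, mul_smul, hty, smul_zero, add_zero, smul_comm, hsx, smul_zero]⟩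
  smul_mem' c x hx p hp := by
    obtain ⟨s, hs, hsx⟩ := hx p hp
    exact ⟨s, hs, by rw [smul_comm, hsx, smul_zero]⟩

omit [DRing.HasDerivedCompletion I] [IsAdicComplete I A] [IsNoetherianRing A] in
theorem nonempty_localized_equiv (M : Type u) [AddCommGroup M] [Module A M] (p : PrimeSpectrum A)
    (hp : ¬ Bad I J p) : Nonempty (LocalizedModule p.asIdeal.primeCompl M ≃ₗ[Localization.AtPrime p.asIdeal]
      LocalizedModule p.asIdeal.primeCompl (M ⧸ badPart I J M)) := by
  refine ⟨LinearEquiv.ofBijective (LocalizedModule.map p.asIdeal.primeCompl (badPart I J M).mkQ)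
    ⟨(injective_iff_map_eq_zero _).2 fun z hz => ?_,
      LocalizedModule.map_surjective _ _ (Submodule.mkQ_surjective _)⟩⟩
  induction z using LocalizedModule.induction_on with
  | h m s =>
    rw [LocalizedModule.map_mk, ← LocalizedModule.zero_mk 1, LocalizedModule.mk_eq] at hz
    obtain ⟨u, hu⟩ := hz
    simp only [one_smul, smul_zero] at hu
    rw [Submonoid.smul_def, Submodule.mkQ_apply, ← Submodule.Quotient.mk_smul,
      Submodule.Quotient.mk_eq_zero] at hu
    obtain ⟨t, ht, htm⟩ := hu p hp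
    rw [← LocalizedModule.zero_mk 1, LocalizedModule.mk_eq]
    refine ⟨⟨t, ht⟩ * u, ?_⟩
    simp only [one_smul, smul_zero]
    rw [Submonoid.smul_def]
    show (t * (u : A)) • m = 0
    rw [mul_smul, htm]

omit [DRing.HasDerivedCompletion I] [IsAdicComplete I A] [IsNoetherianRing A] in
theorem not_bad_of_associated (M : Type u) [AddCommGroup M] [Module A M] [IsNoetherianRing A]
    (p : PrimeSpectrum A) (hp : p.asIdeal ∈ associatedPrimes A (M ⧸ badPart I J M)) :
    ¬ Bad I J p := by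
  intro hb
  obtain ⟨-, z, hz⟩ := isAssociatedPrime_iff.1 hp
  obtain ⟨x, rfl⟩ := Submodule.Quotient.mk_surjective _ z
  have hx : x ∈ badPart I J M := fun q hq => by
    have hpq : ¬ p.asIdeal ≤ q.asIdeal := fun h => hq (bad_mono h hb)
    obtain ⟨s, hs, hsq⟩ := Set.not_subset.1 hpq
    have hsx : s • x ∈ badPart I J M := by
      rw [← Submodule.Quotient.mk_eq_zero]
      have h : s ∈ p.asIdeal := hs
      rw [hz] at h
      simpa [Submodule.mem_colon_singleton] using h
    obtain ⟨t, ht, htx⟩ := hsx q hq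
    exact ⟨t * s, q.isPrime.mul_notMem ht hsq, by rw [mul_smul, htx]⟩
  have hzero : (Submodule.Quotient.mk x : M ⧸ badPart I J M) = 0 := (Submodule.Quotient.mk_eq_zero _).2 hx
  apply p.isPrime.ne_top
  rw [hz, hzero, eq_top_iff]
  intro a _
  simp [Submodule.mem_colon_singleton]

/-- Conclusion of the stabilisation. -/
def Concl (I J : Ideal A) [DRing.HasDerivedCompletion I] (s : ℕ) (M : Type u) [AddCommGroup M]
    [Module A M] : Prop :=
  ∃ J₀ : Ideal A, J₀ ≤ J ∧ SameTrace I J J₀ ∧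
    ∀ (J' : Ideal A) [DRing.HasRgammaI J'], J' ≤ J₀ → SameTrace I J J' →
      ∀ i : ℤ, i ≤ s → Stable I J' M i

theorem concl_of_quotient (s : ℕ) (M : Type u) [AddCommGroup M] [Module A M] [Module.Finite A M]
    (h : Concl I J s (M ⧸ badPart I J M)) : Concl I J s M := by
  obtain ⟨J₂, -, hJ₂, h₂⟩ := h
  obtain ⟨J₁, hle₁, hJ₁, h₁⟩ := stable_of_support_bad (I := I) (J := J) (badPart I J M) fun p hp => by
    by_contra hb
    rw [Module.mem_support_iff'] at hp
    obtain ⟨x, hx⟩ := hp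
    obtain ⟨t, ht, htx⟩ := x.2 p hb
    exact hx t ht (Subtype.ext htx)
  refine ⟨J₁ * J₂, Ideal.mul_le_left.trans hle₁, sameTrace_mul hJ₁ hJ₂, fun J' _ hle hJ' i hi => ?_⟩
  exact stable_of_ses I J' M _ (h₁ J' (hle.trans Ideal.mul_le_left) hJ') i
    (h₂ J' (hle.trans Ideal.mul_le_right) hJ' _ (by omega))
    (h₂ J' (hle.trans Ideal.mul_le_right) hJ' _ hi)

theorem concl_zero (M : Type u) [AddCommGroup M] [Module A M] [Module.Finite A M]
    (hM : ∀ p : PrimeSpectrum A, p.asIdeal ∈ associatedPrimes A M → ¬ Bad I J p) :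
    Concl I J 0 M := by
  refine ⟨J, le_rfl, rfl, fun J' _ _ hJ' i hi => ?_⟩
  rcases eq_or_lt_of_le (show i ≤ 0 by simpa using hi) with rfl | hi
  · refine stable_zero I J' M fun J'' hle hrad x ⟨n, hn⟩ => ?_
    by_contra hx
    obtain ⟨P, hP, hle'⟩ := exists_le_isAssociatedPrime_of_isNoetherianRing A x hx
    refine hM ⟨P, hP.isPrime⟩ hP (Or.inr (Or.inl fun q hq hIq => ?_))
    have hJ'' : J'' ≤ q.asIdeal := by
      refine le_trans ?_ hq
      intro a ha
      refine hP.isPrime.mem_of_pow_mem n (hle' ?_)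
      rw [Submodule.mem_colon_singleton, Submodule.mem_bot]
      exact hn _ (Ideal.pow_mem_pow ha n)
    exact (sameTrace_iff.1 hJ' q hIq).1 (hrad.trans (q.isPrime.radical_le_iff.2 (sup_le hJ'' hIq)))
  · exact stable_of_neg I J' M i hi

/-- The induction. -/
theorem main (hdc : ∃ ω : Dual.D A, Dual.IsDualizing A ω)
    (Hyp : ℕ → ∀ (M : Type u) [AddCommGroup M] [Module A M] [Module.Finite A M], Prop)
    (hquot : ∀ (s : ℕ) (M M' : Type u) [AddCommGroup M] [Module A M] [Module.Finite A M]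
      [AddCommGroup M'] [Module A M'] [Module.Finite A M'],
      (∀ p : PrimeSpectrum A, ¬ Bad I J p → Nonempty (LocalizedModule p.asIdeal.primeCompl M
          ≃ₗ[Localization.AtPrime p.asIdeal] LocalizedModule p.asIdeal.primeCompl M')) →
      Hyp s M → Hyp s M')
    (hreg : ∀ (s : ℕ) (M : Type u) [AddCommGroup M] [Module A M] [Module.Finite A M] (f : A),
      IsSMulRegular M f → Hyp (s + 1) M → Hyp s (QuotSMulTop f M))
    (hideal : ∀ (s : ℕ) (M : Type u) [AddCommGroup M] [Module A M] [Module.Finite A M],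
      Hyp (s + 1) M → ∃ J₀ : Ideal A, SameTrace I J J₀ ∧ ∀ J' : Ideal A, J' ≤ J₀ → SameTrace I J J' →
        ∀ p q : PrimeSpectrum A, ¬ J₀ ≤ p.asIdeal → ¬ I ≤ p.asIdeal → J' ≤ q.asIdeal → p ≤ q →
          LCFin.Algebraize.Cond M (s + 1) p q)
    (hkill : ∀ (s : ℕ) (M : Type u) [AddCommGroup M] [Module A M] [Module.Finite A M],
      Hyp (s + 1) M → ∀ p : PrimeSpectrum A, p.asIdeal ∈ associatedPrimes A M → ¬ Bad I J p →
        ∀ [DRing.HasRgammaI J], ∃ f : A, f ∉ p.asIdeal ∧ ∀ i : ℤ, i ≤ (s + 1 : ℕ) → ∀ x : Dual.HD A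
          ((DRing.derivedCompletion I).obj ((DRing.RgammaI J).obj (Dual.inD A M))).obj i, f • x = 0) :
    ∀ (s : ℕ) (M : Type u) [AddCommGroup M] [Module A M] [Module.Finite A M], Hyp s M →
      Concl I J s M := by
  classical
  haveI := CompletionKill.hasRgammaI J
  intro s
  induction s with
  | zero =>
    intro M _ _ _ _
    exact concl_of_quotient 0 M (concl_zero _ fun p hp => not_bad_of_associated M p hp)
  | succ s ih =>
    intro M _ _ _ hyp
    refine concl_of_quotient (s + 1) M ?_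
    let N := M ⧸ badPart I J M
    have hN : Hyp (s + 1) N := hquot _ M N (fun p hp => nonempty_localized_equiv M p hp) hyp
    have hass : ∀ p : PrimeSpectrum A, p.asIdeal ∈ associatedPrimes A N → ¬ Bad I J p :=
      fun p hp => not_bad_of_associated M p hp
    obtain ⟨Ja, hJa, hcond⟩ := hideal s N hN
    -- the killing ideal
    let K : Ideal A :=
      { carrier := {a | ∀ i : ℤ, i ≤ (s + 1 : ℕ) → ∀ x : Dual.HD A
          ((DRing.derivedCompletion I).obj ((DRing.RgammaI J).obj (Dual.inD A N))).obj i, a • x = 0}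
        zero_mem' := fun i _ x => zero_smul _ x
        add_mem' := fun ha hb i hi x => by rw [add_smul, ha i hi x, hb i hi x, add_zero]
        smul_mem' := fun c a ha i hi x => by rw [smul_eq_mul, mul_smul, ha i hi x, smul_zero] }
    obtain ⟨f, hf, hfreg⟩ : ∃ f ∈ K * (Ja * I), IsSMulRegular N f := by
      rw [Depth.Assoc.exists_isSMulRegular_iff]
      intro P hP hle
      have := IsAssociatedPrime.isPrime hP
      let p : PrimeSpectrum A := ⟨P, this⟩
      have hb := hass p hP
      rcases this.mul_le.1 hle with h | h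
      · obtain ⟨a, ha, hak⟩ := hkill s N hN p hP hb
        exact ha (h hak)
      rcases this.mul_le.1 h with h | h
      · exact hb (Or.inr (Or.inl fun q hq hIq => (sameTrace_iff.1 hJa q hIq).1 (h.trans hq)))
      · exact hb (Or.inl h)
    obtain ⟨J₃, hle₃, hJ₃, h₃⟩ := ih (QuotSMulTop f N) (hreg s N f hfreg hN)
    refine ⟨J₃ * Ja, Ideal.mul_le_left.trans hle₃, sameTrace_mul hJ₃ hJa,
      fun J' _ hle hJ' i hi => ?_⟩
    obtain ⟨hr₁, hr₂⟩ := sameTrace_radical hJ'
    obtain ⟨e⟩ := nonempty_completion_iso I J J' hr₁ hr₂ (Dual.inD A N)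
    obtain ⟨k, hk⟩ := exists_pow_kill_RgammaI hdc J' (Ja * I) N (s + 1) (fun p q hp hq hpq =>
      hcond J' (hle.trans Ideal.mul_le_right) hJ' p q (fun h => hp (Ideal.mul_le_left.trans h))
        (fun h => hp (Ideal.mul_le_right.trans h)) hq hpq) (f := f) (Ideal.mul_le_right hf)
    refine stable_of_regular I J' N f hfreg (s + 1 : ℕ) (fun j hj =>
      h₃ J' (hle.trans Ideal.mul_le_left) hJ' j (by omega)) (fun j hj y => ?_)
      (fun j hj x => ⟨k, hk j hj x⟩) i hi
    apply (HDCongr e j).symm.injective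
    rw [map_smul, map_zero]
    exact (Ideal.mul_le_left hf : f ∈ K) j hj _

end Groth.Agent.Lib.RGamma.ComplMain
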