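import Groth.Agent.Lib.RGamma.RlimCompletion
import Groth.Agent.Lib.DMod.Basic
import Groth.Agent.Lib.DerCat.HProd
import Groth.Agent.Lib.DerCat.KInjExists
import Groth.Agent.Lib.Adic.Complete
import Groth.Agent.S7048
import Mathlib.RingTheory.Filtration

/-!
# `H⁰` of the derived completion of `RΓ_J` of a finite module over a complete ring
-/

universe u

open CategoryTheory CategoryTheory.Limits Opposite Pretriangulated
open Groth.Agent.Lib.RGamma.Nil

attribute [local instance] HasDerivedCategory.standard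

namespace Groth.Agent.Lib.RGamma.H0Completion

open RlimCompletion

variable {A : Type u} [CommRing A] (I J : Ideal A) [DRing.HasRgammaI J]
  (M : Type u) [AddCommGroup M] [Module A M]

theorem hasProduct (K : ℕ → Dual.D A) : HasProduct K :=
  have : (DerivedCategory.Qh (C := ModuleCat.{u} A)).IsLeftAdjoint :=
    DerivedOX.RightDerived.isLeftAdjoint_Qh DerCat.KInjExists.hasKInjRes
  have : HasLimitsOfShape (Discrete ℕ) (Dual.D A) :=
    DerCat.HProd.hasLimitsOfShape_derivedCategory
  inferInstance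

/-- An element as a map out of `A`. -/
noncomputable abbrev elt {N : Type u} [AddCommGroup N] [Module A N] (x : N) :
    ModuleCat.of A A ⟶ ModuleCat.of A N :=
  ModuleCat.ofHom (LinearMap.toSpanSingleton A N x)

variable [IsNoetherianRing A]

/-- An element of `H⁰` killed by a finitely generated ideal extends to the quotient. -/
lemma killed_of_hom {X : Dual.D A} (hX : X.IsGE 0) (P : Ideal A)
    (v : S.obj (ModuleCat.of A A) ⟶ X) (hv : ∀ a ∈ P, a • v = 0) :
    ∃ u : S.obj (ModuleCat.of A (A ⧸ P)) ⟶ X,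
      S.map (ModuleCat.ofHom (Submodule.mkQ P)) ≫ u = v := by
  classical
  obtain ⟨r, p, hp⟩ := Module.Finite.exists_fin' A P
  let incP : ModuleCat.of A P ⟶ ModuleCat.of A A := ModuleCat.ofHom (Submodule.subtype P)
  let T : ShortComplex (ModuleCat.{u} A) :=
    .mk (ModuleCat.ofHom (LinearMap.ker p).subtype) (ModuleCat.ofHom p) (by
      ext x; exact congrArg Subtype.val (LinearMap.mem_ker.1 x.2))
  have hT : T.ShortExact :=
    { exact := (ShortComplex.ShortExact.moduleCat_exact_iff_function_exact _).2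
        (LinearMap.exact_subtype_ker_map p)
      mono_f := (ModuleCat.mono_iff_injective _).2 Subtype.val_injective
      epi_g := (ModuleCat.epi_iff_surjective _).2 hp }
  have h1 : S.map (ModuleCat.ofHom p) ≫ S.map incP ≫ v = 0 := by
    have hsum : ModuleCat.ofHom p ≫ incP =
        ∑ i : Fin r, ((p (Pi.single i 1) : P) : A) •
          ModuleCat.ofHom (LinearMap.proj i : (Fin r → A) →ₗ[A] A) := by
      refine ModuleCat.hom_ext (LinearMap.ext fun x => ?_)
      simp only [ModuleCat.hom_sum, ModuleCat.hom_smul, LinearMap.coe_sum, Finset.sum_apply]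
      show ((p x : P) : A) = ∑ i, ((p (Pi.single i 1) : P) : A) * x i
      conv_lhs => rw [pi_eq_sum_univ' x, map_sum]
      rw [Submodule.coe_sum]
      refine Finset.sum_congr rfl fun i _ => ?_
      rw [map_smul, Submodule.coe_smul, smul_eq_mul, mul_comm]
    rw [← Category.assoc, ← Functor.map_comp, hsum, Functor.map_sum, Preadditive.sum_comp]
    refine Finset.sum_eq_zero fun i _ => ?_
    rw [Functor.map_smul, Linear.smul_comp, ← Linear.comp_smul,
      hv _ (p (Pi.single i 1)).2, comp_zero]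
  have h2 : S.map incP ≫ v = 0 := by
    obtain ⟨y, hy⟩ := Triangle.yoneda_exact₃ _ hT.singleTriangle_distinguished (S.map incP ≫ v) h1
    have : DerivedCategory.TStructure.t.IsLE (hT.singleTriangle.obj₁⟦(1 : ℤ)⟧) (-1) :=
      DerivedCategory.TStructure.t.isLE_shift (S.obj T.X₁) 0 1 (-1) (by omega)
    have hy0 : y = 0 := DerivedCategory.TStructure.t.zero y (-1) 0 (by omega)
    exact hy.trans ((congrArg (hT.singleTriangle.mor₃ ≫ ·) hy0).trans comp_zero)
  let T' : ShortComplex (ModuleCat.{u} A) :=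
    .mk incP (ModuleCat.ofHom (Submodule.mkQ P)) (by
      ext x
      exact (Submodule.Quotient.mk_eq_zero _).2 x.2)
  have hT' : T'.ShortExact :=
    { exact := (ShortComplex.ShortExact.moduleCat_exact_iff_function_exact _).2
        (LinearMap.exact_subtype_mkQ P)
      mono_f := (ModuleCat.mono_iff_injective _).2 Subtype.val_injective
      epi_g := (ModuleCat.epi_iff_surjective _).2 (Submodule.mkQ_surjective _) }
  obtain ⟨u, hu⟩ := Triangle.yoneda_exact₂ _ hT'.singleTriangle_distinguished v h2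
  exact ⟨u, hu.symm⟩

lemma isPowerTorsion_single (N : ModuleCat.{u} A) (hN : LocCoh.IsPowerTorsion J N) (i : ℤ) :
    LocCoh.IsPowerTorsion J (Dual.HD A (S.obj N) i) := by
  by_cases hi : i = 0
  · subst hi
    exact LocalCoh.isPowerTorsion_of_injective J (DMod.Basic.HDinD (A := A) N).toLinearMap
      (DMod.Basic.HDinD (A := A) N).injective hN
  · intro x
    have := DMod.Basic.subsingleton_HD_inD (A := A) N hi
    exact ⟨0, fun a _ => Subsingleton.elim _ _⟩

lemma isPowerTorsion_quotient (k : ℕ) : LocCoh.IsPowerTorsion J (ModuleCat.of A (A ⧸ J ^ k)) :=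
  fun x => by
    obtain ⟨b, rfl⟩ := Ideal.Quotient.mk_surjective x
    exact ⟨k, fun a ha => Ideal.Quotient.eq_zero_iff_mem.2 (Ideal.mul_mem_right b _ ha)⟩

lemma exists_pow_kills {X : Dual.D A} (v : S.obj (ModuleCat.of A A) ⟶ (G J).obj X) :
    ∃ k : ℕ, ∀ a ∈ J ^ k, a • v = 0 := by
  obtain ⟨k, hk⟩ := isPowerTorsion_HD_RgammaI J X 0 (DMod.Basic.homUnitEquiv _ v)
  exact ⟨k, fun a ha => (DMod.Basic.homUnitEquiv _).injective (by
    rw [map_smul, map_zero]
    exact hk a ha)⟩

/-- Elements of `H⁰(RΓ_J X)` embed into those of `H⁰(X)`. -/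
lemma injective_comp_ε {X : Dual.D A} (hX : ((G J).obj X).IsGE 0)
    (v : S.obj (ModuleCat.of A A) ⟶ (G J).obj X) (hv : v ≫ (DRing.RgammaIε J).app X = 0)
    (hX' : X.IsGE 0) : v = 0 := by
  obtain ⟨k, hk⟩ := exists_pow_kills J v
  obtain ⟨u, hu⟩ := killed_of_hom hX (J ^ k) v hk
  let T' : ShortComplex (ModuleCat.{u} A) :=
    .mk (ModuleCat.ofHom (Submodule.subtype (J ^ k)) : ModuleCat.of A (J ^ k : Ideal A) ⟶ _)
      (ModuleCat.ofHom (Submodule.mkQ (J ^ k))) (by
        ext x
        exact (Submodule.Quotient.mk_eq_zero _).2 x.2)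
  have hT' : T'.ShortExact :=
    { exact := (ShortComplex.ShortExact.moduleCat_exact_iff_function_exact _).2
        (LinearMap.exact_subtype_mkQ (J ^ k))
      mono_f := (ModuleCat.mono_iff_injective _).2 Subtype.val_injective
      epi_g := (ModuleCat.epi_iff_surjective _).2 (Submodule.mkQ_surjective _) }
  have h1 : u ≫ (DRing.RgammaIε J).app X = 0 := by
    have : DerivedCategory.TStructure.t.IsGE ((𝟭 (Dual.D A)).obj X) 0 := hX'
    obtain ⟨y, hy⟩ := Triangle.yoneda_exact₃ _ hT'.singleTriangle_distinguished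
      (u ≫ (DRing.RgammaIε J).app X) (by
        show S.map (ModuleCat.ofHom (Submodule.mkQ (J ^ k))) ≫ u ≫ _ = 0
        rw [← Category.assoc, hu, hv])
    have : DerivedCategory.TStructure.t.IsLE (hT'.singleTriangle.obj₁⟦(1 : ℤ)⟧) (-1) :=
      DerivedCategory.TStructure.t.isLE_shift (S.obj T'.X₁) 0 1 (-1) (by omega)
    have hy0 : y = 0 := DerivedCategory.TStructure.t.zero y (-1) 0 (by omega)
    exact hy.trans ((congrArg (hT'.singleTriangle.mor₃ ≫ ·) hy0).trans comp_zero)
  have hu0 : u = 0 := (bijective_comp_ε J X (isPowerTorsion_single J _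
    (isPowerTorsion_quotient J k))).1 (h1.trans zero_comp.symm)
  rw [← hu, hu0, comp_zero]

lemma exists_lift_elt {N : Type u} [AddCommGroup N] [Module A N] {x : N}
    (hx : x ∈ DRing.torsionSub J N) :
    ∃ v : S.obj (ModuleCat.of A A) ⟶ (G J).obj (S.obj (ModuleCat.of A N)),
      v ≫ (DRing.RgammaIε J).app _ = S.map (elt x) := by
  obtain ⟨k, hk⟩ := hx
  let f : ModuleCat.of A (A ⧸ J ^ k) ⟶ ModuleCat.of A N :=
    ModuleCat.ofHom (Submodule.liftQ (J ^ k) (LinearMap.toSpanSingleton A N x) fun a ha => hk a ha)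
  obtain ⟨u, hu⟩ := (bijective_comp_ε J (S.obj (ModuleCat.of A N)) (isPowerTorsion_single J _
    (isPowerTorsion_quotient J k))).2 (S.map f)
  refine ⟨S.map (ModuleCat.ofHom (Submodule.mkQ (J ^ k))) ≫ u, ?_⟩
  rw [Category.assoc, show u ≫ (DRing.RgammaIε J).app _ = S.map f from hu, ← Functor.map_comp]
  rfl

lemma mem_torsion_of_lift {N : Type u} [AddCommGroup N] [Module A N] {x : N}
    (v : S.obj (ModuleCat.of A A) ⟶ (G J).obj (S.obj (ModuleCat.of A N)))
    (hv : v ≫ (DRing.RgammaIε J).app _ = S.map (elt x)) : x ∈ DRing.torsionSub J N := by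
  obtain ⟨k, hk⟩ := exists_pow_kills J v
  refine ⟨k, fun a ha => ?_⟩
  have h : S.map (a • elt (A := A) x) = 0 := by
    rw [Functor.map_smul, ← hv, ← Linear.smul_comp, hk a ha, zero_comp]
  have h' : a • elt (A := A) x = 0 := S.map_injective (h.trans (Functor.map_zero _ _ _).symm)
  have h'' := LinearMap.congr_fun (congrArg ModuleCat.Hom.hom h') (1 : A)
  simpa [elt] using h''

omit [DRing.HasRgammaI J] in
/-- Elements which are torsion modulo all powers of `I`. -/
lemma torsion_iff [Module.Finite A M] (s : M) :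
    (∃ J' : Ideal A, J' ≤ J ∧ J ≤ (J' ⊔ I).radical ∧ s ∈ DRing.torsionSub J' M) ↔
      ∀ n, (sub I M n).mkQ s ∈ DRing.torsionSub J (M ⧸ sub I M n) := by
  constructor
  · rintro ⟨J', -, hrad, k, hk⟩ n
    obtain ⟨N, hN⟩ := Ideal.exists_pow_le_of_le_radical_of_fg hrad (IsNoetherian.noetherian J)
    refine ⟨N * (k + n), fun a ha => ?_⟩
    have ha' : a ∈ J' ^ k ⊔ I ^ n := by
      refine Ideal.sup_pow_add_le_pow_sup_pow ?_
      rw [pow_mul] at ha
      exact Ideal.pow_right_mono hN _ ha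
    obtain ⟨b, hb, c, hc, rfl⟩ := Submodule.mem_sup.1 ha'
    rw [← map_smul, add_smul, hk b hb, zero_add]
    exact (Submodule.Quotient.mk_eq_zero _).2 (Submodule.smul_mem_smul hc Submodule.mem_top)
  · intro h
    obtain ⟨k₀, hk₀⟩ := Ideal.exists_pow_inf_eq_pow_smul I (A ∙ s)
    obtain ⟨k, hk⟩ := h (k₀ + 1)
    let an : Ideal A := LinearMap.ker (LinearMap.toSpanSingleton A M s)
    have hle : J ^ k ≤ an ⊔ I := fun c hc => by
      have h1 : c • s ∈ sub I M (k₀ + 1) ⊓ (A ∙ s) :=
        ⟨(Submodule.Quotient.mk_eq_zero _).1 ((Submodule.Quotient.mk_smul _ c s).trans (hk c hc)),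
          Submodule.smul_mem _ c (Submodule.mem_span_singleton_self s)⟩
      rw [sub, hk₀ (k₀ + 1) (Nat.le_succ _)] at h1
      have h2 : c • s ∈ I • (A ∙ s) := by
        rw [Nat.add_sub_cancel_left, pow_one] at h1
        exact Submodule.smul_mono le_rfl inf_le_right h1
      obtain ⟨i, hi, hi'⟩ := Submodule.mem_smul_span_singleton.1 h2
      refine Submodule.mem_sup.2 ⟨c - i, ?_, i, hi, sub_add_cancel c i⟩
      simp [an, sub_smul, hi']
    refine ⟨J ⊓ an, inf_le_left, ?_, 1, fun a ha => ?_⟩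
    · refine fun c hc => ⟨k + 1, ?_⟩
      obtain ⟨b, hb, i, hi, e⟩ := Submodule.mem_sup.1 (hle (Ideal.pow_mem_pow hc k))
      rw [pow_succ, ← e, add_mul]
      exact add_mem (Ideal.mem_sup_left ⟨Ideal.mul_mem_left _ b hc, Ideal.mul_mem_right c _ hb⟩)
        (Ideal.mem_sup_right (Ideal.mul_mem_right c _ hi))
    · rw [pow_one] at ha
      simpa [an] using ha.2

variable [Module.Finite A M]

/-- The main theorem, on maps out of `A`. -/
theorem main [IsAdicComplete I A] [DRing.HasDerivedCompletion I] :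
    let ψ := (ObjectProperty.ι (DRing.IsDerivedComplete I)).map
      ((DRing.derivedCompletion I).map ((DRing.RgammaIε J).app (Dual.inD A M)))
    Function.Injective (fun v : S.obj (ModuleCat.of A A) ⟶ _ => v ≫ ψ) ∧
      Set.range (fun v : S.obj (ModuleCat.of A A) ⟶ _ => v ≫ ψ) =
        (fun s : M => S.map (elt s) ≫ DRing.toDerivedCompletion I (Dual.inD A M)) ''
          {s : M | ∃ J' : Ideal A, J' ≤ J ∧ J ≤ (J' ⊔ I).radical ∧ s ∈ DRing.torsionSub J' M} := by
  intro ψ
  have := hasProduct (K I J M)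
  obtain ⟨L, a, c, Φ, hT, hL, hgeL, hΦ, hP⟩ := exists_limit I J M
  let R := (G J).obj (Dual.inD A M)
  let Cd := ((DRing.derivedCompletion I).obj R).obj
  let η := DRing.toDerivedCompletion I R
  let ηM := DRing.toDerivedCompletion I (Dual.inD A M)
  let CM := ((DRing.derivedCompletion I).obj (Dual.inD A M)).obj
  have hMc : IsAdicComplete I M := Adic.Complete.isAdicComplete_of_finite
  have hMd : DRing.IsDerivedComplete I (Dual.inD A M) := Groth.Agent.S7048.result I M
  have hη := RlimCompletion.pBij_toDerivedCompletion I R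
  have hηM := RlimCompletion.pBij_toDerivedCompletion I (Dual.inD A M)
  -- `M` is its own completion
  obtain ⟨iM, hiM⟩ := (hηM _ hMd).2 (𝟙 _)
  have hiM : ηM ≫ iM = 𝟙 _ := hiM
  have hiM' : iM ≫ ηM = 𝟙 _ := (hηM CM ((DRing.derivedCompletion I).obj _).property).1 (by
    show ηM ≫ iM ≫ ηM = ηM ≫ 𝟙 _
    rw [← Category.assoc, hiM, Category.id_comp]
    exact (Category.comp_id ηM).symm)
  obtain ⟨f, hf⟩ := (hη L hL).2 Φ
  obtain ⟨g, hg⟩ := (hP Cd ((DRing.derivedCompletion I).obj R).property).2 η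
  have hf : η ≫ f = Φ := hf
  have hg : Φ ≫ g = η := hg
  have hgf : g ≫ f = 𝟙 L := (hP L hL).1 (by
    show Φ ≫ g ≫ f = Φ ≫ 𝟙 _
    rw [← Category.assoc, hg, hf]
    exact (Category.comp_id Φ).symm)
  have hfg : f ≫ g = 𝟙 Cd := (hη Cd ((DRing.derivedCompletion I).obj R).property).1 (by
    show η ≫ f ≫ g = η ≫ 𝟙 _
    rw [← Category.assoc, hf, hg]
    exact (Category.comp_id η).symm)
  obtain ⟨d, hd⟩ := (hP _ hMd).2 ((DRing.RgammaIε J).app (Dual.inD A M))
  have hd : Φ ≫ d = (DRing.RgammaIε J).app (Dual.inD A M) := hd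
  have hψ : ψ = f ≫ d ≫ ηM := (hη CM ((DRing.derivedCompletion I).obj _).property).1 (by
    show η ≫ ψ = η ≫ f ≫ d ≫ ηM
    rw [← Category.assoc η f, hf, ← Category.assoc, hd]
    exact ((DRing.derivedCompletionAdj I).unit.naturality
      ((DRing.RgammaIε J).app (Dual.inD A M))).symm)
  -- compatibility with the projections
  have hcomm : ∀ n, d ≫ S.map (ses I M n).g =
      a ≫ Pi.π (K I J M) n ≫ (DRing.RgammaIε J).app (S.obj (quotMod I M n)) := fun n => by
    have hc : DRing.IsDerivedComplete I (S.obj (quotMod I M n)) :=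
      isDerivedComplete_of_nilpotent fun x hx => ⟨n, by
        have h : x ^ n • 𝟙 (quotMod I M n) = 0 := by
          refine ModuleCat.hom_ext (Submodule.linearMap_qext _ (LinearMap.ext fun y => ?_))
          exact (Submodule.Quotient.mk_eq_zero _).2
            (Submodule.smul_mem_smul (Ideal.pow_mem_pow hx n) Submodule.mem_top)
        rw [← CategoryTheory.Functor.map_id, ← Functor.map_smul, h, Functor.map_zero]⟩
    refine (hP _ hc).1 ?_
    show Φ ≫ d ≫ S.map (ses I M n).g = Φ ≫ a ≫ Pi.π (K I J M) n ≫ _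
    rw [← Category.assoc, hd, ← Category.assoc a, ← Category.assoc, hΦ n]
    exact ((DRing.RgammaIε J).naturality (S.map (ses I M n).g)).symm
  have hge := fun n => isGE_K I J M n
  have hinjn : ∀ n (v : S.obj (ModuleCat.of A A) ⟶ K I J M n),
      v ≫ (DRing.RgammaIε J).app _ = 0 → v = 0 := fun n v hv =>
    injective_comp_ε J (hge n) v hv inferInstance
  have hlim : ∀ z : ∀ n, (S.obj (ModuleCat.of A A))⟦(1 : ℤ)⟧ ⟶ K I J M n,
      ∃ s : ∀ n, (S.obj (ModuleCat.of A A))⟦(1 : ℤ)⟧ ⟶ K I J M n,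
        ∀ n, s n - s (n + 1) ≫ t I J M (sub_le I M (Nat.le_succ n)) = z n := fun z => by
    have : DerivedCategory.TStructure.t.IsLE ((S.obj (ModuleCat.of A A))⟦(1 : ℤ)⟧) (-1) :=
      DerivedCategory.TStructure.t.isLE_shift (S.obj (ModuleCat.of A A)) 0 1 (-1) (by omega)
    exact ⟨fun _ => 0, fun n => by
      rw [DerivedCategory.TStructure.t.zero (z n) (-1) 0 (by omega), zero_comp, sub_zero]⟩
  have hd_inj : ∀ v : S.obj (ModuleCat.of A A) ⟶ L, v ≫ d = 0 → v = 0 := fun v hv =>
    Limit.eq_zero _ a c hT v (fun n => hinjn n _ (by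
      rw [Category.assoc, Category.assoc, ← hcomm n, ← Category.assoc, hv, zero_comp])) hlim
  have hd_range : ∀ s : M,
      (∃ v : S.obj (ModuleCat.of A A) ⟶ L, v ≫ d = S.map (elt s)) ↔
        ∀ n, (sub I M n).mkQ s ∈ DRing.torsionSub J (M ⧸ sub I M n) := fun s => by
    have hsn : ∀ n, elt s ≫ (ses I M n).g = elt ((sub I M n).mkQ s) := fun n =>
      ModuleCat.hom_ext (LinearMap.ext_ring (by simp [elt]))
    constructor
    · rintro ⟨v, hv⟩ n
      refine mem_torsion_of_lift J (v ≫ a ≫ Pi.π (K I J M) n) ?_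
      rw [Category.assoc, Category.assoc, ← hcomm n, ← Category.assoc, hv, ← Functor.map_comp, hsn]
    · intro h
      choose x hx using fun n => exists_lift_elt J (h n)
      have hxt : ∀ n, x (n + 1) ≫ t I J M (sub_le I M (Nat.le_succ n)) = x n := fun n => by
        refine sub_eq_zero.1 (hinjn n _ ?_)
        rw [Preadditive.sub_comp, Category.assoc, sub_eq_zero, hx n]
        refine (congrArg (x (n + 1) ≫ ·)
          ((DRing.RgammaIε J).naturality (S.map (trans I M (sub_le I M (Nat.le_succ n)))))).trans ?_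
        rw [← Category.assoc]
        refine (congrArg (· ≫ S.map (trans I M (sub_le I M (Nat.le_succ n)))) (hx (n + 1))).trans ?_
        rw [← Functor.map_comp]
        exact congrArg S.map (ModuleCat.hom_ext (LinearMap.ext_ring (by simp [elt])))
      obtain ⟨v, hv⟩ := Limit.exists_lift _ a c hT x hxt
      refine ⟨v, ?_⟩
      obtain ⟨φ, hφ⟩ := S.map_surjective (v ≫ d)
      rw [← hφ]
      refine congrArg S.map (ModuleCat.hom_ext (LinearMap.ext_ring ?_))
      refine sub_eq_zero.1 (IsHausdorff.haus hMc.toIsHausdorff _ fun n => SModEq.zero.2 ?_)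
      have h1 : S.map (φ ≫ (ses I M n).g) = S.map (elt ((sub I M n).mkQ s)) := by
        rw [Functor.map_comp, hφ, Category.assoc, hcomm n, ← hx n, ← hv n, Category.assoc,
          Category.assoc]
      have h2 := congr($(S.map_injective h1) (1 : A))
      exact (Submodule.Quotient.eq _).1 h2
  refine ⟨fun v v' hvv => sub_eq_zero.1 ?_, Set.ext fun y => ⟨?_, ?_⟩⟩
  · have h0 : (v - v') ≫ f ≫ d = 0 := by
      have h : v ≫ ψ = v' ≫ ψ := hvv
      rw [hψ] at h
      have h' : (v - v') ≫ f ≫ d ≫ ηM = 0 := by rw [Preadditive.sub_comp, h, sub_self]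
      have h'' := congrArg (· ≫ iM) h'
      simpa [Category.assoc, hiM] using h''
    have h1 := hd_inj ((v - v') ≫ f) ((Category.assoc _ _ _).trans h0)
    have h2 := congrArg (· ≫ g) h1
    simp only [Category.assoc, hfg, zero_comp] at h2
    exact (Category.comp_id _).symm.trans h2
  · rintro ⟨v, rfl⟩
    obtain ⟨φ, hφ⟩ := S.map_surjective ((v ≫ f) ≫ d)
    have hφ' : φ = elt (φ.hom (1 : A)) := ModuleCat.hom_ext (LinearMap.ext_ring (by simp [elt]))
    refine ⟨φ.hom (1 : A), (torsion_iff I J M _).2 ((hd_range _).1 ⟨v ≫ f, ?_⟩), ?_⟩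
    · rw [← hφ, ← hφ']
    · show S.map (elt _) ≫ ηM = v ≫ ψ
      rw [← hφ', hφ, hψ]
      simp only [Category.assoc]
  · rintro ⟨s, hs, rfl⟩
    obtain ⟨v, hv⟩ := (hd_range s).2 ((torsion_iff I J M s).1 hs)
    refine ⟨v ≫ g, ?_⟩
    show (v ≫ g) ≫ ψ = S.map (elt s) ≫ ηM
    rw [hψ, Category.assoc, ← Category.assoc g, hgf, Category.id_comp, ← Category.assoc, hv]

/-- The main theorem, in the form of the statement. -/
theorem main_HD [IsAdicComplete I A] [DRing.HasDerivedCompletion I] :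
    let ψ := (ObjectProperty.ι (DRing.IsDerivedComplete I)).map
      ((DRing.derivedCompletion I).map ((DRing.RgammaIε J).app (Dual.inD A M)))
    let H := DerivedCategory.homologyFunctor (ModuleCat.{u} A) 0
    Function.Injective (H.map ψ).hom ∧ Set.range (H.map ψ).hom =
      (fun s : M => (H.map (DRing.toDerivedCompletion I (Dual.inD A M))).hom
        (((DerivedCategory.singleFunctorCompHomologyFunctorIso (ModuleCat.{u} A) 0).inv.app
          (ModuleCat.of A M)).hom s)) ''
        {s : M | ∃ J' : Ideal A, J' ≤ J ∧ J ≤ (J' ⊔ I).radical ∧ s ∈ DRing.torsionSub J' M} := by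
  intro ψ H
  obtain ⟨hinj, hrange⟩ := main I J M
  have hnat : ∀ {X Y : Dual.D A} (v : S.obj (ModuleCat.of A A) ⟶ X) (φ : X ⟶ Y),
      DMod.Basic.homUnitEquiv Y (v ≫ φ) = (H.map φ).hom (DMod.Basic.homUnitEquiv X v) := by
    intro X Y v φ
    exact congr($(H.map_comp v φ) ((DMod.Basic.HDinD (A := A) A).symm (1 : A)))
  have hs : ∀ s : M, DMod.Basic.homUnitEquiv (Dual.inD A M) (S.map (elt s)) =
      ((DerivedCategory.singleFunctorCompHomologyFunctorIso (ModuleCat.{u} A) 0).inv.app
        (ModuleCat.of A M)).hom s := fun s => by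
    have h := congr($((DerivedCategory.singleFunctorCompHomologyFunctorIso
      (ModuleCat.{u} A) 0).inv.naturality (elt s)) (1 : A))
    refine Eq.trans ?_ (h.symm.trans (congrArg ((DerivedCategory.singleFunctorCompHomologyFunctorIso
      (ModuleCat.{u} A) 0).inv.app (ModuleCat.of A M)).hom
      (LinearMap.toSpanSingleton_apply_one A M s)))
    rfl
  refine ⟨fun x y hxy => ?_, Set.ext fun y => ⟨?_, ?_⟩⟩
  · obtain ⟨v, rfl⟩ := (DMod.Basic.homUnitEquiv _).surjective x
    obtain ⟨w, rfl⟩ := (DMod.Basic.homUnitEquiv _).surjective y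
    rw [← hnat, ← hnat] at hxy
    exact congrArg _ (hinj ((DMod.Basic.homUnitEquiv _).injective hxy))
  · rintro ⟨x, rfl⟩
    obtain ⟨v, rfl⟩ := (DMod.Basic.homUnitEquiv _).surjective x
    obtain ⟨s, hs', e⟩ := (Set.ext_iff.1 hrange (v ≫ ψ)).1 ⟨v, rfl⟩
    refine ⟨s, hs', ?_⟩
    rw [← hnat]
    show (H.map _).hom _ = _
    rw [← hs, ← hnat]
    exact congrArg _ e
  · rintro ⟨s, hs', rfl⟩
    obtain ⟨v, hv⟩ : S.map (elt s) ≫ DRing.toDerivedCompletion I (Dual.inD A M) ∈
        Set.range fun v => v ≫ ψ := (Set.ext_iff.1 hrange _).2 ⟨s, hs', rfl⟩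
    refine ⟨DMod.Basic.homUnitEquiv _ v, ?_⟩
    show _ = (H.map _).hom _
    rw [← hnat, ← hs, ← hnat]
    exact congrArg _ hv

end Groth.Agent.Lib.RGamma.H0Completion
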