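import Groth.Prelude.Def_DCoh2
import Mathlib.Algebra.BigOperators.Intervals

/-!
# Maps into a derived limit of a system which is essentially constant on morphisms
-/

universe w v u

open CategoryTheory CategoryTheory.Limits Pretriangulated

namespace Groth.Agent.Lib.RGamma.Limit

section Abstract

variable {H : Type w} [AddCommGroup H] {F : ℕ → Type w} [∀ n, AddCommGroup (F n)]
  (T : ∀ {n m : ℕ}, n ≤ m → F m →+ F n) (π : ∀ n, H →+ F n)

/-- Hypotheses on a system. -/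
structure EssConst : Prop where
  refl : ∀ (n : ℕ) (x : F n), T (le_refl n) x = x
  comp : ∀ {n m k : ℕ} (h : n ≤ m) (h' : m ≤ k) (x : F k), T h (T h' x) = T (h.trans h') x
  proj : ∀ {n m : ℕ} (h : n ≤ m) (x : H), T h (π m x) = π n x
  inj : ∃ N, ∀ x : H, π N x = 0 → x = 0
  ess : ∀ n, ∃ (m : ℕ) (h : n ≤ m), ∀ x : F m, ∃ y : H, π n y = T h x

variable {T π}

theorem EssConst.compat (h : EssConst T π) (x : ∀ n, F n)
    (hx : ∀ n, T (Nat.le_succ n) (x (n + 1)) = x n) : ∃! y : H, ∀ n, π n y = x n := by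
  have hx' : ∀ {n m : ℕ} (hnm : n ≤ m), T hnm (x m) = x n := by
    intro n m hnm
    induction m, hnm using Nat.le_induction with
    | base => exact h.refl n (x n)
    | succ m hnm ih => rw [← h.comp hnm (Nat.le_succ m), hx m, ih]
  have hlift : ∀ n, ∃ y : H, π n y = x n := fun n => by
    obtain ⟨m, hnm, hm⟩ := h.ess n
    obtain ⟨y, hy⟩ := hm (x m)
    exact ⟨y, by rw [hy, hx' hnm]⟩
  obtain ⟨N, hN⟩ := h.inj
  obtain ⟨y, hy⟩ := hlift N
  refine ⟨y, fun n => ?_, fun y' hy' => sub_eq_zero.1 (hN _ (by rw [map_sub, hy' N, hy, sub_self]))⟩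
  obtain ⟨y', hy'⟩ := hlift (max n N)
  have hNy : π N y' = x N := by
    rw [← h.proj (le_max_right n N) y', hy', hx']
  have : y' = y := sub_eq_zero.1 (hN _ (by rw [map_sub, hNy, hy, sub_self]))
  rw [← this, ← h.proj (le_max_left n N) y', hy', hx']

theorem EssConst.surjective_diff (h : EssConst T π) (z : ∀ n, F n) :
    ∃ s : ∀ n, F n, ∀ n, s n - T (Nat.le_succ n) (s (n + 1)) = z n := by
  classical
  choose m hnm hm using h.ess
  let τ : ∀ n, ℕ → F n := fun n j => if hj : n ≤ j then T hj (z j) else 0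
  let N : ℕ → ℕ := fun n => n + 1 + ∑ i ∈ Finset.range (n + 1), m i
  have hN : ∀ n, N n ≤ N (n + 1) := fun n => by
    simp only [N, Finset.sum_range_succ _ (n + 1)]
    omega
  have hmN : ∀ n, m n ≤ N n := fun n => by
    have := Finset.single_le_sum (fun i _ => Nat.zero_le (m i)) (Finset.self_mem_range_succ n)
    simp only [N]
    omega
  let s₀ : ∀ n, F n := fun n => ∑ j ∈ Finset.Ico n (N n), τ n j
  have hτ : ∀ n j, n + 1 ≤ j → T (Nat.le_succ n) (τ (n + 1) j) = τ n j := fun n j hj => by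
    simp only [τ, dif_pos hj, dif_pos (Nat.le_of_succ_le hj), h.comp]
  have he : ∀ n, ∃ y : H, π n y = z n - (s₀ n - T (Nat.le_succ n) (s₀ (n + 1))) := fun n => by
    have h1 : T (Nat.le_succ n) (s₀ (n + 1)) = ∑ j ∈ Finset.Ico (n + 1) (N (n + 1)), τ n j := by
      rw [map_sum]
      exact Finset.sum_congr rfl fun j hj => hτ n j (Finset.mem_Ico.1 hj).1
    have hn : n < N n := by simp only [N]; omega
    have h2 : s₀ n = z n + ∑ j ∈ Finset.Ico (n + 1) (N n), τ n j := by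
      simp only [s₀]
      rw [Finset.sum_eq_sum_Ico_succ_bot hn]
      simp only [τ, dif_pos (le_refl n), h.refl]
    have h3 : z n - (s₀ n - T (Nat.le_succ n) (s₀ (n + 1))) =
        ∑ j ∈ Finset.Ico (N n) (N (n + 1)), τ n j := by
      rw [h1, h2, ← Finset.sum_Ico_consecutive _ (Nat.succ_le_of_lt hn) (hN n)]
      abel
    have h4 : ∀ j ∈ Finset.Ico (N n) (N (n + 1)), ∃ y : H, π n y = τ n j := fun j hj => by
      have hj' : m n ≤ j := (hmN n).trans (Finset.mem_Ico.1 hj).1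
      obtain ⟨y, hy⟩ := hm n (T hj' (z j))
      exact ⟨y, by rw [hy, h.comp]; simp only [τ, dif_pos ((hnm n).trans hj')]⟩
    choose y hy using h4
    refine ⟨∑ j ∈ (Finset.Ico (N n) (N (n + 1))).attach, y j.1 j.2, ?_⟩
    rw [h3, map_sum, ← Finset.sum_attach (Finset.Ico (N n) (N (n + 1))) (τ n)]
    exact Finset.sum_congr rfl fun j _ => hy j.1 j.2
  choose y hy using he
  let u : ℕ → H := fun n => Nat.rec 0 (fun k v => v - y k) n
  refine ⟨fun n => s₀ n + π n (u n), fun n => ?_⟩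
  rw [map_add, h.proj]
  show s₀ n + π n (u n) - (_ + π n (u n - y n)) = z n
  rw [map_sub, hy n]
  abel

end Abstract

section Triangle

variable {D : Type u} [Category.{v} D] [Preadditive D] [HasZeroObject D] [HasShift D ℤ]
  [∀ n : ℤ, (shiftFunctor D n).Additive] [Pretriangulated D]
  {K : ℕ → D} (t : ∀ n, K (n + 1) ⟶ K n) [HasProduct K]

/-- The difference map. -/
noncomputable abbrev diff : ∏ᶜ K ⟶ ∏ᶜ K := Pi.lift fun n => Pi.π K n - Pi.π K (n + 1) ≫ t n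

lemma comp_diff_π {X : D} (x : X ⟶ ∏ᶜ K) (n : ℕ) :
    (x ≫ diff t) ≫ Pi.π K n = x ≫ Pi.π K n - (x ≫ Pi.π K (n + 1)) ≫ t n := by
  rw [Category.assoc, Pi.lift_π, Preadditive.comp_sub, Category.assoc]

variable {L : D} (a : L ⟶ ∏ᶜ K) (c : ∏ᶜ K ⟶ L⟦(1 : ℤ)⟧)
  (hT : Triangle.mk a (diff t) c ∈ distTriang D)

include hT

/-- The projections are compatible with the transition maps. -/
lemma compat (n : ℕ) : (a ≫ Pi.π K (n + 1)) ≫ t n = a ≫ Pi.π K n := by
  have h : a ≫ diff t = 0 := comp_distTriang_mor_zero₁₂ _ hT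
  have h' := comp_diff_π t a n
  rw [h, zero_comp] at h'
  exact (sub_eq_zero.1 h'.symm).symm

/-- Two maps into the limit with equal projections agree when `lim¹` vanishes. -/
theorem eq_zero {X : D} (v : X ⟶ L) (hv : ∀ n, v ≫ a ≫ Pi.π K n = 0)
    (hs : ∀ z : ∀ n, X⟦(1 : ℤ)⟧ ⟶ K n,
      ∃ s : ∀ n, X⟦(1 : ℤ)⟧ ⟶ K n, ∀ n, s n - s (n + 1) ≫ t n = z n) : v = 0 := by
  have hva : v ≫ a = 0 := Pi.hom_ext _ _ fun n => by rw [Category.assoc, hv n, zero_comp]
  obtain ⟨g, hg⟩ : ∃ g : X⟦(1 : ℤ)⟧ ⟶ ∏ᶜ K, v⟦(1 : ℤ)⟧' = g ≫ c :=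
    Triangle.coyoneda_exact₁ _ hT (v⟦(1 : ℤ)⟧') (by
      show v⟦(1 : ℤ)⟧' ≫ a⟦(1 : ℤ)⟧' = 0
      rw [← Functor.map_comp, hva, Functor.map_zero])
  obtain ⟨s, hs'⟩ := hs fun n => g ≫ Pi.π K n
  have : g = Pi.lift s ≫ diff t := Pi.hom_ext _ _ fun n => by
    rw [comp_diff_π, Pi.lift_π, Pi.lift_π]
    exact (hs' n).symm
  have h0 : v⟦(1 : ℤ)⟧' = 0 := by
    refine hg.trans ?_
    show g ≫ c = 0
    rw [this, Category.assoc, show diff t ≫ c = 0 from comp_distTriang_mor_zero₂₃ _ hT, comp_zero]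
  exact (shiftFunctor D (1 : ℤ)).map_injective (h0.trans (Functor.map_zero _ _ _).symm)

/-- No maps into the limit when there are none into the members. -/
theorem eq_zero_of_forall {X : D} (h₀ : ∀ (n : ℕ) (u : X ⟶ K n), u = 0)
    (h₁ : ∀ (n : ℕ) (u : X⟦(1 : ℤ)⟧ ⟶ K n), u = 0) (v : X ⟶ L) : v = 0 :=
  eq_zero t a c hT v (fun n => h₀ n _) fun z => ⟨fun _ => 0, fun n => by
    rw [h₁ n (z n), zero_comp, sub_zero]⟩

/-- A compatible family of maps lifts to the limit. -/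
theorem exists_lift {X : D} (x : ∀ n, X ⟶ K n) (hx : ∀ n, x (n + 1) ≫ t n = x n) :
    ∃ v : X ⟶ L, ∀ n, v ≫ a ≫ Pi.π K n = x n := by
  obtain ⟨v, hv⟩ : ∃ v : X ⟶ L, Pi.lift x = v ≫ a :=
    Triangle.coyoneda_exact₂ _ hT (Pi.lift x) (Pi.hom_ext _ _ fun n => by
      show (Pi.lift x ≫ diff t) ≫ Pi.π K n = 0 ≫ Pi.π K n
      rw [comp_diff_π, Pi.lift_π, Pi.lift_π, hx n, sub_self, zero_comp])
  refine ⟨v, fun n => ?_⟩
  rw [← Category.assoc, show v ≫ a = Pi.lift x from hv.symm, Pi.lift_π]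

end Triangle

end Groth.Agent.Lib.RGamma.Limit
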