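import Groth.Agent.Lib.RGamma.Nil
import Groth.Agent.Lib.RGamma.RlimLimit
import Groth.Agent.Lib.DR.Basic

/-!
# The derived completion of `RΓ_J` of a finite module as a derived limit
-/

universe u

open CategoryTheory CategoryTheory.Limits Opposite Pretriangulated
open Groth.Agent.Lib.RGamma.Nil

attribute [local instance] HasDerivedCategory.standard

namespace Groth.Agent.Lib.RGamma.RlimCompletion

variable {A : Type u} [CommRing A] (I J : Ideal A) [DRing.HasRgammaI J]
  (M : Type u) [AddCommGroup M] [Module A M]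

/-- Hom-sets out of a shift. -/
noncomputable def shiftHom (Y Z : Dual.D A) (j : ℤ) :
    (Y⟦j⟧ ⟶ Z) ≃ (Y ⟶ Z⟦-j⟧) :=
  (shiftEquiv (Dual.D A) j).toAdjunction.homEquiv Y Z

lemma nilIdeal_shift {W : Dual.D A} {I : Ideal A} (h : I ≤ nilIdeal W) (q : ℤ) :
    I ≤ nilIdeal (W⟦q⟧) := fun a ha => by
  obtain ⟨N, hN⟩ := h ha
  exact ⟨N, by rw [← CategoryTheory.Functor.map_id, ← Functor.map_smul, hN, Functor.map_zero]⟩

/-- `M / I^n M`. -/
noncomputable abbrev quotMod (n : ℕ) : ModuleCat.{u} A := ModuleCat.of A (M ⧸ sub I M n)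

/-- Transition. -/
noncomputable abbrev trans {n m : ℕ} (h : sub I M m ≤ sub I M n) : quotMod I M m ⟶ quotMod I M n :=
  ModuleCat.ofHom (Submodule.mapQ (sub I M m) (sub I M n) LinearMap.id h)

/-- The short exact sequence `0 → I^n M → M → M/I^n M → 0`. -/
noncomputable abbrev ses (n : ℕ) : ShortComplex (ModuleCat.{u} A) :=
  .mk (ModuleCat.ofHom (sub I M n).subtype)
    (ModuleCat.ofHom (sub I M n).mkQ : ModuleCat.of A M ⟶ quotMod I M n) (by
      ext x
      exact (Submodule.Quotient.mk_eq_zero _).2 x.2)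

lemma ses_shortExact (n : ℕ) : (ses I M n).ShortExact where
  exact := (ShortComplex.ShortExact.moduleCat_exact_iff_function_exact _).2
    (LinearMap.exact_subtype_mkQ (sub I M n))
  mono_f := (ModuleCat.mono_iff_injective _).2 Subtype.val_injective
  epi_g := (ModuleCat.epi_iff_surjective _).2 (Submodule.mkQ_surjective _)

/-- The members of the system. -/
noncomputable abbrev K (n : ℕ) : Dual.D A := (G J).obj (S.obj (quotMod I M n))

/-- The transition maps. -/
noncomputable abbrev t {n m : ℕ} (h : sub I M m ≤ sub I M n) : K I J M m ⟶ K I J M n :=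
  (G J).map (S.map (trans I M h))

/-- The projections. -/
noncomputable abbrev pr (n : ℕ) : (G J).obj (S.obj (ModuleCat.of A M)) ⟶ K I J M n :=
  (G J).map (S.map (ses I M n).g)

variable [IsNoetherianRing A]

lemma kills₀ {W : Dual.D A} {X Y : ModuleCat.{u} A} {φ : X ⟶ Y} (h : Kills J W φ)
    (v : W ⟶ (G J).obj (S.obj X)) : v ≫ (G J).map (S.map φ) = 0 := by
  let e := shiftFunctorZero (Dual.D A) ℤ
  have h0 := h 0 (v ≫ (G J).map (e.inv.app (S.obj X)))
  rw [Category.assoc, ← Functor.map_comp, ← e.inv.naturality (S.map φ), Functor.map_comp,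
    ← Category.assoc] at h0
  exact (cancel_mono ((G J).map (e.inv.app (S.obj Y)))).1 (h0.trans zero_comp.symm)

variable [Module.Finite A M]

lemma essConst {W : Dual.D A} (hW : I ≤ nilIdeal W) :
    Limit.EssConst
      (fun {n m : ℕ} (h : n ≤ m) => Preadditive.rightComp W (t I J M (sub_le I M h)))
      (fun n => Preadditive.rightComp W (pr I J M n)) where
  refl n x := by
    have : trans I M (sub_le I M (le_refl n)) = 𝟙 _ :=
      ModuleCat.hom_ext (Submodule.linearMap_qext _ rfl)
    show x ≫ t I J M _ = x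
    rw [t, this, CategoryTheory.Functor.map_id, CategoryTheory.Functor.map_id, Category.comp_id]
  comp {n m k} h h' x := by
    show (x ≫ t I J M _) ≫ t I J M _ = x ≫ t I J M _
    rw [Category.assoc, ← Functor.map_comp, ← Functor.map_comp]
    exact congrArg (fun φ => x ≫ (G J).map (S.map φ))
      (ModuleCat.hom_ext (Submodule.linearMap_qext _ rfl))
  proj {n m} h x := by
    show (x ≫ pr I J M m) ≫ t I J M _ = x ≫ pr I J M n
    rw [Category.assoc, ← Functor.map_comp, ← Functor.map_comp]
    rfl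
  inj := by
    obtain ⟨N, hle, -, hN⟩ := proZero hW M 0 (J := J)
    refine ⟨N, fun v hv => ?_⟩
    obtain ⟨w, hw⟩ : ∃ w : W ⟶ (G J).obj (S.obj (ses I M N).X₁),
        w ≫ (G J).map (S.map (ses I M N).f) = v :=
      exact_middle J _ (ses_shortExact I M N).singleTriangle_distinguished v hv
    have hf : (ses I M N).f = incl hle ≫ (ses I M 0).f := rfl
    rw [← hw, hf]
    exact kills₀ J (hN.comp_right _) w
  ess n := by
    obtain ⟨m, hle, hnm, hm⟩ := proZero hW M n (J := J)
    refine ⟨m, hnm, fun x => ?_⟩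
    let f : ses I M m ⟶ ses I M n :=
      ShortComplex.homMk (incl hle) (𝟙 _) (trans I M (sub_le I M hnm)) rfl rfl
    have hc : (ses_shortExact I M m).singleδ ≫ (S.map (incl hle))⟦(1 : ℤ)⟧' =
        S.map (trans I M (sub_le I M hnm)) ≫ (ses_shortExact I M n).singleδ :=
      (ShortComplex.ShortExact.singleTriangle.map (ses_shortExact I M m) (ses_shortExact I M n)
        f).comm₃
    obtain ⟨y, hy⟩ : ∃ y : W ⟶ (G J).obj (S.obj (ModuleCat.of A M)),
        y ≫ pr I J M n = x ≫ t I J M (sub_le I M hnm) :=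
      exact_middle J _ (rot_of_distTriang _ (ses_shortExact I M n).singleTriangle_distinguished)
        (x ≫ t I J M (sub_le I M hnm)) (by
          show (x ≫ t I J M (sub_le I M hnm)) ≫ (G J).map (ses_shortExact I M n).singleδ = 0
          rw [Category.assoc, ← Functor.map_comp, ← hc, Functor.map_comp, ← Category.assoc]
          exact hm 1 _)
    exact ⟨y, hy⟩

lemma nilIdeal_K (n : ℕ) : I ≤ nilIdeal (K I J M n) := fun a ha => by
  refine ⟨n, ?_⟩
  have h : a ^ n • 𝟙 (quotMod I M n) = 0 := by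
    refine ModuleCat.hom_ext (Submodule.linearMap_qext _ (LinearMap.ext fun x => ?_))
    exact (Submodule.Quotient.mk_eq_zero _).2
      (Submodule.smul_mem_smul (Ideal.pow_mem_pow ha n) Submodule.mem_top)
  have h' : (G J).map (S.map (a ^ n • 𝟙 (quotMod I M n))) = 0 := by
    rw [h, Functor.map_zero, G_map_zero]
  rwa [Functor.map_smul, G_map_smul, CategoryTheory.Functor.map_id,
    CategoryTheory.Functor.map_id] at h'

lemma isGE_K (n : ℕ) : (K I J M n).IsGE 0 := by
  refine (DerivedCategory.isGE_iff _ _).2 fun q hq => ?_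
  obtain ⟨e⟩ := nonempty_HD_RgammaI_equiv J (S.obj (quotMod I M n)) q
  have : Subsingleton (Dual2.HDI A J (S.obj (quotMod I M n)) q) := by
    refine subsingleton_of_forall_eq 0 fun a => ?_
    obtain ⟨j, g, rfl⟩ := colimit_rep _ a
    have : ((S.obj (quotMod I M n))⟦q⟧).IsGE (0 - q) :=
      DerivedCategory.TStructure.t.isGE_shift (S.obj (quotMod I M n)) 0 q (0 - q) (by omega)
    have hg : g = 0 := DR.Basic.hom_eq_zero_of_isLE_of_isGE g (a := 0) (b := 0 - q) (by omega)
      (inferInstanceAs (((DerivedCategory.singleFunctor (ModuleCat.{u} A) 0).obj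
        (ModuleCat.of A (A ⧸ J ^ j.unop.unop))).IsLE 0)) this
    exact (congrArg _ hg).trans (map_zero _)
  have := e.toEquiv.subsingleton
  exact ModuleCat.isZero_of_subsingleton _

lemma pBij_toDerivedCompletion [DRing.HasDerivedCompletion I] (X : Dual.D A) :
    PBij I (DRing.toDerivedCompletion I X) := fun Y hY => by
  let Y' : DRing.DComp I := ⟨Y, hY⟩
  have h := ((DRing.derivedCompletionAdj I).homEquiv X Y').bijective
  refine ⟨fun a b hab => ?_, fun φ => ?_⟩
  · have h' := @h.1 (ObjectProperty.homMk a) (ObjectProperty.homMk b) (by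
      rw [Adjunction.homEquiv_unit, Adjunction.homEquiv_unit]; exact hab)
    exact congrArg (fun x : _ ⟶ Y' => x.hom) h'
  · obtain ⟨x, hx⟩ := h.2 φ
    rw [Adjunction.homEquiv_unit] at hx
    exact ⟨x.hom, hx⟩

omit [DRing.HasRgammaI J] in
/-- An object with no maps from the objects killed by powers of `I` is orthogonal to the complete
ones. -/
theorem perp_of_nil {C : Dual.D A}
    (h : ∀ W : Dual.D A, I ≤ nilIdeal W → ∀ φ : W ⟶ C, φ = 0) : Perp I C := by
  intro Y hY φ
  obtain ⟨R, hR, hinj, ⟨e⟩⟩ := exists_rep C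
  have h0 : ∀ q, Subsingleton (Dual2.HDI A I C q) := fun q => by
    refine subsingleton_of_forall_eq 0 fun a => ?_
    obtain ⟨j, g, rfl⟩ := colimit_rep _ a
    have hq : I ≤ nilIdeal ((DerivedCategory.singleFunctor (ModuleCat.{u} A) 0).obj
        (quo I j.unop.unop)) := fun a ha => by
      refine ⟨j.unop.unop, ?_⟩
      have hM : a ^ j.unop.unop • 𝟙 (quo I j.unop.unop) = 0 := by
        refine quo_hom_ext I ?_
        show a ^ j.unop.unop • (Ideal.Quotient.mk (I ^ j.unop.unop) 1) = 0
        rw [Algebra.smul_def, Ideal.Quotient.algebraMap_eq,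
          Ideal.Quotient.eq_zero_iff_mem.2 (Ideal.pow_mem_pow ha _), zero_mul]
      have h := congrArg (DerivedCategory.singleFunctor (ModuleCat.{u} A) 0).map hM
      rwa [Functor.map_smul, CategoryTheory.Functor.map_id, Functor.map_zero] at h
    have hsub : ∀ (W : Dual.D A), I ≤ nilIdeal W → ∀ u : W ⟶ C⟦q⟧, u = 0 := fun W hW u => by
      let e := (shiftEquiv' (Dual.D A) (-q) q (by omega)).toAdjunction.homEquiv W C
      have : Subsingleton (W⟦-q⟧ ⟶ C) :=
        subsingleton_of_forall_eq 0 (h _ (nilIdeal_shift hW (-q)))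
      exact @Subsingleton.elim _ (@Equiv.subsingleton _ _ e.symm this) _ _
    have hg : g = 0 := hsub _ hq g
    rw [hg, map_zero]
  obtain ⟨l, hl⟩ := exists_ide_eq (IsNoetherian.noetherian I)
  have hz : IsZero (DerivedCategory.Q.obj ((gam I).obj R)) :=
    isZero_of_subsingleton_HD fun q => by
      obtain ⟨e₁⟩ := nonempty_HDI_equiv_homology I R e q
      have := h0 q
      have := e₁.symm.toEquiv.subsingleton
      exact (hdIso _ q).toLinearEquiv.toEquiv.subsingleton
  have hb := pBij_gamι (I := I) l R (fun i => good_of_injective l _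
    (Module.injective_module_of_injective_object A _ (inj := hinj i))) fun f hf => hl ▸ mem_ide hf
  rw [hl] at hb
  have : e.inv ≫ φ = 0 := (hb Y hY).1 (hz.eq_of_src _ _)
  exact (cancel_epi e.inv).1 (this.trans comp_zero.symm)

/-- The derived limit receives a map from `RΓ_J M` which completion turns into an isomorphism. -/
theorem exists_limit [HasProduct (K I J M)] :
    ∃ (L : Dual.D A) (a : L ⟶ ∏ᶜ K I J M) (c : ∏ᶜ K I J M ⟶ L⟦(1 : ℤ)⟧)
      (Φ : (G J).obj (S.obj (ModuleCat.of A M)) ⟶ L),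
      Triangle.mk a (Limit.diff fun n => t I J M (sub_le I M (Nat.le_succ n))) c ∈
        distTriang (Dual.D A) ∧
      DRing.IsDerivedComplete I L ∧ L.IsGE 0 ∧ (∀ n, Φ ≫ a ≫ Pi.π _ n = pr I J M n) ∧
      PBij I Φ := by
  let t' : ∀ n, K I J M (n + 1) ⟶ K I J M n := fun n => t I J M (sub_le I M (Nat.le_succ n))
  obtain ⟨L, a, c, hT⟩ := distinguished_cocone_triangle₁ (Limit.diff t')
  have hL : DRing.IsDerivedComplete I L := fun f hf k => by
    let e := (shiftEquiv' (Dual.D A) (-k) k (by omega)).toAdjunction.homEquiv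
      (Dual.inD A (Localization.Away f)) L
    refine @Equiv.subsingleton _ _ e.symm (subsingleton_of_forall_eq 0 fun v => ?_)
    have hK : ∀ n, DRing.IsDerivedComplete I (K I J M n) := fun n =>
      isDerivedComplete_of_nilpotent (nilIdeal_K I J M n)
    refine Limit.eq_zero_of_forall t' a c hT (fun n u => ?_) (fun n u => ?_) v
    · have := hK n f hf k
      exact @Subsingleton.elim _ (@Equiv.subsingleton _ _ ((shiftEquiv' (Dual.D A) (-k) k
        (by omega)).toAdjunction.homEquiv (Dual.inD A (Localization.Away f)) (K I J M n)) this) _ _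
    · have := hK n f hf (k - 1)
      have : Subsingleton ((Dual.inD A (Localization.Away f))⟦-k + 1⟧ ⟶ K I J M n) :=
        @Equiv.subsingleton _ _ ((shiftEquiv' (Dual.D A) (-k + 1) (k - 1)
          (by omega)).toAdjunction.homEquiv (Dual.inD A (Localization.Away f)) (K I J M n)) this
      exact (cancel_epi ((shiftFunctorAdd (Dual.D A) (-k) 1).app _).hom).1 (Subsingleton.elim _ _)
  have hgeL : L.IsGE 0 := by
    show DerivedCategory.TStructure.t.IsGE L 0
    rw [DerivedCategory.TStructure.t.isGE_iff_orthogonal (-1) 0 (by omega)]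
    intro X v hX
    have := fun n => isGE_K I J M n
    have : DerivedCategory.TStructure.t.IsLE (X⟦(1 : ℤ)⟧) (-2) :=
      DerivedCategory.TStructure.t.isLE_shift X (-1) 1 (-2) (by omega)
    exact Limit.eq_zero_of_forall t' a c hT
      (fun n u => DerivedCategory.TStructure.t.zero u (-1) 0 (by omega))
      (fun n u => DerivedCategory.TStructure.t.zero u (-2) 0 (by omega)) v
  let R := (G J).obj (S.obj (ModuleCat.of A M))
  obtain ⟨Φ, hΦ⟩ := Limit.exists_lift t' a c hT (fun n => pr I J M n) fun n => by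
    rw [← Functor.map_comp, ← Functor.map_comp]
    rfl
  have hbij : ∀ W : Dual.D A, I ≤ nilIdeal W →
      Function.Bijective fun v : W ⟶ R => v ≫ Φ := fun W hW => by
    have hE := essConst I J M hW
    refine ⟨fun v v' hvv => ?_, fun x => ?_⟩
    · obtain ⟨N, hN⟩ := hE.inj
      refine sub_eq_zero.1 (hN _ ?_)
      show (v - v') ≫ pr I J M N = 0
      rw [← hΦ N, ← Category.assoc, Preadditive.sub_comp, sub_eq_zero.2 hvv, zero_comp]
    · obtain ⟨y, hy, -⟩ := hE.compat (fun n => x ≫ a ≫ Pi.π _ n) fun n => by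
        show (x ≫ a ≫ Pi.π _ (n + 1)) ≫ t' n = x ≫ a ≫ Pi.π _ n
        rw [Category.assoc, Limit.compat t' a c hT n]
      refine ⟨y, sub_eq_zero.1 (Limit.eq_zero t' a c hT _ (fun n => ?_)
        (essConst I J M (nilIdeal_shift hW 1)).surjective_diff)⟩
      show (y ≫ Φ - x) ≫ a ≫ Pi.π _ n = 0
      rw [Preadditive.sub_comp, Category.assoc, hΦ n, sub_eq_zero]
      exact hy n
  obtain ⟨C, p, δ, hC⟩ := distinguished_cocone_triangle Φ
  have hperp : Perp I C := perp_of_nil I fun W hW u => by
    have h1 : Φ ≫ p = 0 := comp_distTriang_mor_zero₁₂ _ hC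
    have h3 : δ ≫ Φ⟦(1 : ℤ)⟧' = 0 := comp_distTriang_mor_zero₃₁ _ hC
    let e := (shiftEquiv' (Dual.D A) (-1) 1 (by omega)).toAdjunction
    have hu : u ≫ δ = 0 := by
      apply (e.homEquiv W R).symm.injective
      apply (hbij _ (nilIdeal_shift hW (-1))).1
      show (e.homEquiv W R).symm (u ≫ δ) ≫ Φ = (e.homEquiv W R).symm 0 ≫ Φ
      rw [← e.homEquiv_naturality_right_symm, ← e.homEquiv_naturality_right_symm, zero_comp]
      congr 1
      show (u ≫ δ) ≫ Φ⟦(1 : ℤ)⟧' = 0
      rw [Category.assoc, h3, comp_zero]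
    obtain ⟨x, hx⟩ : ∃ x : W ⟶ L, u = x ≫ p := Triangle.coyoneda_exact₃ _ hC u hu
    obtain ⟨y, hy⟩ := (hbij W hW).2 x
    rw [hx, ← hy]
    show (y ≫ Φ) ≫ p = 0
    rw [Category.assoc, h1, comp_zero]
  exact ⟨L, a, c, Φ, hT, hL, hgeL, hΦ, pBij_of_triangle _ hC hperp⟩

/-- The main theorem. -/
theorem isRlim_completion [DRing.HasDerivedCompletion I] [HasProduct (K I J M)] :
    DCoh.IsRlim (K I J M) (fun n => t I J M (sub_le I M (Nat.le_succ n)))
      ((DRing.derivedCompletion I).obj ((G J).obj (S.obj (ModuleCat.of A M)))).obj ∧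
    ∀ i : ℤ, i < 0 → Subsingleton (Dual.HD A
      ((DRing.derivedCompletion I).obj ((G J).obj (S.obj (ModuleCat.of A M)))).obj i) := by
  obtain ⟨L, a, c, Φ, hT, hL, hgeL, -, hP⟩ := exists_limit I J M
  let R := (G J).obj (S.obj (ModuleCat.of A M))
  let Cd := ((DRing.derivedCompletion I).obj R).obj
  let η := DRing.toDerivedCompletion I R
  have hη := pBij_toDerivedCompletion I R
  obtain ⟨f, hf⟩ := (hη L hL).2 Φ
  obtain ⟨g, hg⟩ := (hP Cd ((DRing.derivedCompletion I).obj R).property).2 η
  let e : Cd ≅ L :=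
    { hom := f
      inv := g
      hom_inv_id := (hη Cd ((DRing.derivedCompletion I).obj R).property).1 (by
        show η ≫ f ≫ g = η ≫ 𝟙 _
        rw [← Category.assoc, show η ≫ f = Φ from hf, show Φ ≫ g = η from hg]
        exact (Category.comp_id η).symm)
      inv_hom_id := (hP L hL).1 (by
        show Φ ≫ g ≫ f = Φ ≫ 𝟙 _
        rw [← Category.assoc, show Φ ≫ g = η from hg, show η ≫ f = Φ from hf]
        exact (Category.comp_id Φ).symm) }
  refine ⟨⟨e.hom ≫ a, c ≫ e.inv⟦(1 : ℤ)⟧', ?_⟩, fun i hi => ?_⟩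
  · refine isomorphic_distinguished _ hT _
      (Triangle.isoMk _ _ e (Iso.refl _) (Iso.refl _) ?_ ?_ ?_)
    · exact Category.comp_id _
    · exact (Category.comp_id _).trans (Category.id_comp _).symm
    · show (c ≫ e.inv⟦(1 : ℤ)⟧') ≫ e.hom⟦(1 : ℤ)⟧' = 𝟙 _ ≫ c
      rw [Category.assoc, ← Functor.map_comp, e.inv_hom_id, CategoryTheory.Functor.map_id,
        Category.comp_id, Category.id_comp]
  · have : Subsingleton (Dual.HD A L i) :=
      ModuleCat.subsingleton_of_isZero ((DerivedCategory.isGE_iff _ _).1 hgeL i hi)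
    exact ((DerivedCategory.homologyFunctor (ModuleCat.{u} A) i).mapIso
      e).toLinearEquiv.toEquiv.subsingleton

end Groth.Agent.Lib.RGamma.RlimCompletion
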