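import Groth.Agent.Lib.RGamma.ComplLadder
import Groth.Agent.Lib.RGamma.RlimCompletion
import Groth.Agent.Lib.RGamma.H0Completion
import Groth.Agent.Lib.RGamma.AnnihilatorModule
import Groth.Agent.Lib.Depth.CM
import Groth.Agent.Lib.Depth.Local

/-!
# The comparison of `RΓ_J M` with its completion: finite modules
-/

universe u

open CategoryTheory CategoryTheory.Limits Pretriangulated Opposite
open scoped Pointwise
open Groth.Agent.Lib.DR.DComp Groth.Agent.Lib.DMod.Basic

attribute [local instance] HasDerivedCategory.standard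

set_option backward.isDefEq.respectTransparency false

namespace Groth.Agent.Lib.RGamma.ComplModule

open ComplLadder

variable {A : Type u} [CommRing A] [IsNoetherianRing A]
variable (I : Ideal A) [DRing.HasDerivedCompletion I]

/-- The completion comparison is bijective for `RΓ_J M` in degree `i`. -/
abbrev Stable (J : Ideal A) [DRing.HasRgammaI J] (M : Type u) [AddCommGroup M] [Module A M]
    (i : ℤ) : Prop :=
  Function.Bijective (cmp I ((DRing.RgammaI J).obj (Dual.inD A M)) i)

theorem stable_of_ses (J : Ideal A) [DRing.HasRgammaI J] (M : Type u) [AddCommGroup M] [Module A M]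
    (N : Submodule A M) (hN : ∀ i, Stable I J N i) (i : ℤ)
    (h' : Stable I J (M ⧸ N) (i - 1)) (h : Stable I J (M ⧸ N) i) : Stable I J M i := by
  let S : ShortComplex (ModuleCat.{u} A) := ShortComplex.mk (ModuleCat.ofHom N.subtype)
    (ModuleCat.ofHom N.mkQ) (ModuleCat.hom_ext (LinearMap.ext fun x =>
      (Submodule.Quotient.mk_eq_zero N).2 x.2))
  have hS : S.ShortExact :=
    { exact := (ShortComplex.ShortExact.moduleCat_exact_iff_function_exact _).2
        (LinearMap.exact_subtype_mkQ N)
      mono_f := (ModuleCat.mono_iff_injective _).2 Subtype.val_injective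
      epi_g := (ModuleCat.epi_iff_surjective _).2 (Submodule.mkQ_surjective _) }
  obtain ⟨p, δ, hT⟩ := exists_RgammaI_triangle J _ hS.singleTriangle_distinguished
  exact bijective_cmp_obj₂ I _ hT i h'.2 (hN i) h (hN (i + 1)).1

omit [DRing.HasDerivedCompletion I] in
theorem smul_id_inD (f : A) (M : Type u) [AddCommGroup M] [Module A M] :
    (DerivedCategory.singleFunctor (ModuleCat.{u} A) 0).map
        (f • 𝟙 (ModuleCat.of A M)) = f • 𝟙 (Dual.inD A M) := by
  rw [Functor.map_smul, CategoryTheory.Functor.map_id]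

variable [IsAdicComplete I A]

theorem isDerivedComplete_inD (M : Type u) [AddCommGroup M] [Module A M] [Module.Finite A M] :
    DRing.IsDerivedComplete I (Dual.inD A M) :=
  (isDerivedComplete_inD_iff M).2 fun _ hf =>
    DerComp.GMEquiv.dc_of_finite (dc_of_isAdicComplete (I := I) hf) M

omit [IsAdicComplete I A] in
/-- Modules killed by `I^k`. -/
theorem stable_of_kill (J : Ideal A) [DRing.HasRgammaI J] (M : Type u) [AddCommGroup M] [Module A M]
    (k : ℕ) (hk : ∀ a ∈ I ^ k, ∀ x : M, a • x = 0) (i : ℤ) : Stable I J M i := by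
  refine bijective_cmp_of_complete I (isDerivedComplete_of_nilpotent fun g hg => ⟨k, ?_⟩) i
  rw [← smul_id_RgammaI, ← smul_id_inD,
    show (g ^ k) • 𝟙 (ModuleCat.of A M) = 0 from ModuleCat.hom_ext (LinearMap.ext fun x =>
      hk _ (Ideal.pow_mem_pow hg k) x), Functor.map_zero, Nil.G_map_zero]

/-- Finite torsion modules. -/
theorem stable_of_torsion (J : Ideal A) [DRing.HasRgammaI J] (M : Type u) [AddCommGroup M]
    [Module A M] [Module.Finite A M] (hM : LocCoh.IsPowerTorsion J M) (i : ℤ) : Stable I J M i := by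
  have : ∀ j, LocCoh.IsPowerTorsion J (Dual.HD A (Dual.inD A M) j) := fun j x => by
    by_cases hj : j = 0
    · subst hj
      obtain ⟨n, hn⟩ := hM (HDinD M x)
      exact ⟨n, fun a ha => (HDinD M).injective (by rw [map_smul, map_zero]; exact hn a ha)⟩
    · have := subsingleton_HD_inD (A := A) M hj
      exact ⟨0, fun a _ => Subsingleton.elim _ _⟩
  have := isIso_ε_of_torsion J this
  exact bijective_cmp_of_iso I (asIso ((DRing.RgammaIε J).app (Dual.inD A M))).symm i
    (bijective_cmp_of_complete I (isDerivedComplete_inD I M) i)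

omit [IsAdicComplete I A] in
/-- Modules killed by an ideal coprime to `J`. -/
theorem stable_of_coprime (J : Ideal A) [DRing.HasRgammaI J] (M : Type u) [AddCommGroup M]
    [Module A M] (X : Ideal A) (hX : X ⊔ J = ⊤) (hM : ∀ a ∈ X, ∀ x : M, a • x = 0) (i : ℤ) :
    Stable I J M i := by
  let R := (DRing.RgammaI J).obj (Dual.inD A M)
  have hk : ∀ a ∈ X, a • 𝟙 R = 0 := fun a ha => by
    rw [← smul_id_RgammaI, ← smul_id_inD,
      show a • 𝟙 (ModuleCat.of A M) = 0 from ModuleCat.hom_ext (LinearMap.ext fun x =>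
        hM a ha x), Functor.map_zero, Nil.G_map_zero]
  have h0 : IsZero R := (isZero_iff_HD R).2 fun j => subsingleton_of_forall_eq 0 fun x => by
    obtain ⟨n, hn⟩ := isPowerTorsion_HD_RgammaI J (Dual.inD A M) j x
    have hx : ∀ a ∈ X, a • x = 0 := fun a ha => by
      rw [← hF_map_smul_id a R j x, hk a ha, Functor.map_zero]
      rfl
    have hle : (X ⊔ J ^ n) ≤ Module.annihilator A (Submodule.span A {x}) :=
      sup_le (fun a ha => Module.mem_annihilator.2 fun y => by
          obtain ⟨c, hc⟩ := Submodule.mem_span_singleton.1 y.2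
          exact Subtype.ext (by
            show a • (y : Dual.HD A R j) = 0
            rw [← hc, smul_comm, hx a ha, smul_zero]))
        (fun a ha => Module.mem_annihilator.2 fun y => by
          obtain ⟨c, hc⟩ := Submodule.mem_span_singleton.1 y.2
          exact Subtype.ext (by
            show a • (y : Dual.HD A R j) = 0
            rw [← hc, smul_comm]
            exact (congrArg (c • ·) (hn a ha)).trans (smul_zero c)))
    rw [Ideal.sup_pow_eq_top hX] at hle
    have h1 := Module.mem_annihilator.1 (hle (Submodule.mem_top : (1 : A) ∈ ⊤))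
      ⟨x, Submodule.mem_span_singleton_self x⟩
    rw [one_smul] at h1
    exact congrArg Subtype.val h1
  exact bijective_cmp_of_complete I (fun g _ n =>
    ⟨fun a b => ((shiftFunctor (Dual.D A) n).map_isZero h0).eq_of_tgt a b⟩) i

omit [IsAdicComplete I A] in
/-- Negative degrees. -/
theorem stable_of_neg (J : Ideal A) [DRing.HasRgammaI J] (M : Type u) [AddCommGroup M] [Module A M]
    [Module.Finite A M] (i : ℤ) (hi : i < 0) : Stable I J M i := by
  haveI := H0Completion.hasProduct (RlimCompletion.K I J M)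
  have h1 := CompletionKill.isGE_RgammaI J M
  have h2 := (RlimCompletion.isRlim_completion I J M).2 i hi
  have h3 := subsingleton_HD_of_isGE ((DRing.RgammaI J).obj (Dual.inD A M)) 0 hi
  exact ⟨fun x y _ => h3.elim x y, fun y => ⟨0, h2.elim _ _⟩⟩

omit [IsNoetherianRing A] [DRing.HasDerivedCompletion I] [IsAdicComplete I A] in
/-- A module without torsion elements has no `H⁰_J`. -/
theorem subsingleton_HD_zero (J : Ideal A) [IsNoetherianRing A] [DRing.HasRgammaI J] (M : Type u)
    [AddCommGroup M] [Module A M]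
    (hM : ∀ x : M, (∃ n : ℕ, ∀ a ∈ J ^ n, a • x = 0) → x = 0) :
    Subsingleton (Dual.HD A ((DRing.RgammaI J).obj (Dual.inD A M)) 0) := by
  obtain ⟨e⟩ := nonempty_HD_RgammaI_equiv J (Dual.inD A M) 0
  suffices Subsingleton (Dual2.HDI A J (Dual.inD A M) 0) from e.toEquiv.subsingleton
  refine subsingleton_of_forall_eq 0 fun y => ?_
  obtain ⟨k, g, rfl⟩ := ProZero.EvCrit.exists_rep_hdi (Dual.inD A M) 0 y
  suffices g = 0 by rw [this]; exact map_zero _
  obtain ⟨φ, hφ⟩ := (DerivedCategory.singleFunctor (ModuleCat.{u} A) 0).map_surjective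
    (g ≫ ((shiftFunctorZero (Dual.D A) ℤ).app _).hom)
  have : φ = 0 := ModuleCat.hom_ext (LinearMap.ext fun z => hM _ ⟨k.unop.unop, fun a ha => by
    rw [← map_smul]
    obtain ⟨z, rfl⟩ := Submodule.Quotient.mk_surjective _ z
    refine (congrArg φ.hom ?_).trans (map_zero _)
    rw [← Submodule.Quotient.mk_smul]
    exact (Submodule.Quotient.mk_eq_zero _).2 (Ideal.mul_mem_right z _ ha)⟩)
  rw [this, Functor.map_zero] at hφ
  exact (cancel_mono ((shiftFunctorZero (Dual.D A) ℤ).app _).hom).1 (hφ.symm.trans zero_comp.symm)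

/-- Degree zero, without torsion elements. -/
theorem stable_zero (J : Ideal A) [DRing.HasRgammaI J] (M : Type u) [AddCommGroup M] [Module A M]
    [Module.Finite A M]
    (hM : ∀ J' : Ideal A, J' ≤ J → J ≤ (J' ⊔ I).radical →
      ∀ x : M, (∃ n : ℕ, ∀ a ∈ J' ^ n, a • x = 0) → x = 0) : Stable I J M 0 := by
  obtain ⟨hinj, hran⟩ := H0Completion.main_HD I J M
  have h1 := subsingleton_HD_zero J M (hM J le_rfl (le_sup_left.trans Ideal.le_radical))
  refine ⟨fun x y _ => h1.elim x y, fun y => ⟨0, hinj ?_⟩⟩
  rw [map_zero]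
  refine (map_zero _).trans ?_
  obtain ⟨s, ⟨J', h1', h2', h3'⟩, hs⟩ := (Set.ext_iff.1 hran _).1 ⟨y, rfl⟩
  beta_reduce at hs
  rw [hM J' h1' h2' s h3'] at hs
  exact ((congrArg _ (map_zero _)).trans (map_zero _)).symm.trans hs

omit [IsAdicComplete I A] in
/-- Dévissage along a regular element. -/
theorem stable_of_regular (J : Ideal A) [DRing.HasRgammaI J] (M : Type u) [AddCommGroup M]
    [Module A M] [Module.Finite A M] (f : A) (hreg : IsSMulRegular M f) (n : ℤ)
    (hq : ∀ i, i < n → Stable I J (QuotSMulTop f M) i)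
    (hkill : ∀ i, i ≤ n → ∀ y : Dual.HD A
      ((DRing.derivedCompletion I).obj ((DRing.RgammaI J).obj (Dual.inD A M))).obj i, f • y = 0)
    (htors : ∀ i, i ≤ n → ∀ x : Dual.HD A ((DRing.RgammaI J).obj (Dual.inD A M)) i,
      ∃ k : ℕ, f ^ k • x = 0) (i : ℤ) (hi : i ≤ n) : Stable I J M i := by
  let S : ShortComplex (ModuleCat.{u} A) := ShortComplex.mk (f • 𝟙 (ModuleCat.of A M))
    (ModuleCat.ofHom (f • (⊤ : Submodule A M)).mkQ)
    (ModuleCat.hom_ext (LinearMap.ext fun x => (Submodule.Quotient.mk_eq_zero _).2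
      (Submodule.smul_mem_pointwise_smul x f ⊤ trivial)))
  have hS : S.ShortExact :=
    { exact := (ShortComplex.ShortExact.moduleCat_exact_iff_function_exact _).2 fun y => by
        refine (Submodule.Quotient.mk_eq_zero _).trans ?_
        rw [Submodule.mem_smul_pointwise_iff_exists]
        exact ⟨fun ⟨x, _, hx⟩ => ⟨x, hx⟩, fun ⟨x, hx⟩ => ⟨x, trivial, hx⟩⟩
      mono_f := (ModuleCat.mono_iff_injective _).2 hreg
      epi_g := (ModuleCat.epi_iff_surjective _).2 (Submodule.mkQ_surjective _) }
  obtain ⟨p, δ, hT⟩ := exists_RgammaI_triangle J _ hS.singleTriangle_distinguished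
  have hm : (DRing.RgammaI J).map hS.singleTriangle.mor₁ =
      f • 𝟙 ((DRing.RgammaI J).obj (Dual.inD A M)) := by
    rw [← smul_id_RgammaI]
    exact congrArg (DRing.RgammaI J).map (smul_id_inD f M)
  rw [hm] at hT
  exact bijective_cmp_of_smul I f p δ hT n (fun j hj => stable_of_neg I J M j hj) hq hkill htors i hi

omit [DRing.HasDerivedCompletion I] [IsAdicComplete I A] in
/-- Power torsion in low degrees from the depth condition. -/
theorem exists_pow_kill_RgammaI (hdc : ∃ ω : Dual.D A, Dual.IsDualizing A ω) (J L : Ideal A)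
    [DRing.HasRgammaI J] (M : Type u) [AddCommGroup M] [Module A M] [Module.Finite A M] (s : ℕ)
    (h : ∀ p q : PrimeSpectrum A, ¬ L ≤ p.asIdeal → J ≤ q.asIdeal → p ≤ q →
      (s : WithBot ℕ∞) < ((LocCoh.depth (Localization.AtPrime p.asIdeal)
        (LocalizedModule p.asIdeal.primeCompl M) : ℕ∞) : WithBot ℕ∞) + Order.krullDim (Set.Icc p q))
    {f : A} (hf : f ∈ L) :
    ∃ k : ℕ, ∀ i : ℤ, i ≤ s → ∀ x : Dual.HD A ((DRing.RgammaI J).obj (Dual.inD A M)) i,
      f ^ k • x = 0 := by
  have hst : ∀ K : Ideal A, StableUnderSpecialization (PrimeSpectrum.zeroLocus (K : Set A)) :=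
    fun K a b hab ha v hv => ((PrimeSpectrum.le_iff_specializes a b).2 hab) (ha hv)
  obtain ⟨K, hK, hkill⟩ := (AnnihilatorModule.annihilated_iff hdc (hst J) (hst L) s M).2 h
  obtain ⟨k, hk⟩ := Ideal.exists_pow_le_of_le_radical_of_fg_radical
    ((PrimeSpectrum.zeroLocus_subset_zeroLocus_iff _ _).1 hK) (IsNoetherian.noetherian _)
  exact ⟨k, fun i hi x => CompletionKill.smul_HD_RgammaI_eq_zero J (Dual.inD A M) i _
    (fun y => hkill i hi _ (hk (Ideal.pow_mem_pow hf k)) y) x⟩

omit [DRing.HasDerivedCompletion I] [IsAdicComplete I A] in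
/-- The depth drops by at most one modulo a regular element. -/
theorem depth_le_quot (M : Type u) [AddCommGroup M] [Module A M] [Module.Finite A M] {f : A}
    (hreg : IsSMulRegular M f) (p : PrimeSpectrum A) :
    LocCoh.depth (Localization.AtPrime p.asIdeal) (LocalizedModule p.asIdeal.primeCompl M) ≤
      LocCoh.depth (Localization.AtPrime p.asIdeal)
        (LocalizedModule p.asIdeal.primeCompl (QuotSMulTop f M)) + 1 := by
  let R := Localization.AtPrime p.asIdeal
  let ψ := LocalizedModule.mkLinearMap p.asIdeal.primeCompl M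
  by_cases hf : f ∈ p.asIdeal
  · have hfp : algebraMap A R f ∈ IsLocalRing.maximalIdeal R :=
      (IsLocalization.AtPrime.to_map_mem_maximal_iff R p.asIdeal f).mpr hf
    have := Module.Finite.of_isLocalizedModule p.asIdeal.primeCompl (Rₚ := R) ψ
    have hregp : IsSMulRegular (LocalizedModule p.asIdeal.primeCompl M) (algebraMap A R f) := by
      simpa using RingTheory.Sequence.IsWeaklyRegular.of_isLocalizedModule R p.asIdeal.primeCompl ψ
        ((RingTheory.Sequence.isWeaklyRegular_singleton_iff M f).mpr hreg)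
    rw [Depth.Basic.depth_congr (Depth.CM.quotSMulTopLocalizedEquiv p.asIdeal M f), LocCoh.depth,
      LocCoh.depth, Depth.SES.idealDepth_quotSMulTop _ hfp hregp]
  · have : Subsingleton (LocalizedModule p.asIdeal.primeCompl (QuotSMulTop f M)) := by
      refine Module.notMem_support_iff.1 fun h => hf ?_
      rw [Module.support_quotSMulTop] at h
      simpa using h.2
    conv_rhs => rw [LocCoh.depth, Depth.Basic.idealDepth_subsingleton]
    rw [top_add]
    exact le_top

end Groth.Agent.Lib.RGamma.ComplModule
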