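import Groth.Agent.Lib.RGamma.CompletionKillDepth

/-!
# Numerics for the annihilation of completions
-/

universe u

namespace Groth.Agent.Lib.RGamma.CompletionKill

theorem lt_depth_of_lt (D : ℕ∞) (n d s : ℕ)
    (h : (((d + s : ℕ) : ℕ∞) : WithBot ℕ∞) < ((D : ℕ∞) : WithBot ℕ∞) + (((n : ℕ) : ℕ∞) : WithBot ℕ∞))
    (j : ℤ) (hj : j ≤ ((d + s : ℕ) : ℤ) - n) (k : ℕ) (hk : (k : ℤ) = j) : (k : ℕ∞) < D := by
  rw [← WithBot.coe_add, WithBot.coe_lt_coe] at h
  cases D with
  | top => exact WithTop.coe_lt_top _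
  | coe a =>
    have h' : d + s < a + n := by exact_mod_cast h
    exact_mod_cast (show k < a by omega)

end Groth.Agent.Lib.RGamma.CompletionKill
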