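import Groth.Agent.Lib.RGamma.CompletionKill

/-!
# A depth criterion for the annihilation of the completion of `RΓ`
-/

set_option linter.style.haveILetI false

universe u

open CategoryTheory CategoryTheory.Limits Pretriangulated TensorProduct

attribute [local instance] HasDerivedCategory.standard

namespace Groth.Agent.Lib.RGamma.CompletionKill

open Groth.Agent.Lib.DMod Groth.Agent.Lib.DMod.Basic Groth.Agent.Lib.DMod.FlatHom

variable {A : Type u} [CommRing A] [IsNoetherianRing A]

/-- Below the depth, local cohomology at the maximal ideal vanishes. -/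
theorem subsingleton_hdi_of_lt_depth [IsLocalRing A] (N : Type u) [AddCommGroup N] [Module A N]
    [Module.Finite A N] (j : ℤ) (h : ∀ k : ℕ, (k : ℤ) = j → (k : ℕ∞) < LocCoh.depth A N) :
    Subsingleton (Dual2.HDI A (IsLocalRing.maximalIdeal A) (Dual.inD A N) j) := by
  refine subsingleton_of_forall_eq 0 fun y => ?_
  obtain ⟨k, g, rfl⟩ := ProZero.EvCrit.exists_rep_hdi (Dual.inD A N) j y
  suffices hs : Subsingleton (Dual.inD A (A ⧸ IsLocalRing.maximalIdeal A ^ k.unop.unop) ⟶
      (Dual.inD A N)⟦j⟧) by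
    rw [hs.elim g 0]
    exact map_zero _
  rcases lt_or_ge j 0 with hj | hj
  · exact subsingleton_hom_inD_neg _ N hj
  · obtain ⟨l, rfl⟩ := Int.eq_ofNat_of_zero_le hj
    have hl : ((l + 1 : ℕ) : ℕ∞) ≤ LocCoh.depth A N := by
      push_cast
      exact Order.add_one_le_of_lt (h l rfl)
    have := (Depth.Ext.le_idealDepth_iff_forall_ext (IsLocalRing.maximalIdeal A) N (l + 1)).1 hl
      (ModuleCat.of A (A ⧸ IsLocalRing.maximalIdeal A ^ k.unop.unop)) (fun r hr => by
        rw [Module.mem_support_iff_of_finite, Ideal.annihilator_quotient] at hr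
        rcases Nat.eq_zero_or_pos k.unop.unop with h0 | h0
        · rw [h0, pow_zero, Ideal.one_eq_top] at hr
          exact (r.isPrime.ne_top (top_le_iff.1 hr)).elim
        · exact (r.isPrime.pow_le_iff h0.ne').1 hr) l (by omega)
    exact (extEquiv (A := A) (A ⧸ IsLocalRing.maximalIdeal A ^ k.unop.unop) N l).symm.toEquiv.subsingleton

variable {ω : Dual.D A} (hω : Dual.IsDualizing A ω) (M : Type u) [AddCommGroup M] [Module A M]
  [Module.Finite A M]

include hω

/-- Maps into `ω` above the depth die after localizing. -/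
theorem hom_kill_of_lt_depth (p : PrimeSpectrum A) (j : ℤ)
    (h : ∀ k : ℕ, (k : ℤ) = j → (k : ℕ∞) <
      LocCoh.depth (Localization.AtPrime p.asIdeal) (LocalizedModule p.asIdeal.primeCompl M))
    (g : Dual.inD A M ⟶ ω⟦Degree.deg hω p - j⟧) : ∃ t ∉ p.asIdeal, t • g = 0 := by
  let R := Localization.AtPrime p.asIdeal
  haveI : Module.Finite R (LocalizedModule p.asIdeal.primeCompl M) :=
    Module.Finite.of_isLocalizedModule p.asIdeal.primeCompl
      (LocalizedModule.mkLinearMap p.asIdeal.primeCompl M)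
  haveI := subsingleton_hdi_of_lt_depth (A := R) (LocalizedModule p.asIdeal.primeCompl M) j h
  obtain ⟨e⟩ := LocalKill.nonempty_hdi_iso (IsLocalRing.maximalIdeal R)
    ((DR.FlatBC.mapInD : (L A R).obj (Dual.inD A M) ≅ Dual.inD R (R ⊗[A] M)) ≪≫
      (DerivedCategory.singleFunctor (ModuleCat.{u} R) 0).mapIso
        (LocalizedModule.equivTensorProduct p.asIdeal.primeCompl M).symm.toModuleIso) j
  refine (LocalKill.subsingleton_hdi_iff p hω (fun i => finite_HD_inD M i) 0 0
    (fun i hi => subsingleton_HD_inD M (by omega)) j).1 ?_ g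
  exact e.toEquiv.subsingleton

/-- The completion of `RΓ_J M` is killed in low degrees by an element outside `p`. -/
theorem exists_notMem_kill (I J : Ideal A) [DRing.HasRgammaI J] [DRing.HasDerivedCompletion I]
    (p : PrimeSpectrum A) (s d : ℕ) (hd : LocCoh.CdLE A I d)
    (hvan : ∀ p' q : PrimeSpectrum A, p' ≤ p → p' ≤ q → J ≤ q.asIdeal → I ≤ q.asIdeal →
      ∀ j : ℤ, j ≤ ((d + s : ℕ) : ℤ) - (Degree.deg hω q - Degree.deg hω p') →
        ∀ g : Dual.inD A M ⟶ ω⟦Degree.deg hω p' - j⟧, ∃ t ∉ p'.asIdeal, t • g = 0) :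
    ∃ f : A, f ∉ p.asIdeal ∧ ∀ i : ℤ, i ≤ s → ∀ x : Dual.HD A
      ((DRing.derivedCompletion I).obj ((DRing.RgammaI J).obj (Dual.inD A M))).obj i, f • x = 0 := by
  haveI := hasRgammaI I
  haveI := hasRgammaI (J ⊔ I)
  let K := (DRing.RgammaI J).obj (Dual.inD A M)
  let T := PrimeSpectrum.zeroLocus ((J ⊔ I : Ideal A) : Set A)
  let T' : Set (PrimeSpectrum A) := {r | ¬ r ≤ p}
  have hT : StableUnderSpecialization T := fun a b hab ha =>
    (show (J ⊔ I : Ideal A) ≤ _ from ha).trans ((PrimeSpectrum.le_iff_specializes a b).2 hab)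
  have hT' : StableUnderSpecialization T' := fun a b hab ha hb =>
    ha (((PrimeSpectrum.le_iff_specializes a b).2 hab).trans hb)
  have hV : AnnihilatorThm.Vanish hω T T' (d + s : ℕ) (Dual.inD A M) := by
    intro p' q hp'q hp' hq i hi
    have hq' : (J ⊔ I : Ideal A) ≤ q.asIdeal := hq
    exact (LocalKill.subsingleton_hdi_iff p' hω (fun k => finite_HD_inD M k) 0 0
      (fun k hk => subsingleton_HD_inD M (by omega)) i).2
      (hvan p' q (not_not.1 hp') hp'q (le_sup_left.trans hq') (le_sup_right.trans hq') i hi)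
  obtain ⟨J₀, hJ₀, hkill⟩ := (AnnihilatorThm.annihilated_iff hT hω (fun k => finite_HD_inD M k) 0
    hT' (fun k hk => subsingleton_HD_inD M (by omega)) ((d + s : ℕ) : ℤ)).2 hV
  obtain ⟨f, hfJ, hfp⟩ : ∃ f ∈ J₀, f ∉ p.asIdeal := by
    by_contra hc
    push Not at hc
    exact (hJ₀ hc : ¬ p ≤ p) le_rfl
  obtain ⟨e⟩ := Groth.Agent.S1816.result A J I (Dual.inD A M)
  have hf : ∀ j : ℤ, j ≤ (d + s : ℕ) → ∀ y : Dual.HD A ((DRing.RgammaI I).obj K) j, f • y = 0 := by
    intro j hj y
    apply (HDCongr e j).injective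
    rw [map_smul, map_zero]
    exact smul_HD_RgammaI_eq_zero (J ⊔ I) (Dual.inD A M) j f (fun z => hkill j hj f hfJ z) _
  have hK0 : ((DRing.RgammaI I).obj K).IsGE 0 := by
    refine (isGE_iff _ 0).2 fun j hj => ?_
    have := isGE_RgammaI (J ⊔ I) M
    have := subsingleton_HD_of_isGE ((DRing.RgammaI (J ⊔ I)).obj (Dual.inD A M)) 0 hj
    exact (HDCongr e j).toEquiv.subsingleton
  exact ⟨f ^ (d + s + 1), fun h => hfp (p.isPrime.mem_of_pow_mem _ h),
    fun i hi x => exists_pow_kill I K s hd f hK0 hf i hi x⟩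

end Groth.Agent.Lib.RGamma.CompletionKill
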