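import Groth.Agent.Lib.RGamma.Derived
import Groth.Agent.Lib.DR.Basic
import Groth.Agent.Lib.LCFin.Cd
import Mathlib.Algebra.Homology.DerivedCategory.TStructure

/-!
# `colim_J Hom_D(A/J, K[i])` over the ideals with `V(J) ⊆ T`: finiteness versus annihilation
-/

universe u

open CategoryTheory CategoryTheory.Limits Opposite Pretriangulated

attribute [local instance] HasDerivedCategory.standard

namespace Groth.Agent.Lib.RGamma.HDT

variable {A : Type u} [CommRing A] {T : Set (PrimeSpectrum A)}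

/-- An ideal in the index category. -/
abbrev mem (T : Set (PrimeSpectrum A)) (J : Ideal A) : Prop :=
  PrimeSpectrum.zeroLocus (J : Set A) ⊆ T

lemma mem_mul {J J' : Ideal A} (h : mem T J) (h' : mem T J') : mem T (J * J') := by
  rw [mem, PrimeSpectrum.zeroLocus_mul]
  exact Set.union_subset h h'

lemma mem_pow {J : Ideal A} (h : mem T J) (n : ℕ) : mem T (J ^ n) := by
  induction n with
  | zero =>
    rw [mem, pow_zero, Ideal.one_eq_top, Submodule.top_coe, PrimeSpectrum.zeroLocus_univ]
    exact Set.empty_subset _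
  | succ n ih => rw [pow_succ]; exact mem_mul ih h

/-- The index of an ideal. -/
abbrev idx (J : Ideal A) (h : mem T J) : (Dual2.IdealsIn T)ᵒᵖ := op ⟨J, h⟩

instance : Nonempty (Dual2.IdealsIn T) :=
  ⟨⟨⊤, by rw [Submodule.top_coe, PrimeSpectrum.zeroLocus_univ]; exact Set.empty_subset _⟩⟩

/-- The arrow of an inclusion. -/
def arr {J J' : Ideal A} (h : mem T J) (h' : mem T J') (hle : J' ≤ J) :
    idx J h ⟶ idx J' h' :=
  (ObjectProperty.homMk (homOfLE hle) : (⟨J', h'⟩ : Dual2.IdealsIn T) ⟶ ⟨J, h⟩).op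

lemma le_of_arr {X Y : Dual2.IdealsIn T} (f : X ⟶ Y) : X.obj ≤ Y.obj :=
  leOfHom ((Dual2.idealsInDiagram T).map f)

instance : IsFiltered (Dual2.IdealsIn T)ᵒᵖ where
  cocone_objs X Y := ⟨idx (X.unop.obj * Y.unop.obj) (mem_mul X.unop.property Y.unop.property),
    arr X.unop.property _ Ideal.mul_le_left, arr Y.unop.property _ Ideal.mul_le_right, trivial⟩
  cocone_maps X Y f g := ⟨Y, 𝟙 Y, by
    rw [show f = g from Quiver.Hom.unop_inj (ObjectProperty.hom_ext _ (Subsingleton.elim _ _))]⟩

/-- The diagram. -/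
noncomputable abbrev diag (T : Set (PrimeSpectrum A)) (X : Dual.D A) :
    (Dual2.IdealsIn T)ᵒᵖ ⥤ ModuleCat.{u + 1} A :=
  (localCohomology.ringModIdeals (Dual2.idealsInDiagram T) ⋙
      DerivedCategory.singleFunctor (ModuleCat.{u} A) 0).op ⋙ (linearYoneda A (Dual.D A)).obj X

/-- `A/J` in `D(A)`. -/
noncomputable abbrev qD (J : Ideal A) : Dual.D A :=
  (DerivedCategory.singleFunctor (ModuleCat.{u} A) 0).obj (ModuleCat.of A (A ⧸ J))

/-- The quotient map `A/J' → A/J`. -/
noncomputable abbrev qq {J J' : Ideal A} (h : J' ≤ J) :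
    ModuleCat.of A (A ⧸ J') ⟶ ModuleCat.of A (A ⧸ J) :=
  ModuleCat.ofHom (Submodule.mapQ J' J LinearMap.id h)

/-- The class of a morphism. -/
noncomputable def cl {X : Dual.D A} (J : Ideal A) (h : mem T J) :
    (qD J ⟶ X) →ₗ[A] (colimit (diag T X) : ModuleCat.{u + 1} A) :=
  (colimit.ι (diag T X) (idx J h)).hom

lemma exists_rep {X : Dual.D A} (x : (colimit (diag T X) : ModuleCat.{u + 1} A)) :
    ∃ (J : Ideal A) (h : mem T J) (g : qD J ⟶ X), cl J h g = x := by
  have : PreservesFilteredColimitsOfSize.{u, u} (forget AddCommGrpCat.{u + 1}) :=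
    preservesFilteredColimitsOfSize_shrink.{u, u + 1, u, u + 1} _
  have : PreservesColimit (diag T X) (forget (ModuleCat.{u + 1} A)) :=
    inferInstanceAs (PreservesColimit _
      (forget₂ (ModuleCat.{u + 1} A) AddCommGrpCat.{u + 1} ⋙ forget AddCommGrpCat.{u + 1}))
  obtain ⟨j, g, rfl⟩ := Concrete.colimit_exists_rep (diag T X) x
  exact ⟨j.unop.obj, j.unop.property, g, rfl⟩

lemma cl_map {X : Dual.D A} {J J' : Ideal A} (h : mem T J) (h' : mem T J') (hle : J' ≤ J)
    (g : qD J ⟶ X) :
    cl J' h' ((DerivedCategory.singleFunctor (ModuleCat.{u} A) 0).map (qq hle) ≫ g) = cl J h g :=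
  congr($(colimit.w (diag T X) (arr h h' hle)) g)

lemma cl_eq_zero_iff {X : Dual.D A} {J : Ideal A} (h : mem T J) (g : qD J ⟶ X) :
    cl J h g = 0 ↔ ∃ (J' : Ideal A) (_ : mem T J') (hle : J' ≤ J),
      (DerivedCategory.singleFunctor (ModuleCat.{u} A) 0).map (qq hle) ≫ g = 0 := by
  have : PreservesFilteredColimitsOfSize.{u, u} (forget AddCommGrpCat.{u + 1}) :=
    preservesFilteredColimitsOfSize_shrink.{u, u + 1, u, u + 1} _
  have : PreservesColimit (diag T X) (forget (ModuleCat.{u + 1} A)) :=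
    inferInstanceAs (PreservesColimit _
      (forget₂ (ModuleCat.{u + 1} A) AddCommGrpCat.{u + 1} ⋙ forget AddCommGrpCat.{u + 1}))
  refine ⟨fun e => ?_, fun ⟨J', h', hle, e⟩ => ?_⟩
  · have e' : (colimit.ι (diag T X) (idx J h)).hom g = (colimit.ι (diag T X) (idx J h)).hom 0 :=
      e.trans (map_zero (colimit.ι (diag T X) (idx J h)).hom).symm
    obtain ⟨k, f₁, f₂, hk⟩ := Concrete.colimit_exists_of_rep_eq (diag T X) _ _ e'
    exact ⟨k.unop.obj, k.unop.property, le_of_arr f₁.unop,
      hk.trans (map_zero ((diag T X).map f₂).hom)⟩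
  · rw [← cl_map h h' hle g, e, map_zero]

/-- Functoriality. -/
noncomputable def hmap {X Y : Dual.D A} (α : X ⟶ Y) :
    (colimit (diag T X) : ModuleCat.{u + 1} A) →ₗ[A] (colimit (diag T Y) : ModuleCat.{u + 1} A) :=
  (colimMap (Functor.whiskerLeft _ ((linearYoneda A (Dual.D A)).map α))).hom

lemma hmap_cl {X Y : Dual.D A} (α : X ⟶ Y) {J : Ideal A} (h : mem T J) (g : qD J ⟶ X) :
    hmap α (cl J h g) = cl J h (g ≫ α) :=
  congr($(ι_colimMap (Functor.whiskerLeft
    ((localCohomology.ringModIdeals (Dual2.idealsInDiagram T) ⋙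
      DerivedCategory.singleFunctor (ModuleCat.{u} A) 0).op)
    ((linearYoneda A (Dual.D A)).map α)) (idx J h)) g)

lemma smul_eq_zero_of_smul_id {X : Dual.D A} {a : A} (ha : a • 𝟙 X = 0)
    (x : (colimit (diag T X) : ModuleCat.{u + 1} A)) : a • x = 0 := by
  obtain ⟨J, h, g, rfl⟩ := exists_rep x
  rw [← map_smul, show a • g = g ≫ (a • 𝟙 X) by rw [Linear.comp_smul, Category.comp_id],
    ha, comp_zero, map_zero]

/-- Exactness at the middle term of a distinguished triangle. -/
theorem exact_hmap (S : Triangle (Dual.D A)) (hS : S ∈ distTriang (Dual.D A)) (i : ℤ) :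
    Function.Exact (hmap (T := T) (S.mor₁⟦i⟧')) (hmap (T := T) (S.mor₂⟦i⟧')) := by
  intro x
  constructor
  · intro hx
    obtain ⟨J, h, g, rfl⟩ := exists_rep x
    rw [hmap_cl, cl_eq_zero_iff] at hx
    obtain ⟨J', h', hle, hg⟩ := hx
    let g' := (DerivedCategory.singleFunctor (ModuleCat.{u} A) 0).map (qq hle) ≫ g
    obtain ⟨f, hf⟩ := (shiftFunctor (Dual.D A) i).map_surjective
      (((shiftEquiv (Dual.D A) i).counitIso.app (qD J')).hom ≫ g')
    have h0 : f ≫ S.mor₂ = 0 := by
      apply (shiftFunctor (Dual.D A) i).map_injective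
      rw [Functor.map_comp, Functor.map_zero]
      refine (congrArg (· ≫ S.mor₂⟦i⟧') hf).trans ?_
      refine (Category.assoc _ _ _).trans ?_
      rw [show g' ≫ S.mor₂⟦i⟧' = 0 from (Category.assoc _ _ _).trans hg]
      exact comp_zero
    obtain ⟨l, hl⟩ := Triangle.coyoneda_exact₂ S hS f h0
    refine ⟨cl J' h' (((shiftEquiv (Dual.D A) i).counitIso.app (qD J')).inv ≫ l⟦i⟧'), ?_⟩
    rw [hmap_cl, ← cl_map h h' hle g]
    refine congrArg (cl J' h') ?_
    refine (Category.assoc _ _ _).trans ?_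
    refine (congrArg (((shiftEquiv (Dual.D A) i).counitIso.app (qD J')).inv ≫ ·)
      (((shiftFunctor (Dual.D A) i).map_comp l S.mor₁).symm.trans
        (congrArg (shiftFunctor (Dual.D A) i).map hl.symm))).trans ?_
    exact (congrArg (((shiftEquiv (Dual.D A) i).counitIso.app (qD J')).inv ≫ ·) hf).trans
      (Iso.inv_hom_id_assoc _ _)
  · rintro ⟨y, rfl⟩
    obtain ⟨J, h, g, rfl⟩ := exists_rep y
    rw [hmap_cl, hmap_cl, Category.assoc, ← Functor.map_comp, comp_distTriang_mor_zero₁₂ _ hS,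
      Functor.map_zero, comp_zero, map_zero]

/-- The isomorphism induced by an isomorphism. -/
noncomputable def hiso {X Y : Dual.D A} (e : X ≅ Y) :
    (colimit (diag T X) : ModuleCat.{u + 1} A) ≃ₗ[A] (colimit (diag T Y) : ModuleCat.{u + 1} A) :=
  (HasColimit.isoOfNatIso (Functor.isoWhiskerLeft _
    ((linearYoneda A (Dual.D A)).mapIso e))).toLinearEquiv

section Exact

variable (S : Triangle (Dual.D A)) (hS : S ∈ distTriang (Dual.D A)) (i : ℤ)

include hS in
lemma smul_eq_zero_mid {J₁ J₃ : Ideal A}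
    (h₁ : ∀ a ∈ J₁, ∀ x : Dual2.HDT A T S.obj₁ i, a • x = 0)
    (h₃ : ∀ a ∈ J₃, ∀ x : Dual2.HDT A T S.obj₃ i, a • x = 0) :
    ∀ a ∈ J₁ * J₃, ∀ x : Dual2.HDT A T S.obj₂ i, a • x = 0 := by
  intro a ha x
  refine Submodule.mul_induction_on ha (fun b hb c hc => ?_) fun p q hp hq => by
    rw [add_smul, hp, hq, add_zero]
  obtain ⟨y, hy⟩ := (exact_hmap S hS i (c • x)).1 ((map_smul _ _ _).trans (h₃ c hc _))
  rw [mul_smul, ← hy, ← map_smul, h₁ b hb y, map_zero]

include hS in
lemma finite_mid [IsNoetherianRing A] (h₁ : Module.Finite A (Dual2.HDT A T S.obj₁ i))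
    (h₃ : Module.Finite A (Dual2.HDT A T S.obj₃ i)) : Module.Finite A (Dual2.HDT A T S.obj₂ i) := by
  have := h₁
  have := h₃
  have hex := exact_hmap (T := T) S hS i
  refine ⟨Submodule.fg_of_fg_map_of_fg_inf_ker (hmap (T := T) (S.mor₂⟦i⟧')) ?_ ?_⟩
  · exact IsNoetherian.noetherian _
  · rw [top_inf_eq, hex.linearMap_ker_eq, LinearMap.range_eq_map]
    exact Submodule.FG.map _ (Module.Finite.fg_top (R := A))

end Exact

/-- `HDT` of a shift. -/
noncomputable def shiftEquivHDT (K : Dual.D A) (a b c : ℤ) (h : a + b = c) :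
    Dual2.HDT A T (K⟦a⟧) b ≃ₗ[A] Dual2.HDT A T K c :=
  hiso ((shiftFunctorAdd' (Dual.D A) a b c h).app K).symm

lemma eq_zero_below {K : Dual.D A} {a : ℤ} (hKa : ∀ i : ℤ, i < a → Subsingleton (Dual.HD A K i))
    {i : ℤ} (hi : i < a) (x : Dual2.HDT A T K i) : x = 0 := by
  obtain ⟨J, h, g, rfl⟩ := exists_rep x
  have hK : K.IsGE a := (DerivedCategory.isGE_iff _ _).2 fun j hj =>
    @ModuleCat.isZero_of_subsingleton _ _ _ (hKa j hj)
  have hK' : (K⟦i⟧).IsGE (a - i) := DerivedCategory.TStructure.t.isGE_shift K a i (a - i) (by omega)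
  have : g = 0 := DR.Basic.hom_eq_zero_of_isLE_of_isGE g (a := 0) (b := a - i) (by omega)
    inferInstance hK'
  rw [this, map_zero]

variable [IsNoetherianRing A]

/-- Finiteness for a finite module killed by a power of an ideal of the index category. -/
theorem finite_single {J : Ideal A} (hJ : mem T J) (N : ModuleCat.{u} A) [Module.Finite A N] (m : ℕ)
    (hN : ∀ a ∈ J ^ m, ∀ x : N, a • x = 0) (a i : ℤ) :
    Module.Finite A (Dual2.HDT A T ((DerivedCategory.singleFunctor (ModuleCat.{u} A) a).obj N) i) := by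
  let K : Dual.D A := (DerivedCategory.singleFunctor (ModuleCat.{u} A) a).obj N
  obtain ⟨L, hL, hinj, ⟨e⟩⟩ := RGamma.exists_rep (K⟦i⟧)
  let X := DerivedCategory.Q.obj L
  have hkill : ∀ b ∈ J ^ m, b • 𝟙 X = 0 := fun b hb => by
    have h1 : b • 𝟙 N = 0 := ModuleCat.hom_ext (LinearMap.ext fun x => hN b hb x)
    have h2 : b • 𝟙 (K⟦i⟧) = 0 := by
      have h := congrArg (fun f => ((DerivedCategory.singleFunctor (ModuleCat.{u} A) a).map f)⟦i⟧') h1
      simpa only [Functor.map_smul, CategoryTheory.Functor.map_id, Functor.map_zero] using h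
    calc b • 𝟙 X = e.inv ≫ (b • 𝟙 (K⟦i⟧)) ≫ e.hom := by simp; rfl
      _ = 0 := by rw [h2, zero_comp, comp_zero]
  let e₀ := (DerivedCategory.homologyFunctor (ModuleCat.{u} A) 0).mapIso e ≪≫ RGamma.hdIso L 0
  have hfin : Module.Finite A (L.homology 0) := by
    have hfin0 : Module.Finite A ((DerivedCategory.homologyFunctor (ModuleCat.{u} A) 0).obj (K⟦i⟧)) := by
      have es := ((DerivedCategory.homologyFunctor (ModuleCat.{u} A) 0).shiftIso i 0 i (add_zero i)).app K
      suffices hK : Module.Finite A (Dual.HD A K i) by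
        have : Module.Finite A (((DerivedCategory.homologyFunctor (ModuleCat.{u} A) 0).shift i).obj K) := hK
        exact Module.Finite.equiv es.toLinearEquiv.symm
      by_cases hia : i = a
      · subst hia
        have : Module.Finite A ((𝟭 (ModuleCat.{u} A)).obj N) := inferInstanceAs (Module.Finite A N)
        exact Module.Finite.equiv (((DerivedCategory.singleFunctorCompHomologyFunctorIso
          (ModuleCat.{u} A) i).app N).toLinearEquiv).symm
      · have : K.IsLE a := inferInstance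
        have : K.IsGE a := inferInstance
        rcases lt_or_gt_of_ne hia with h | h
        · have := ModuleCat.subsingleton_of_isZero ((DerivedCategory.isGE_iff K a).1 inferInstance i h)
          exact Module.Finite.of_finite
        · have := ModuleCat.subsingleton_of_isZero ((DerivedCategory.isLE_iff K a).1 inferInstance i h)
          exact Module.Finite.of_finite
    exact Module.Finite.equiv e₀.toLinearEquiv
  -- the value at `1` gives an injection into the cohomology
  let M' := fun j : (Dual2.IdealsIn T)ᵒᵖ => ModuleCat.of A (A ⧸ j.unop.obj)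
  let χ : ∀ j, PreHom (M' j) L →ₗ[A] L.homology 0 := fun j =>
    cls L 0 ∘ₗ LinearMap.codRestrict (Cyc L 0)
      { toFun := fun f => f.1.hom (Ideal.Quotient.mk j.unop.obj 1)
        map_add' := fun _ _ => rfl
        map_smul' := fun _ _ => rfl }
      fun f => congr($(f.2) (Ideal.Quotient.mk j.unop.obj 1))
  have hker : ∀ j, LinearMap.ker (psi (M' j) L) ≤ LinearMap.ker (χ j) := fun j f hf => by
    obtain ⟨g, hg⟩ := (psi_eq_zero_iff f).1 hf
    rw [LinearMap.mem_ker]
    exact (cls_eq_zero_iff L 0 _).2 ⟨g.hom (Ideal.Quotient.mk j.unop.obj 1),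
      congr($hg (Ideal.Quotient.mk j.unop.obj 1))⟩
  let φ := fun j => (LinearMap.ker (psi (M' j) L)).liftQ (χ j) (hker j) ∘ₗ
    ((psi (M' j) L).quotKerEquivOfSurjective psi_surjective).symm.toLinearMap
  have hφ : ∀ j f, φ j (psi (M' j) L f) = χ j f := fun j f => by
    simp only [φ, LinearMap.comp_apply, LinearEquiv.coe_coe]
    rw [show ((psi (M' j) L).quotKerEquivOfSurjective psi_surjective).symm (psi (M' j) L f) =
      Submodule.Quotient.mk f from (LinearEquiv.symm_apply_eq _).2 rfl]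
    rfl
  let c : Cocone (diag T X) :=
    { pt := ModuleCat.of A (ULift.{u + 1} (L.homology 0))
      ι :=
        { app := fun j => ModuleCat.ofHom
            ((ULift.moduleEquiv.symm : L.homology 0 ≃ₗ[A] _).toLinearMap ∘ₗ φ j)
          naturality := fun j k g => by
            ext x
            obtain ⟨f, rfl⟩ := psi_surjective (M := M' j) x
            have hle : k.unop.obj ≤ j.unop.obj := le_of_arr g.unop
            have hq : qq hle ≫ f.1 ∈ PreHom (M' k) L := by
              show (qq hle ≫ f.1) ≫ _ = 0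
              rw [Category.assoc, show f.1 ≫ L.d 0 1 = 0 from f.2, comp_zero]
            refine congrArg ULift.up ((congrArg (φ k) (map_comp_psi (qq hle) f hq)).trans ?_)
            exact (hφ k _).trans (Eq.trans rfl (hφ j f).symm) } }
  have hinjc : Function.Injective (colimit.desc (diag T X) c).hom := by
    refine (injective_iff_map_eq_zero _).2 fun x hx => ?_
    obtain ⟨I₀, h₀, g, rfl⟩ := exists_rep x
    obtain ⟨f, rfl⟩ := psi_surjective (M := ModuleCat.of A (A ⧸ I₀)) g
    have hx' : χ (idx I₀ h₀) f = 0 := (hφ (idx I₀ h₀) f).symm.trans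
      (congrArg ULift.down ((congr($(colimit.ι_desc c (idx I₀ h₀))
        (psi (M' (idx I₀ h₀)) L f))).symm.trans hx) :)
    obtain ⟨w, hw⟩ := (cls_eq_zero_iff L 0 _).1 hx'
    obtain ⟨l, hl⟩ := exists_ide_eq (IsNoetherian.noetherian (I₀ * J))
    have hq := quasiIso_gamι l L (fun k => good_of_injective l _
      (Module.injective_module_of_injective_object A _ (inj := hinj k))) fun b hb k y => ⟨m, by
        have hb' : b ^ m ∈ J ^ m := Ideal.pow_mem_pow (Ideal.mul_le_right (I := I₀) (hl ▸ mem_ide hb)) m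
        have hz : HomologicalComplex.homologyMap (b ^ m • 𝟙 L) k = 0 := by
          have hQ : DerivedCategory.Q.map (b ^ m • 𝟙 L) = 0 := by
            rw [Functor.map_smul, CategoryTheory.Functor.map_id]; exact hkill _ hb'
          have e' := (DerivedCategory.homologyFunctorFactors (ModuleCat.{u} A) k).hom.naturality
            (b ^ m • 𝟙 L)
          simp only [Functor.comp_map, hQ, Functor.map_zero, zero_comp] at e'
          exact (cancel_epi (((DerivedCategory.homologyFunctorFactors (ModuleCat.{u} A) k).app L).hom)).1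
            (e'.symm.trans comp_zero.symm)
        obtain ⟨z, rfl⟩ := cls_surjective L k y
        have h1 := homologyMap_cls k (b ^ m • 𝟙 L) z
        rw [hz] at h1
        rw [← map_smul]
        exact h1.symm⟩
    rw [hl] at hq
    have hz1 : f.1.hom (Ideal.Quotient.mk I₀ 1) ∈ DRing.torsionSub (I₀ * J) (L.X 0) := by
      refine ⟨1, fun b hb => ?_⟩
      rw [pow_one] at hb
      rw [← map_smul, show b • (Ideal.Quotient.mk I₀ 1 : A ⧸ I₀) = 0 by
        rw [Algebra.smul_def, Ideal.Quotient.algebraMap_eq,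
          Ideal.Quotient.eq_zero_iff_mem.2 (Ideal.mul_le_left hb), zero_mul], map_zero]
    have hz2 : (⟨_, hz1⟩ : DRing.torsionSub (I₀ * J) (L.X 0)) ∈ Cyc ((gam (I₀ * J)).obj L) 0 :=
      Subtype.ext (congr($(f.2) (Ideal.Quotient.mk I₀ 1)))
    have hzero : cls ((gam (I₀ * J)).obj L) 0 ⟨_, hz2⟩ = 0 := by
      apply ((ConcreteCategory.isIso_iff_bijective
        (HomologicalComplex.homologyMap (gamι (I₀ * J) L) 0)).1 inferInstance).1
      refine (homologyMap_cls 0 (gamι (I₀ * J) L) ⟨_, hz2⟩).trans (Eq.trans ?_ (map_zero _).symm)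
      exact hx'
    obtain ⟨⟨y, p, hp⟩, hy⟩ := (cls_eq_zero_iff _ 0 _).1 hzero
    have hle : (I₀ * J) ^ (p + 1) ≤ I₀ :=
      (Ideal.pow_le_self (Nat.succ_ne_zero p)).trans Ideal.mul_le_left
    refine (cl_eq_zero_iff h₀ _).2 ⟨_, mem_pow (mem_mul h₀ hJ) (p + 1), hle, ?_⟩
    have hqm : qq hle ≫ f.1 ∈ PreHom (ModuleCat.of A (A ⧸ (I₀ * J) ^ (p + 1))) L := by
      show (qq hle ≫ f.1) ≫ _ = 0
      rw [Category.assoc, show f.1 ≫ L.d 0 1 = 0 from f.2, comp_zero]
    refine (map_comp_psi (qq hle) f hqm).trans ((psi_eq_zero_iff _).2 ?_)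
    obtain ⟨g', hg'⟩ := exists_evalTors (I₀ * J) (n := p + 1) y fun b hb =>
      hp b (Ideal.pow_le_pow_right (Nat.le_succ p) hb)
    refine ⟨g', quo_hom_ext (I₀ * J) ?_⟩
    show (L.d (-1) 0).hom (g'.hom _) = f.1.hom _
    rw [hg']
    exact congrArg Subtype.val hy
  have : Module.Finite A (L.homology 0) := hfin
  have : Module.Finite A (ULift.{u + 1} (L.homology 0)) :=
    Module.Finite.equiv (ULift.moduleEquiv.symm : L.homology 0 ≃ₗ[A] _)
  have : Module.Finite A (colimit (diag T X) : ModuleCat.{u + 1} A) :=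
    Module.Finite.of_injective (colimit.desc (diag T X) c).hom hinjc
  exact Module.Finite.equiv (hiso (T := T) e.symm)

/-- Finiteness implies annihilation. -/
theorem exists_annihilator_of_finite (K : Dual.D A) (i : ℤ) (h : Module.Finite A (Dual2.HDT A T K i)) :
    ∃ J : Ideal A, mem T J ∧ ∀ a ∈ J, ∀ y : Dual2.HDT A T K i, a • y = 0 := by
  classical
  obtain ⟨s, hs⟩ := h.fg_top
  have key : ∀ t : Finset (Dual2.HDT A T K i), ∃ J : Ideal A, mem T J ∧
      ∀ a ∈ J, ∀ y ∈ t, a • y = 0 := fun t => by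
    induction t using Finset.induction with
    | empty => exact ⟨⊤, by
        rw [mem, Submodule.top_coe, PrimeSpectrum.zeroLocus_univ]; exact Set.empty_subset _, by simp⟩
    | insert x t _ ih =>
      obtain ⟨J₁, h₁, h₁'⟩ := ih
      obtain ⟨J₂, h₂, g, rfl⟩ := exists_rep x
      refine ⟨J₂ * J₁, mem_mul h₂ h₁, fun a ha y hy => ?_⟩
      rcases Finset.mem_insert.1 hy with rfl | hy
      · rw [← map_smul]
        have hq : a • 𝟙 (ModuleCat.of A (A ⧸ J₂)) = 0 := by
          refine ModuleCat.hom_ext (Submodule.linearMap_qext _ (LinearMap.ext_ring ?_))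
          show a • (Ideal.Quotient.mk J₂ 1) = 0
          rw [Algebra.smul_def, Ideal.Quotient.algebraMap_eq,
            Ideal.Quotient.eq_zero_iff_mem.2 (Ideal.mul_le_left ha), zero_mul]
        have h' := congrArg (fun f => (DerivedCategory.singleFunctor (ModuleCat.{u} A) 0).map f) hq
        simp only [Functor.map_smul, CategoryTheory.Functor.map_id, Functor.map_zero] at h'
        rw [show a • g = (a • 𝟙 (qD J₂)) ≫ g by rw [Linear.smul_comp, Category.id_comp]]
        rw [h', zero_comp, map_zero]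
      · exact h₁' a (Ideal.mul_le_right ha) y hy
  obtain ⟨J, hJ, hJ'⟩ := key s
  refine ⟨J, hJ, fun a ha y => ?_⟩
  have hy : y ∈ Submodule.span A (s : Set (Dual2.HDT A T K i)) := hs ▸ Submodule.mem_top
  induction hy using Submodule.span_induction with
  | mem x hx => exact hJ' a ha x hx
  | zero => exact smul_zero _
  | add p q _ _ hp hq => rw [smul_add, hp, hq, add_zero]
  | smul r p _ hp => rw [smul_comm, hp, smul_zero]

end Groth.Agent.Lib.RGamma.HDT
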